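import Cfsg.Agent.Lib.Brauer.ProjExt
import Cfsg.Agent.Lib.Clifford.Basic
import Cfsg.Agent.Lib.Characters.Degree

/-!
The degree of an irreducible representation divides the index of a normal subgroup acting by
scalars; consequently `χ(1)/ϑ(1)` divides `[G : N]` for a constituent `ϑ` of a restriction.
-/

set_option autoImplicit false

namespace Cfsg.Agent.Lib.Brauer.DegreeRatio

open Cfsg.Agent.Lib
open scoped ComplexConjugate

universe u v w

/-- Faithful case: a central subgroup acting by scalars. -/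
theorem finrank_dvd_index_faithful {Γ : Type u} [Group Γ] [Finite Γ] {U : Type v} [AddCommGroup U]
    [Module ℂ U] [FiniteDimensional ℂ U] (R : Representation ℂ Γ U) [R.IsIrreducible]
    (hinj : Function.Injective R) (A : Subgroup Γ) (hA : ∀ a ∈ A, ∃ c : ℂ, R a = c • 1) :
    Module.finrank ℂ U ∣ A.index := by
  classical
  haveI := Fintype.ofFinite Γ
  have hcen : ∀ a ∈ A, ∀ g : Γ, g * a = a * g := by
    intro a ha g
    obtain ⟨c, hc⟩ := hA a ha
    apply hinj
    rw [map_mul, map_mul, hc, mul_smul_comm, smul_mul_assoc, mul_one, one_mul]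
  haveI : A.Normal := ⟨fun a ha g => by rw [hcen a ha g, mul_inv_cancel_right]; exact ha⟩
  haveI := Fintype.ofFinite (Γ ⧸ A)
  haveI : Finite (ConjClasses (Γ ⧸ A)) := Finite.of_surjective _ ConjClasses.mk_surjective
  haveI := Fintype.ofFinite (ConjClasses (Γ ⧸ A))
  set e : ℕ := Module.finrank ℂ U with he
  have hepos : 0 < e := Characters.Basic.finrank_pos_of_isIrreducible R
  set χ : Γ → ℂ := R.character with hχ
  have hmulA : ∀ (g : Γ) (a : Γ), a ∈ A → ∀ c : ℂ, R a = c • 1 →
      χ (g * a) = c * χ g ∧ χ (g * a)⁻¹ = c⁻¹ * χ g⁻¹ := by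
    intro g a ha c hc
    have hne : c ≠ 0 := by
      intro h0
      have h1 : R (a * a⁻¹) = 0 := by rw [map_mul, hc, h0, zero_smul, zero_mul]
      rw [mul_inv_cancel, map_one] at h1
      have := Clifford.Rep.nontrivial_of_irreducible R
      exact one_ne_zero h1
    have hinv : R a⁻¹ = c⁻¹ • 1 := by
      have h1 : R a⁻¹ * R a = 1 := by rw [← map_mul, inv_mul_cancel, map_one]
      rw [hc, mul_smul_comm, mul_one] at h1
      exact (eq_inv_smul_iff₀ hne).2 h1
    constructor
    · show LinearMap.trace ℂ U (R (g * a)) = c * LinearMap.trace ℂ U (R g)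
      rw [map_mul, hc, mul_smul_comm, mul_one, map_smul, smul_eq_mul]
    · show LinearMap.trace ℂ U (R (g * a)⁻¹) = c⁻¹ * LinearMap.trace ℂ U (R g⁻¹)
      rw [mul_inv_rev, map_mul, hinv, smul_mul_assoc, one_mul, map_smul, smul_eq_mul]
  -- the class function `χ(g) χ(g⁻¹)` on the quotient
  let F : Γ → ℂ := fun g => χ g * χ g⁻¹
  have hFA : ∀ (g : Γ) (a : Γ), a ∈ A → F (g * a) = F g := by
    intro g a ha
    obtain ⟨c, hc⟩ := hA a ha
    obtain ⟨h1, h2⟩ := hmulA g a ha c hc
    have hne : c ≠ 0 := by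
      intro h0
      have h3 : R (a * a⁻¹) = 0 := by rw [map_mul, hc, h0, zero_smul, zero_mul]
      rw [mul_inv_cancel, map_one] at h3
      have := Clifford.Rep.nontrivial_of_irreducible R
      exact one_ne_zero h3
    show χ (g * a) * χ (g * a)⁻¹ = χ g * χ g⁻¹
    rw [h1, h2]
    field_simp
  let f : Γ ⧸ A → ℂ := Quotient.lift F (fun x y hxy => by
    have h : x⁻¹ * y ∈ A := QuotientGroup.leftRel_apply.1 hxy
    rw [← hFA x _ h, mul_inv_cancel_left])
  have hfmk : ∀ g : Γ, f (g : Γ ⧸ A) = F g := fun g => rfl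
  have hsumG : ∑ g : Γ, F g = (Nat.card Γ : ℂ) := by
    have h : Cfsg.classInner χ χ = 1 :=
      Characters.Basic.classInner_self_irr (Characters.Basic.irrChar R)
    rw [Cfsg.classInner, inv_mul_eq_one₀ Induced.Basic.natCard_ne_zero] at h
    rw [h]
    exact Finset.sum_congr rfl fun g _ => by rw [← Characters.Diag.char_inv_eq_conj]
  have hsumQ : ∑ q : Γ ⧸ A, f q = (A.index : ℂ) := by
    have h1 : ∑ g : Γ, F g = (Nat.card A : ℂ) * ∑ q : Γ ⧸ A, f q := by
      rw [← Finset.sum_fiberwise Finset.univ (fun g : Γ => (g : Γ ⧸ A)), Finset.mul_sum]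
      refine Finset.sum_congr rfl fun q _ => ?_
      induction q using QuotientGroup.induction_on with
      | H a =>
        rw [Finset.sum_congr rfl (fun x hx => by rw [← hfmk x, (Finset.mem_filter.1 hx).2] :
          ∀ x ∈ Finset.univ.filter (fun x : Γ => (x : Γ ⧸ A) = (a : Γ ⧸ A)), F x = f (a : Γ ⧸ A))]
        rw [Finset.sum_const, nsmul_eq_mul]
        congr 1
        rw [Nat.card_eq_fintype_card, ← Finset.card_univ]
        norm_cast
        refine Finset.card_bij' (fun x hx => (⟨a⁻¹ * x, ?_⟩ : A)) (fun s _ => a * (s : Γ)) ?_ ?_ ?_ ?_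
        · exact QuotientGroup.eq.1 (Finset.mem_filter.1 hx).2.symm
        · intros; simp
        · intros; simp [QuotientGroup.eq]
        · intros; simp
        · intros; simp
    rw [hsumG, ← A.card_mul_index, Nat.cast_mul] at h1
    exact (mul_left_cancel₀ (by exact_mod_cast Nat.card_pos.ne') h1).symm
  have hint : IsIntegral ℤ ((A.index : ℂ) / e) := by
    rw [← hsumQ, ← Finset.sum_fiberwise Finset.univ (ConjClasses.mk : Γ ⧸ A → ConjClasses (Γ ⧸ A)),
      Finset.sum_div]
    refine IsIntegral.sum _ fun c _ => ?_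
    obtain ⟨q, rfl⟩ := ConjClasses.mk_surjective c
    obtain ⟨g, rfl⟩ := QuotientGroup.mk_surjective q
    have hval : ∀ r ∈ Finset.univ.filter (fun r : Γ ⧸ A => ConjClasses.mk r = ConjClasses.mk (g : Γ ⧸ A)),
        f r = F g := by
      intro r hr
      obtain ⟨x, rfl⟩ := QuotientGroup.mk_surjective r
      obtain ⟨y, hy⟩ := isConj_iff.1 (ConjClasses.mk_eq_mk_iff_isConj.1 (Finset.mem_filter.1 hr).2)
      obtain ⟨z, rfl⟩ := QuotientGroup.mk_surjective y
      have hy' : ((z * x * z⁻¹ : Γ) : Γ ⧸ A) = (g : Γ ⧸ A) := hy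
      obtain ⟨a, ha, hae⟩ : ∃ a ∈ A, g = z * x * z⁻¹ * a := ⟨(z * x * z⁻¹)⁻¹ * g,
        QuotientGroup.eq.1 hy', by rw [mul_inv_cancel_left]⟩
      rw [hfmk, hae, hFA _ a ha]
      show χ x * χ x⁻¹ = χ (z * x * z⁻¹) * χ (z * x * z⁻¹)⁻¹
      have e1 : (z * x * z⁻¹)⁻¹ = z * x⁻¹ * z⁻¹ := by group
      rw [hχ, e1, Representation.char_conj, Representation.char_conj]
    rw [Finset.sum_congr rfl hval, Finset.sum_const, nsmul_eq_mul]
    by_cases h0 : χ g = 0
    · have : F g = 0 := by show χ g * _ = 0; rw [h0, zero_mul]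
      rw [this, mul_zero, zero_div]
      exact isIntegral_zero
    have hpre : Subgroup.centralizer ({g} : Set Γ) =
        (Subgroup.centralizer ({(g : Γ ⧸ A)} : Set (Γ ⧸ A))).comap (QuotientGroup.mk' A) := by
      ext y
      rw [Subgroup.mem_comap, Subgroup.mem_centralizer_singleton_iff,
        Subgroup.mem_centralizer_singleton_iff]
      constructor
      · intro h
        rw [QuotientGroup.mk'_apply, ← QuotientGroup.mk_mul, ← QuotientGroup.mk_mul, h]
      · intro h
        have h' : ((y * g : Γ) : Γ ⧸ A) = ((g * y : Γ) : Γ ⧸ A) := h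
        have ha : (y * g)⁻¹ * (g * y) ∈ A := QuotientGroup.eq.1 h'
        obtain ⟨c, hc⟩ := hA _ ha
        have h1 : χ (g * y * y⁻¹) = χ (y⁻¹ * (g * y)) := by
          rw [hχ, Representation.char_mul_comm]
        rw [mul_inv_cancel_right] at h1
        have h2 : y⁻¹ * (g * y) = g * ((y * g)⁻¹ * (g * y)) := by group
        rw [h2, (hmulA g _ ha c hc).1] at h1
        have hc1 : c = 1 := mul_right_cancel₀ h0 (by rw [one_mul]; exact h1.symm)
        have : R ((y * g)⁻¹ * (g * y)) = R 1 := by rw [hc, hc1, one_smul, map_one]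
        exact inv_mul_eq_one.1 (hinj this)
    have hcard : (Finset.univ.filter (fun r : Γ ⧸ A => ConjClasses.mk r = ConjClasses.mk (g : Γ ⧸ A))).card
        = (Subgroup.centralizer ({g} : Set Γ)).index := by
      rw [hpre, Subgroup.index_comap_of_surjective _ (QuotientGroup.mk'_surjective A),
        ← Induced.Integral.nat_card_carrier, Nat.card_eq_fintype_card, ← Set.toFinset_card]
      congr 1
      ext r
      simp [ConjClasses.mem_carrier_iff_mk_eq]
    rw [hcard]
    show IsIntegral ℤ (_ * (χ g * χ g⁻¹) / (e : ℂ))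
    rw [← mul_assoc, mul_div_right_comm]
    exact (Induced.Integral.isIntegral_centralCharacter R g).mul (Characters.Diag.isIntegral_char R g⁻¹)
  have hq : IsIntegral ℤ ((A.index : ℚ) / e) := by
    refine (isIntegral_algHom_iff ((algebraMap ℚ ℂ).toIntAlgHom)
      (algebraMap ℚ ℂ).injective).mp ?_
    simpa using hint
  obtain ⟨m, hm⟩ := IsIntegrallyClosed.isIntegral_iff.mp hq
  have : (m : ℚ) * e = (A.index : ℚ) := by
    rw [eq_intCast] at hm
    rw [hm, div_mul_cancel₀ _ (Nat.cast_ne_zero.mpr hepos.ne')]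
  exact Int.natCast_dvd_natCast.mp ⟨m, by rw [mul_comm]; exact_mod_cast this.symm⟩

/-- The degree divides the index of a subgroup acting by scalars. -/
theorem finrank_dvd_index_scalar {Γ : Type u} [Group Γ] [Finite Γ] {U : Type v} [AddCommGroup U]
    [Module ℂ U] [FiniteDimensional ℂ U] (R : Representation ℂ Γ U) [hR : R.IsIrreducible]
    (A : Subgroup Γ) (hA : ∀ a ∈ A, ∃ c : ℂ, R a = c • 1) :
    Module.finrank ℂ U ∣ A.index := by
  have hker : (Units.coeHom (Module.End ℂ U)).comp R.toHomUnits = R := MonoidHom.ext fun g => rfl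
  haveI : Finite R.toHomUnits.range :=
    Finite.of_surjective _ R.toHomUnits.rangeRestrict_surjective
  let π := R.toHomUnits.rangeRestrict
  let R' : Representation ℂ R.toHomUnits.range U :=
    (Units.coeHom (Module.End ℂ U)).comp R.toHomUnits.range.subtype
  have hπ : ∀ g, R' (π g) = R g := fun g => rfl
  haveI : R'.IsIrreducible := by
    have := Clifford.Rep.nontrivial_of_irreducible R
    haveI : Nontrivial (Subrepresentation R') :=
      ⟨⊥, ⊤, fun hh => (bot_ne_top : (⊥ : Submodule ℂ U) ≠ ⊤)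
        (congrArg Subrepresentation.toSubmodule hh)⟩
    refine ⟨fun S => ?_⟩
    let S' : Subrepresentation R := ⟨S.toSubmodule, fun g v hv => hπ g ▸ S.apply_mem_toSubmodule (π g) hv⟩
    rcases eq_bot_or_eq_top S' with hh | hh
    · left
      apply Subrepresentation.toSubmodule_injective
      show S'.toSubmodule = _
      rw [hh]; rfl
    · right
      apply Subrepresentation.toSubmodule_injective
      show S'.toSubmodule = _
      rw [hh]; rfl
  have h := finrank_dvd_index_faithful R' (fun a b hab => Subtype.ext (Units.ext hab)) (A.map π)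
    (by rintro _ ⟨a, ha, rfl⟩; obtain ⟨c, hc⟩ := hA a ha; exact ⟨c, (hπ a).trans hc⟩)
  exact h.trans (Subgroup.index_map_dvd A R.toHomUnits.rangeRestrict_surjective)

section multiplicity

open ProjExt

variable {G : Type u} [Group G] [Finite G] (N : Subgroup G) [hN : N.Normal]
  {V : Type v} [AddCommGroup V] [Module ℂ V] [FiniteDimensional ℂ V]
  (ρ : Representation ℂ N V) [hρ : ρ.IsIrreducible]
  {W : Type w} [AddCommGroup W] [Module ℂ W] [FiniteDimensional ℂ W]
  (σ : Representation ℂ G W) [hσ : σ.IsIrreducible]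

/-- The space of `N`-homomorphisms. -/
def homN : Submodule ℂ (V →ₗ[ℂ] W) where
  carrier := {f | ∀ n : N, (σ n).comp f = f.comp (ρ n)}
  add_mem' {f g} hf hg n := by rw [LinearMap.comp_add, LinearMap.add_comp, hf n, hg n]
  zero_mem' n := by simp
  smul_mem' c f hf n := by rw [LinearMap.comp_smul, LinearMap.smul_comp, hf n]

/-- The representation of the extension group on the multiplicity space. -/
noncomputable def multRep : Representation ℂ (Gam N ρ) (homN N ρ σ) where
  toFun γ :=
    { toFun := fun f => ⟨(σ (proj N ρ γ)).comp (f.1.comp (taut N ρ γ⁻¹)), fun n => by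
        refine LinearMap.ext fun v => ?_
        have h1 : taut N ρ γ⁻¹ (ρ n v) = ρ (cn N (proj N ρ γ⁻¹) n) (taut N ρ γ⁻¹ v) :=
          congrArg (fun T : Module.End ℂ V => T v) (taut_mul N ρ γ⁻¹ n)
        have h2 : ∀ x, σ ((cn N (proj N ρ γ⁻¹) n : N) : G) (f.1 x) = f.1 (ρ (cn N (proj N ρ γ⁻¹) n) x) :=
          fun x => congrArg (fun T : V →ₗ[ℂ] W => T x) (f.2 _)
        show σ (n : G) (σ (proj N ρ γ) (f.1 (taut N ρ γ⁻¹ v))) = σ (proj N ρ γ) (f.1 (taut N ρ γ⁻¹ (ρ n v)))
        rw [h1, ← h2, ← Module.End.mul_apply, ← map_mul, ← Module.End.mul_apply, ← map_mul]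
        congr 2
        simp [cn, mul_assoc]⟩
      map_add' := fun f g => by
        apply Subtype.ext; refine LinearMap.ext fun v => ?_
        simp
      map_smul' := fun c f => by
        apply Subtype.ext; refine LinearMap.ext fun v => ?_
        simp }
  map_one' := by
    refine LinearMap.ext fun f => ?_
    apply Subtype.ext; refine LinearMap.ext fun v => ?_
    show σ (proj N ρ 1) (f.1 (taut N ρ 1⁻¹ v)) = f.1 v
    simp
  map_mul' a b := by
    refine LinearMap.ext fun f => ?_
    apply Subtype.ext; refine LinearMap.ext fun v => ?_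
    show σ (proj N ρ (a * b)) (f.1 (taut N ρ (a * b)⁻¹ v)) =
      σ (proj N ρ a) (σ (proj N ρ b) (f.1 (taut N ρ b⁻¹ (taut N ρ a⁻¹ v))))
    rw [mul_inv_rev, map_mul (proj N ρ), map_mul σ, map_mul (taut N ρ)]
    rfl

theorem multRep_apply (γ : Gam N ρ) (f : homN N ρ σ) (v : V) :
    (multRep N ρ σ γ f).1 v = σ (proj N ρ γ) (f.1 (taut N ρ γ⁻¹ v)) := rfl

variable (hinv : ∀ g : G, (Clifford.Extension.conjRep N ρ g).character = ρ.character)

include hinv hρ hσ in
/-- The invariant case: the degree ratio is an integer dividing the index. -/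
theorem exists_ratio (hne : homN N ρ σ ≠ ⊥) :
    ∃ e : ℕ, Module.finrank ℂ W = e * Module.finrank ℂ V ∧ e ∣ N.index := by
  classical
  haveI := Fintype.ofFinite N
  haveI := finite_Gam N ρ
  have hVne := Clifford.Rep.nontrivial_of_irreducible ρ
  -- evaluation and an equivariant section, for a family spanning an invariant subspace
  have key : ∀ (S : Submodule ℂ (homN N ρ σ)), S ≠ ⊥ →
      (∀ γ, ∀ f ∈ S, multRep N ρ σ γ f ∈ S) →
      ∀ (k : ℕ) (b : Module.Basis (Fin k) ℂ S),
      ∃ (Φ : (Fin k → V) →ₗ[ℂ] W) (s : W →ₗ[ℂ] (Fin k → V)),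
        (∀ v, Φ v = ∑ i, (b i : homN N ρ σ).1 (v i)) ∧ Φ.comp s = LinearMap.id ∧
        ∀ (n : N) (w : W) (i : Fin k), s (σ n w) i = ρ n (s w i) := by
    intro S hS hSinv k b
    let Φ : (Fin k → V) →ₗ[ℂ] W :=
      ∑ i, ((b i : homN N ρ σ).1).comp (LinearMap.proj i)
    have hΦ : ∀ v, Φ v = ∑ i, (b i : homN N ρ σ).1 (v i) := fun v => by
      simp [Φ, LinearMap.sum_apply]
    have hmemR : ∀ (f : homN N ρ σ), f ∈ S → ∀ v, f.1 v ∈ LinearMap.range Φ := by
      intro f hf v
      refine ⟨fun i => b.repr ⟨f, hf⟩ i • v, ?_⟩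
      rw [hΦ]
      have h := congrArg (fun z : S => ((z : homN N ρ σ) : V →ₗ[ℂ] W) v) (b.sum_repr ⟨f, hf⟩)
      simp only [Submodule.coe_sum, Submodule.coe_smul, LinearMap.sum_apply, LinearMap.smul_apply] at h
      simp only [map_smul]
      exact h
    have hrange : LinearMap.range Φ = ⊤ := by
      have hstab : ∀ (g : G) (w : W), w ∈ LinearMap.range Φ → σ g w ∈ LinearMap.range Φ := by
        rintro g _ ⟨v, rfl⟩
        rw [hΦ, map_sum]
        refine Submodule.sum_mem _ fun i _ => ?_
        obtain ⟨γ, hγ⟩ := proj_surjective N ρ hinv g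
        have h1 : σ g ((b i : homN N ρ σ).1 (v i)) =
            (multRep N ρ σ γ (b i : homN N ρ σ)).1 (taut N ρ γ (v i)) := by
          rw [multRep_apply, hγ, ← Module.End.mul_apply (f := taut N ρ γ⁻¹), ← map_mul,
            inv_mul_cancel, map_one]
          rfl
        rw [h1]
        exact hmemR _ (hSinv γ _ (b i).2) _
      let T : Subrepresentation σ := ⟨LinearMap.range Φ, fun g w hw => hstab g w hw⟩
      rcases eq_bot_or_eq_top T with hT | hT
      · exfalso
        apply hS
        rw [Submodule.eq_bot_iff]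
        intro f hf
        apply Subtype.ext
        refine LinearMap.ext fun v => ?_
        have := hmemR f hf v
        have hT' : LinearMap.range Φ = ⊥ := congrArg Subrepresentation.toSubmodule hT
        rw [hT', Submodule.mem_bot] at this
        simpa using this
      · exact congrArg Subrepresentation.toSubmodule hT
    obtain ⟨s0, hs0⟩ := Φ.exists_rightInverse_of_surjective hrange
    let pk : N → Module.End ℂ (Fin k → V) := fun n => LinearMap.pi fun i => (ρ n).comp (LinearMap.proj i)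
    have hpk : ∀ (n : N) (v : Fin k → V), Φ (pk n v) = σ n (Φ v) := by
      intro n v
      rw [hΦ, hΦ, map_sum]
      refine Finset.sum_congr rfl fun i _ => ?_
      exact (congrArg (fun T : V →ₗ[ℂ] W => T (v i)) ((b i : homN N ρ σ).2 n)).symm
    let s : W →ₗ[ℂ] (Fin k → V) :=
      (Nat.card N : ℂ)⁻¹ • ∑ n : N, (pk n⁻¹).comp (s0.comp (σ n))
    have hcN : (Nat.card N : ℂ) ≠ 0 := by exact_mod_cast Nat.card_pos.ne'
    refine ⟨Φ, s, hΦ, ?_, ?_⟩
    · refine LinearMap.ext fun w => ?_
      simp only [s, LinearMap.comp_apply, LinearMap.smul_apply, map_smul, LinearMap.sum_apply, map_sum,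
        hpk, LinearMap.id_apply]
      have h1 : ∀ n : N, σ ((n⁻¹ : N) : G) (Φ (s0 (σ n w))) = w := by
        intro n
        have h2 : Φ (s0 (σ n w)) = σ n w := LinearMap.congr_fun hs0 _
        rw [h2, ← Module.End.mul_apply, ← map_mul, ← Subgroup.coe_mul, inv_mul_cancel,
          OneMemClass.coe_one, map_one, Module.End.one_apply]
      rw [Finset.sum_congr rfl (fun n _ => h1 n), Finset.sum_const, Finset.card_univ,
        ← Nat.cast_smul_eq_nsmul ℂ, smul_smul, ← Nat.card_eq_fintype_card, inv_mul_cancel₀ hcN, one_smul]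
    · intro m w i
      simp only [s, LinearMap.smul_apply, LinearMap.sum_apply, Pi.smul_apply, Finset.sum_apply,
        LinearMap.comp_apply, map_smul, map_sum, pk, LinearMap.pi_apply, LinearMap.proj_apply]
      congr 1
      refine Fintype.sum_equiv (Equiv.mulRight m) _ _ fun n => ?_
      simp only [Equiv.coe_mulRight, mul_inv_rev, map_mul, Module.End.mul_apply, Subgroup.coe_mul]
      rw [← Module.End.mul_apply (f := ρ m), ← map_mul, mul_inv_cancel, map_one, Module.End.one_apply]
  -- each homomorphism is a combination of the spanning family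
  have key2 : ∀ (k : ℕ) (s : W →ₗ[ℂ] (Fin k → V)),
      (∀ (n : N) (w : W) (i : Fin k), s (σ n w) i = ρ n (s w i)) →
      ∀ f : homN N ρ σ, ∃ c : Fin k → ℂ, ∀ v i, s (f.1 v) i = c i • v := by
    intro k s hs f
    have : ∀ i, ∃ c : ℂ, (LinearMap.proj i).comp (s.comp f.1) = c • (1 : Module.End ℂ V) := fun i =>
      Clifford.Rep.schur ρ _ (fun n => by
        refine LinearMap.ext fun v => ?_
        show s (f.1 (ρ n v)) i = ρ n (s (f.1 v) i)
        rw [← hs]
        exact congrArg (fun x => s x i) (congrArg (fun T : V →ₗ[ℂ] W => T v) (f.2 n)).symm)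
    choose c hc using this
    exact ⟨c, fun v i => congrArg (fun T : Module.End ℂ V => T v) (hc i)⟩
  haveI : FiniteDimensional ℂ (homN N ρ σ) := inferInstance
  -- the multiplicity representation is irreducible
  haveI hirr : (multRep N ρ σ).IsIrreducible := by
    haveI : Nontrivial (homN N ρ σ) := Submodule.nontrivial_iff_ne_bot.2 hne
    haveI : Nontrivial (Subrepresentation (multRep N ρ σ)) :=
      ⟨⊥, ⊤, fun hh => (bot_ne_top : (⊥ : Submodule ℂ (homN N ρ σ)) ≠ ⊤)
        (congrArg Subrepresentation.toSubmodule hh)⟩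
    refine ⟨fun S => ?_⟩
    by_cases hS : S.toSubmodule = ⊥
    · left; exact Subrepresentation.toSubmodule_injective hS
    right
    apply Subrepresentation.toSubmodule_injective
    show S.toSubmodule = ⊤
    haveI : Module.Free ℂ S.toSubmodule := Module.Free.of_divisionRing ℂ S.toSubmodule
    obtain ⟨Φ, s, hΦ, hid, hs⟩ := key S.toSubmodule hS (fun γ f hf => S.apply_mem_toSubmodule γ hf)
      _ (Module.finBasis ℂ S.toSubmodule)
    rw [eq_top_iff]
    intro f _
    obtain ⟨c, hc⟩ := key2 _ s hs f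
    have hf : f = ∑ i, c i • ((Module.finBasis ℂ S.toSubmodule i : S.toSubmodule) : homN N ρ σ) := by
      apply Subtype.ext
      refine LinearMap.ext fun v => ?_
      have h : Φ (s (f.1 v)) = f.1 v := LinearMap.congr_fun hid _
      rw [← h, hΦ]
      simp only [Submodule.coe_sum, Submodule.coe_smul, LinearMap.sum_apply, LinearMap.smul_apply]
      exact Finset.sum_congr rfl fun i _ => by rw [hc v i, map_smul]
    rw [hf]
    exact Submodule.sum_mem _ fun i _ => Submodule.smul_mem _ _ (Module.finBasis ℂ S.toSubmodule i).2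
  -- dimension count
  haveI : Module.Free ℂ (⊤ : Submodule ℂ (homN N ρ σ)) :=
    Module.Free.of_divisionRing ℂ (⊤ : Submodule ℂ (homN N ρ σ))
  set k := Module.finrank ℂ (⊤ : Submodule ℂ (homN N ρ σ)) with hk
  set b := Module.finBasis ℂ (⊤ : Submodule ℂ (homN N ρ σ)) with hb
  obtain ⟨Φ, s, hΦ, hid, hs⟩ := key ⊤ (by
    haveI : Nontrivial (homN N ρ σ) := Submodule.nontrivial_iff_ne_bot.2 hne
    exact top_ne_bot) (fun _ _ _ => trivial) k b
  have hinj : s.comp Φ = LinearMap.id := by
    have hbi : ∀ i v, s ((b i : homN N ρ σ).1 v) = Pi.single i v := by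
      intro i v
      obtain ⟨c, hc⟩ := key2 k s hs (b i : homN N ρ σ)
      have heq : b i = ∑ j, c j • b j := by
        apply Subtype.ext; apply Subtype.ext
        refine LinearMap.ext fun x => ?_
        have h : Φ (s ((b i : homN N ρ σ).1 x)) = (b i : homN N ρ σ).1 x := LinearMap.congr_fun hid _
        rw [← h, hΦ]
        simp only [Submodule.coe_sum, Submodule.coe_smul, LinearMap.sum_apply, LinearMap.smul_apply]
        exact Finset.sum_congr rfl fun j _ => by rw [hc x j, map_smul]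
      funext j
      rw [hc v j]
      have hcj : c j = if i = j then 1 else 0 := by
        have h := congrArg (fun z => b.repr z j) heq
        simp only [Module.Basis.repr_self, map_sum, map_smul, Finsupp.coe_finset_sum, Finset.sum_apply,
          Finsupp.smul_apply, Finsupp.single_apply, smul_eq_mul, mul_ite, mul_one, mul_zero,
          Finset.sum_ite_eq', Finset.mem_univ, if_true] at h
        exact h.symm
      rw [hcj]
      by_cases hij : i = j
      · subst hij; simp
      · rw [if_neg hij, zero_smul, Pi.single_eq_of_ne (Ne.symm hij)]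
    refine LinearMap.ext fun v => ?_
    rw [LinearMap.comp_apply, hΦ, map_sum, LinearMap.id_apply]
    simp only [hbi]
    exact Finset.univ_sum_single v
  have hdim : Module.finrank ℂ W = k * Module.finrank ℂ V := by
    rw [← (LinearEquiv.ofLinearMap Φ s hid hinj).finrank_eq, Module.finrank_pi_fintype]
    simp
  refine ⟨k, hdim, ?_⟩
  have hscal : ∀ γ ∈ pre N ρ N, ∃ c : ℂ, multRep N ρ σ γ = c • 1 := by
    intro γ hγ
    refine ⟨(((lam0 N ρ ⟨γ, hγ⟩)⁻¹ : ℂˣ) : ℂ), LinearMap.ext fun f => Subtype.ext (LinearMap.ext fun v => ?_)⟩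
    rw [multRep_apply]
    have h2 : taut N ρ γ⁻¹ = (((lam0 N ρ ⟨γ, hγ⟩)⁻¹ : ℂˣ) : ℂ) • ρ ⟨proj N ρ γ, hγ⟩⁻¹ := by
      have h3 := lam0_spec N ρ (⟨γ, hγ⟩⁻¹ : pre N ρ N)
      rw [map_inv] at h3
      refine h3.trans ?_
      congr 2
    rw [h2, LinearMap.smul_apply, map_smul, map_smul]
    show (((lam0 N ρ ⟨γ, hγ⟩)⁻¹ : ℂˣ) : ℂ) • σ ((⟨proj N ρ γ, hγ⟩ : N) : G)
        (f.1 (ρ (⟨proj N ρ γ, hγ⟩⁻¹ : N) v)) = (((lam0 N ρ ⟨γ, hγ⟩)⁻¹ : ℂˣ) : ℂ) • f.1 v
    congr 1
    have h4 : ∀ (n : N) x, σ (n : G) (f.1 x) = f.1 (ρ n x) := fun n x =>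
      congrArg (fun T : V →ₗ[ℂ] W => T x) (f.2 n)
    rw [h4, ← Module.End.mul_apply, ← map_mul, mul_inv_cancel, map_one, Module.End.one_apply]
  have h := finrank_dvd_index_scalar (multRep N ρ σ) (pre N ρ N) hscal
  rw [Subgroup.index_comap_of_surjective N (proj_surjective N ρ hinv), ← finrank_top] at h
  exact h

end multiplicity

section characters

variable {G : Type u} [Group G] [Fintype G] (N : Subgroup G) [hN : N.Normal] [Fintype N]

/-- Invariant case, for characters. -/
theorem ratio_dvd_invariant {χ : G → ℂ} (hχ : Cfsg.IsIrrCharacter G χ) {ϑ : N → ℂ}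
    (hϑ : Cfsg.IsIrrCharacter N ϑ)
    (hinv : ∀ (g : G) (n : N), ϑ ⟨g * n * g⁻¹, hN.conj_mem (n : G) n.2 g⟩ = ϑ n)
    (hcon : Cfsg.classInner (fun n : N => χ n) ϑ ≠ 0) :
    ∃ (e c d : ℕ), χ 1 = c ∧ ϑ 1 = d ∧ c = e * d ∧ e ∣ N.index := by
  obtain ⟨m, σ, hσ, rfl⟩ := hχ
  obtain ⟨k, ρ, hρ, rfl⟩ := hϑ
  have hne : homN N ρ σ ≠ ⊥ := by
    intro h
    apply hcon
    have h1 : (fun n : N => σ.character n) = Representation.character (σ.comp N.subtype) := rfl
    rw [h1, Characters.Basic.classInner_character_eq_finrank]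
    have hs : Subsingleton (Representation.IntertwiningMap ρ (σ.comp N.subtype)) := by
      refine ⟨fun a b => ?_⟩
      have hz : ∀ x : Representation.IntertwiningMap ρ (σ.comp N.subtype), x.toLinearMap = 0 := by
        intro x
        have hx : x.toLinearMap ∈ homN N ρ σ := fun n => (x.isIntertwining' n).symm
        rw [h, Submodule.mem_bot] at hx
        exact hx
      exact Representation.IntertwiningMap.ext ((hz a).trans (hz b).symm)
    rw [Module.finrank_zero_of_subsingleton, Nat.cast_zero]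
  obtain ⟨e, he, hdvd⟩ := exists_ratio N ρ σ (fun g => funext fun n => hinv g n) hne
  refine ⟨e, m, k, ?_, ?_, by simpa using he, hdvd⟩
  · rw [Representation.char_one, Module.finrank_fin_fun]
  · rw [Representation.char_one, Module.finrank_fin_fun]

/-- `χ(1)/ϑ(1)` divides the index. -/
theorem ratio_dvd {χ : G → ℂ} (hχ : Cfsg.IsIrrCharacter G χ) {ϑ : N → ℂ}
    (hϑ : Cfsg.IsIrrCharacter N ϑ) (hcon : Cfsg.classInner (fun n : N => χ n) ϑ ≠ 0) :
    ∃ (e c d : ℕ), χ 1 = c ∧ ϑ 1 = d ∧ c = e * d ∧ e ∣ N.index := by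
  classical
  set T := Clifford.Basic.inertia N ϑ with hT
  haveI : Fintype T := Fintype.ofFinite _
  have hNT : N ≤ T := Clifford.Basic.le_inertia (N := N)
    (Characters.Basic.isClassFunction_irr ⟨ϑ, hϑ⟩)
  obtain ⟨ψ, hψ, hind, hres, -⟩ := Clifford.Basic.exists_correspondent (N := N) hχ
    (⟨ϑ, hϑ⟩ : Cfsg.IrrCharacter N) hcon T rfl hNT
  haveI hN' : (N.subgroupOf T).Normal := hN.subgroupOf T
  let ι := Subgroup.subgroupOfEquivOfLe hNT
  haveI : Fintype (N.subgroupOf T) := Fintype.ofFinite _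
  have hϑ' : Cfsg.IsIrrCharacter (N.subgroupOf T) (ϑ ∘ ι) :=
    Characters.Basic.isIrrCharacter_comp ι.toMonoidHom ι.surjective hϑ
  have hinv' : ∀ (g : T) (n : N.subgroupOf T),
      (ϑ ∘ ι) ⟨g * n * g⁻¹, hN'.conj_mem (n : T) n.2 g⟩ = (ϑ ∘ ι) n := by
    intro g n
    have hg : Clifford.Basic.conjC N (g : G) ϑ = ϑ := g.2
    have h := congrFun hg (ι n)
    rw [Clifford.Basic.conjC_apply] at h
    refine Eq.trans ?_ h
    exact congrArg ϑ (Subtype.ext (by simp [ι]))
  have hcon' : Cfsg.classInner (fun n : N.subgroupOf T => ψ n) (ϑ ∘ ι) ≠ 0 := by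
    have h1 : Cfsg.classInner (fun n : N.subgroupOf T => ψ n) (ϑ ∘ ι) =
        Cfsg.classInner (fun n : N => ψ ⟨(n : G), hNT n.2⟩) ϑ := by
      simp only [Cfsg.classInner]
      rw [Nat.card_congr ι.toEquiv]
      congr 1
      refine Fintype.sum_equiv ι.toEquiv _ _ fun n => ?_
      rfl
    rw [h1, hres, Induced.Basic.classInner_smul_left]
    have h2 : Cfsg.classInner ((⟨ϑ, hϑ⟩ : Cfsg.IrrCharacter N) : N → ℂ) ϑ = 1 :=
      Characters.Basic.classInner_self_irr ⟨ϑ, hϑ⟩
    rw [h2, mul_one]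
    exact hcon
  obtain ⟨e, c, d, hc, hd, hcd, hdvd⟩ := ratio_dvd_invariant (N.subgroupOf T) hψ hϑ' hinv' hcon'
  have hd' : ϑ 1 = d := by
    rw [← hd]
    show ϑ 1 = ϑ (ι 1)
    rw [map_one]
  refine ⟨T.index * e, T.index * c, d, ?_, hd', by rw [hcd]; ring, ?_⟩
  · have hT0 : (Nat.card T : ℂ) ≠ 0 := by exact_mod_cast Nat.card_pos.ne'
    rw [← hind, Induced.Basic.indFun_one, hc, Nat.cast_mul]
  · rw [← Subgroup.relIndex_mul_index hNT, mul_comm]
    exact mul_dvd_mul_right hdvd _

end characters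

end Cfsg.Agent.Lib.Brauer.DegreeRatio
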