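import Cfsg.Agent.Lib.Brauer.Monomial

/-!
Characterisation of (generalized) characters by restrictions to elementary subgroups, with
coefficients in any ring mapping to the complex numbers.
-/

set_option autoImplicit false

namespace Cfsg.Agent.Lib.Brauer.Characterization

open Cfsg Cfsg.Agent.Lib.Brauer.PermChar Cfsg.Agent.Lib.Brauer.Induction
  Cfsg.Agent.Lib.Brauer.Elementary Cfsg.Agent.Lib.Brauer.Monomial

universe u

variable {G : Type u} [Group G] [Fintype G] (R : Type) [CommRing R] [Algebra R ℂ]

omit [Fintype G] in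
theorem int_span_le {s : Set (G → ℂ)} {f : G → ℂ} (hf : f ∈ Submodule.span ℤ s) :
    f ∈ Submodule.span R s := by
  induction hf using Submodule.span_induction with
  | mem x hx => exact Submodule.subset_span hx
  | zero => exact zero_mem _
  | add x y _ _ h1 h2 => exact add_mem h1 h2
  | smul r x _ h => exact Submodule.smul_of_tower_mem _ r h

theorem indFun_smulR (H : Subgroup G) (c : R) (θ : H → ℂ) :
    indFun H (c • θ) = c • indFun H θ := by
  rw [← algebraMap_smul ℂ c θ, indFun_smul, algebraMap_smul]

theorem indFun_monoSetR {H : Subgroup G} [Fintype H] {P : Subgroup H → Prop}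
    {Q : Subgroup G → Prop} (hPQ : ∀ K, P K → Q (K.map H.subtype)) {f : H → ℂ}
    (hf : f ∈ Submodule.span R (monoSet P)) :
    indFun H f ∈ Submodule.span R (monoSet Q) := by
  induction hf using Submodule.span_induction with
  | mem x hx =>
    exact int_span_le R (indFun_monoSet hPQ (Submodule.subset_span hx))
  | zero => rw [indFun_zero]; exact zero_mem _
  | add x y _ _ h1 h2 => rw [indFun_add]; exact add_mem h1 h2
  | smul r x _ h => rw [indFun_smulR]; exact Submodule.smul_mem _ r h

theorem monoSet_mul_homR (P : Subgroup G → Prop) (μ : G →* ℂ) {f : G → ℂ}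
    (hf : f ∈ Submodule.span R (monoSet P)) :
    (μ : G → ℂ) * f ∈ Submodule.span R (monoSet P) := by
  induction hf using Submodule.span_induction with
  | mem x hx => exact int_span_le R (monoSet_mul_hom P μ (Submodule.subset_span hx))
  | zero => simp
  | add x y _ _ h1 h2 => rw [mul_add]; exact add_mem h1 h2
  | smul r x _ h => rw [mul_smul_comm]; exact Submodule.smul_mem _ r h

/-- Brauer's characterisation: membership in the span of induced linear characters is decided on
elementary subgroups. -/
theorem mem_of_elementary {θ : G → ℂ} (hcl : IsClassFunction G θ)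
    (hE : ∀ (E : Subgroup G) [Fintype E] (p : ℕ), p.Prime → IsElementary p E →
      (fun e : E => θ (e : G)) ∈ Submodule.span R (monoSet (fun _ : Subgroup E => True))) :
    θ ∈ Submodule.span R (monoSet (IsElem (G := G))) := by
  suffices h : ∀ f ∈ Submodule.span ℤ (monoSet (IsElem (G := G))),
      θ * f ∈ Submodule.span R (monoSet (IsElem (G := G))) by
    have h1 : θ * (fun _ : G => (1 : ℂ)) ∈ _ := h _ brauer
    rwa [show θ * (fun _ : G => (1 : ℂ)) = θ from mul_one _] at h1
  intro f hf
  induction hf using Submodule.span_induction with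
  | mem x hx =>
    obtain ⟨E, ⟨p, hp, hel⟩, l, rfl⟩ := hx
    rw [mul_indFun _ _ _ hcl, mul_comm]
    haveI : Fintype E := Fintype.ofFinite _
    exact indFun_monoSetR R (fun K _ => ⟨p, hp, isElementary_of_le hp hel (Subgroup.map_subtype_le K)⟩)
      (monoSet_mul_homR R _ l (hE E p hp hel))
  | zero => simp
  | add x y _ _ h1 h2 => rw [mul_add]; exact add_mem h1 h2
  | smul r x _ h => rw [mul_smul_comm]; exact Submodule.smul_of_tower_mem _ r h

theorem isClassFunction_of_isCharacter {χ : G → ℂ} (hχ : IsCharacter G χ) :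
    IsClassFunction G χ := by
  obtain ⟨n, ρ, rfl⟩ := hχ
  exact fun g h => Representation.char_conj ρ g h

theorem isCharacter_monomial {P : Subgroup G → Prop} {f : G → ℂ} (hf : f ∈ monoSet P) :
    IsCharacter G f := by
  obtain ⟨H, -, l, rfl⟩ := hf
  exact Cfsg.Agent.Lib.Induced.Character.isCharacter_indFun H (isCharacter_hom l)

omit [Fintype G] in
theorem isCharacter_sum_two {χ ψ : G → ℂ} (hχ : IsCharacter G χ) (hψ : IsCharacter G ψ) :
    IsCharacter G (χ + ψ) := by
  obtain ⟨n, ρ, rfl⟩ := hχ
  obtain ⟨m, σ, rfl⟩ := hψ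
  let τ : Representation ℂ G ((Fin n → ℂ) × (Fin m → ℂ)) :=
    { toFun := fun g => (ρ g).prodMap (σ g)
      map_one' := by rw [map_one, map_one]; rfl
      map_mul' := fun g h => by rw [map_mul, map_mul]; rfl }
  have : τ.character = ρ.character + σ.character := by
    funext g
    exact LinearMap.trace_prodMap' (ρ g) (σ g)
  exact this ▸ Cfsg.Agent.Lib.Induced.Character.isCharacter_character τ

omit [Fintype G] in
theorem isCharacter_nsmul {χ : G → ℂ} (hχ : IsCharacter G χ) (k : ℕ) :
    IsCharacter G (k • χ) := by
  induction k with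
  | zero => rw [zero_smul]; exact Cfsg.Agent.Lib.Induced.Character.isCharacter_zero
  | succ k ih => rw [succ_nsmul]; exact isCharacter_sum_two ih hχ

/-- A combination of induced linear characters is a generalized character. -/
theorem isGeneralized_of_mem {P : Subgroup G → Prop} {f : G → ℂ}
    (hf : f ∈ Submodule.span ℤ (monoSet P)) : IsGeneralizedCharacter G f := by
  induction hf using Submodule.span_induction with
  | mem x hx =>
    exact ⟨x, 0, isCharacter_monomial hx, Cfsg.Agent.Lib.Induced.Character.isCharacter_zero, (sub_zero x).symm⟩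
  | zero =>
    exact ⟨0, 0, Cfsg.Agent.Lib.Induced.Character.isCharacter_zero,
      Cfsg.Agent.Lib.Induced.Character.isCharacter_zero, (sub_zero _).symm⟩
  | add x y _ _ h1 h2 =>
    obtain ⟨a, b, ha, hb, rfl⟩ := h1
    obtain ⟨c, d, hc, hd, rfl⟩ := h2
    exact ⟨a + c, b + d, isCharacter_sum_two ha hc, isCharacter_sum_two hb hd, by abel⟩
  | smul r x _ h =>
    obtain ⟨a, b, ha, hb, rfl⟩ := h
    rcases Int.eq_nat_or_neg r with ⟨k, rfl | rfl⟩
    · exact ⟨k • a, k • b, isCharacter_nsmul ha k, isCharacter_nsmul hb k, by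
        rw [natCast_zsmul, nsmul_sub]⟩
    · exact ⟨k • b, k • a, isCharacter_nsmul hb k, isCharacter_nsmul ha k, by
        rw [neg_smul, natCast_zsmul, nsmul_sub, neg_sub]⟩

end Cfsg.Agent.Lib.Brauer.Characterization
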