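import Cfsg.Agent.Lib.Brauer.Elementary
import Cfsg.Agent.Lib.Induced.Character
import Mathlib.GroupTheory.Nilpotent

/-!
Characters of finite groups are integer combinations of functions induced from linear characters
of elementary subgroups, and the characterisation of generalized characters.
-/

set_option autoImplicit false

namespace Cfsg.Agent.Lib.Brauer.Monomial

open Cfsg MulAction Cfsg.Agent.Lib.Brauer.PermChar Cfsg.Agent.Lib.Brauer.Induction
  Cfsg.Agent.Lib.Brauer.Elementary

universe u v

open Classical in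
/-- Decomposition of an equivariant family of functions on a G-set into induced functions. -/
theorem fixed_decomp {G : Type u} [Group G] [Fintype G] {X : Type v} [MulAction G X] [Fintype X]
    (F : G → X → ℂ) (hF : ∀ g y x, g • y • x = y • x → F (y⁻¹ * g * y) x = F g (y • x)) (g : G) :
    (∑ x : X, if g • x = x then F g x else 0)
      = ∑ ω : orbitRel.Quotient G X,
          indFun (stabilizer G ω.out) (fun t => F (t : G) ω.out) g := by
  set Φ : X → ℂ := fun x => if g • x = x then F g x else 0 with hΦ
  rw [← Finset.sum_fiberwise Finset.univ (fun x : X => (Quotient.mk'' x : orbitRel.Quotient G X)) Φ]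
  refine Finset.sum_congr rfl fun ω _ => ?_
  set a : X := ω.out with ha
  have hS : (Nat.card (stabilizer G a) : ℂ) ≠ 0 := by exact_mod_cast Nat.card_pos.ne'
  have step1 : ∀ y : G,
      extendByZero (stabilizer G a) (fun t => F (t : G) a) (y⁻¹ * g * y) = Φ (y • a) := by
    intro y
    have hiff : (y⁻¹ * g * y ∈ stabilizer G a) ↔ g • y • a = y • a := by
      rw [mem_stabilizer_iff, mul_smul, mul_smul, inv_smul_eq_iff]
    by_cases hg : g • y • a = y • a
    · rw [ext0_mem _ (hiff.2 hg)]
      simp only [hΦ, if_pos hg]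
      exact hF g y a hg
    · rw [ext0_notMem _ (fun h => hg (hiff.1 h))]
      simp only [hΦ, if_neg hg]
  unfold indFun
  simp only [step1]
  have step2 : ∑ y : G, Φ (y • a) =
      (Nat.card (stabilizer G a) : ℂ) *
        ∑ x ∈ Finset.univ.filter (fun x : X => (Quotient.mk'' x : orbitRel.Quotient G X) = ω), Φ x := by
    rw [Finset.mul_sum]
    rw [← Finset.sum_fiberwise_of_maps_to (g := fun y : G => y • a)
      (t := Finset.univ.filter (fun x : X => (Quotient.mk'' x : orbitRel.Quotient G X) = ω))]
    · refine Finset.sum_congr rfl fun z hz => ?_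
      rw [Finset.mem_filter] at hz
      have hz' : (Quotient.mk'' z : orbitRel.Quotient G X) = Quotient.mk'' a := by
        rw [hz.2, ha]; exact (Quotient.out_eq' ω).symm
      obtain ⟨y0, hy0⟩ := (Quotient.eq''.1 hz' : z ∈ orbit G a)
      simp only at hy0
      subst hy0
      rw [Finset.sum_congr rfl (fun y hy => by rw [(Finset.mem_filter.1 hy).2] :
        ∀ y ∈ Finset.univ.filter (fun y : G => y • a = y0 • a), Φ (y • a) = Φ (y0 • a))]
      rw [Finset.sum_const, nsmul_eq_mul]
      congr 2
      rw [Nat.card_eq_fintype_card, ← Finset.card_univ]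
      refine Finset.card_bij' (fun y hy => (⟨y0⁻¹ * y, ?_⟩ : stabilizer G a)) (fun s _ => y0 * (s : G))
        ?_ ?_ ?_ ?_
      · rw [mem_stabilizer_iff, mul_smul, (Finset.mem_filter.1 hy).2, inv_smul_smul]
      · intros; simp
      · intro s _
        simp [mul_smul, mem_stabilizer_iff.1 s.2]
      · intros; simp
      · intros; simp
    · intro y _
      simp only [Finset.mem_filter, Finset.mem_univ, true_and]
      rw [← Quotient.out_eq' ω]
      exact Quotient.eq''.2 ⟨y, rfl⟩
  rw [step2, ← mul_assoc, inv_mul_cancel₀ hS, one_mul]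

/-- A non-trivial normal subgroup of a nilpotent group meets the centre non-trivially. -/
theorem eq_bot_of_inf_center {G : Type u} [Group G] [Group.IsNilpotent G] {N : Subgroup G}
    [hN : N.Normal] (h : N ⊓ Subgroup.center G = ⊥) : N = ⊥ := by
  obtain ⟨n, hn⟩ := Group.IsNilpotent.nilpotent G
  have key : ∀ i, N ⊓ Subgroup.upperCentralSeries G i = ⊥ := by
    intro i
    induction i with
    | zero => simp [Subgroup.upperCentralSeries_zero]
    | succ i ih =>
      rw [Subgroup.eq_bot_iff_forall]
      rintro x ⟨hxN, hxZ⟩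
      refine Subgroup.mem_bot.1 (h ▸ ⟨hxN, Subgroup.mem_center_iff.2 fun g => ?_⟩)
      have h1 := (Subgroup.mem_upperCentralSeries_succ_iff).1 hxZ g
      have h2 : x * g * x⁻¹ * g⁻¹ ∈ N := by
        have h3 : x * (g * x⁻¹ * g⁻¹) ∈ N := N.mul_mem hxN (hN.conj_mem _ (N.inv_mem hxN) g)
        simpa [mul_assoc] using h3
      have h4 : x * g * x⁻¹ * g⁻¹ = 1 := Subgroup.mem_bot.1 (ih ▸ ⟨h2, h1⟩)
      rw [mul_inv_eq_one, mul_inv_eq_iff_eq_mul] at h4
      exact h4.symm
  have := key n
  rwa [hn, inf_top_eq] at this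

/-- A finite nilpotent group has a normal abelian subgroup equal to its centralizer. -/
theorem exists_selfCentralizing {G : Type u} [Group G] [Finite G] [Group.IsNilpotent G] :
    ∃ A : Subgroup G, A.Normal ∧ (∀ a ∈ A, ∀ b ∈ A, a * b = b * a) ∧
      Subgroup.centralizer (A : Set G) ≤ A := by
  classical
  obtain ⟨A, hA, hmax⟩ := Set.Finite.exists_maximal
    (s := {A : Subgroup G | A.Normal ∧ ∀ a ∈ A, ∀ b ∈ A, a * b = b * a}) (Set.toFinite _)
    ⟨⊥, inferInstance, fun a ha b hb => by rw [Subgroup.mem_bot.1 ha, Subgroup.mem_bot.1 hb]⟩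
  obtain ⟨hn, hab⟩ := hA
  refine ⟨A, hn, hab, ?_⟩
  haveI := hn
  by_contra hC
  set C := Subgroup.centralizer (A : Set G) with hCdef
  set π := QuotientGroup.mk' A
  haveI : C.Normal := by
    refine ⟨fun c hc g => Subgroup.mem_centralizer_iff.2 fun a ha => ?_⟩
    have h1 : g⁻¹ * a * g ∈ A := by simpa using hn.conj_mem a ha g⁻¹
    have h2 := Subgroup.mem_centralizer_iff.1 hc _ h1
    calc a * (g * c * g⁻¹) = g * (g⁻¹ * a * g * c) * g⁻¹ := by group
      _ = g * (c * (g⁻¹ * a * g)) * g⁻¹ := by rw [h2]
      _ = g * c * g⁻¹ * a := by group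
  haveI : (C.map π).Normal := Subgroup.Normal.map inferInstance _ (QuotientGroup.mk'_surjective A)
  have hne : C.map π ≠ ⊥ := by
    rw [Ne, Subgroup.map_eq_bot_iff, QuotientGroup.ker_mk']
    exact hC
  haveI : Nontrivial (C.map π) := (Subgroup.nontrivial_iff_ne_bot _).2 hne
  obtain ⟨q, hqC, hqne⟩ : ∃ q ∈ C.map π, q ∈ Subgroup.center (G ⧸ A) ∧ q ≠ 1 := by
    by_contra h
    have hbot : C.map π ⊓ Subgroup.center (G ⧸ A) = ⊥ := (Subgroup.eq_bot_iff_forall _).2
      fun q hq => not_not.1 fun hq1 => h ⟨q, hq.1, hq.2, hq1⟩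
    exact hne (eq_bot_of_inf_center hbot)
  obtain ⟨x, hxC, rfl⟩ := hqC
  set B : Subgroup G := A ⊔ Subgroup.zpowers x with hB
  have hxA : x ∉ A := fun h => hqne.2 ((QuotientGroup.eq_one_iff x).2 h)
  have hxa : ∀ a ∈ A, a * x = x * a := fun a ha => Subgroup.mem_centralizer_iff.1 hxC a ha
  have hBab : ∀ a ∈ B, ∀ b ∈ B, a * b = b * a := by
    intro a ha b hb
    obtain ⟨a1, ha1, x1, hx1, rfl⟩ := Subgroup.mem_sup_of_normal_left.1 ha
    obtain ⟨b1, hb1, y1, hy1, rfl⟩ := Subgroup.mem_sup_of_normal_left.1 hb
    obtain ⟨i, rfl⟩ := Subgroup.mem_zpowers_iff.1 hx1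
    obtain ⟨j, rfl⟩ := Subgroup.mem_zpowers_iff.1 hy1
    have e1 : x ^ i * b1 = b1 * x ^ i := ((Commute.zpow_right (hxa b1 hb1) i).symm).eq
    have e2 : a1 * x ^ j = x ^ j * a1 := (Commute.zpow_right (hxa a1 ha1) j).eq
    calc a1 * x ^ i * (b1 * x ^ j) = a1 * b1 * (x ^ i * x ^ j) := by
          rw [mul_assoc a1, ← mul_assoc (x ^ i), e1]; simp only [mul_assoc]
      _ = b1 * a1 * (x ^ j * x ^ i) := by rw [hab a1 ha1 b1 hb1, ← zpow_add, ← zpow_add, add_comm]
      _ = b1 * x ^ j * (a1 * x ^ i) := by
          rw [mul_assoc b1, ← mul_assoc a1, e2]; simp only [mul_assoc]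
  have hBn : B.Normal := by
    have hBeq : B = (Subgroup.zpowers (π x)).comap π := by
      rw [← MonoidHom.map_zpowers, Subgroup.comap_map_eq, QuotientGroup.ker_mk', sup_comm, hB]
    rw [hBeq]
    haveI : (Subgroup.zpowers (π x)).Normal := ⟨fun z hz g => by
      have hz' : z ∈ Subgroup.center (G ⧸ A) := (Subgroup.zpowers_le.2 hqne.1) hz
      rw [Subgroup.mem_center_iff.1 hz' g, mul_inv_cancel_right]; exact hz⟩
    infer_instance
  have := hmax ⟨hBn, hBab⟩ (le_sup_left : A ≤ B)
  exact hxA (this (le_sup_right (a := A) (Subgroup.mem_zpowers x)))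

variable {G : Type u} [Group G] [Fintype G]

theorem monoSet_smul {P : Subgroup G → Prop} {f : G → ℂ} (k : ℕ)
    (hf : f ∈ Submodule.span ℤ (monoSet P)) : (k : ℂ) • f ∈ Submodule.span ℤ (monoSet P) := by
  rw [Nat.cast_smul_eq_nsmul]
  exact Submodule.smul_of_tower_mem _ k hf

/-- Inflation of a combination of induced linear characters along a surjection. -/
theorem inflate_mem {Q : Type u} [Group Q] [Fintype Q] (π : G →* Q) (hπ : Function.Surjective π)
    {f : Q → ℂ} (hf : f ∈ Submodule.span ℤ (monoSet (fun _ : Subgroup Q => True))) :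
    (fun g => f (π g)) ∈ Submodule.span ℤ (monoSet (fun _ : Subgroup G => True)) := by
  classical
  induction hf using Submodule.span_induction with
  | mem x hx =>
    obtain ⟨H, -, l, rfl⟩ := hx
    refine Submodule.subset_span ⟨H.comap π, trivial, l.comp (π.subgroupComap H), ?_⟩
    funext g
    have hker : ∀ q : Q, (Finset.univ.filter fun x : G => π x = q).card = Nat.card π.ker := by
      intro q
      obtain ⟨x0, rfl⟩ := hπ q
      rw [Nat.card_eq_fintype_card, ← Finset.card_univ]
      refine Finset.card_bij' (fun x hx => (⟨x0⁻¹ * x, ?_⟩ : π.ker)) (fun s _ => x0 * (s : G))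
        ?_ ?_ ?_ ?_
      · rw [MonoidHom.mem_ker, map_mul, map_inv, (Finset.mem_filter.1 hx).2, inv_mul_cancel]
      · intros; simp
      · intro s _
        simp [MonoidHom.mem_ker.1 s.2]
      · intros; simp
      · intros; simp
    have hcard : Nat.card (H.comap π) = Nat.card π.ker * Nat.card H := by
      rw [← Subgroup.card_mul_index (π.ker.subgroupOf (H.comap π)),
        Nat.card_congr (Subgroup.subgroupOfEquivOfLe (Subgroup.ker_le_comap π H)).toEquiv]
      congr 1
      show π.ker.relIndex (H.comap π) = _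
      rw [← MonoidHom.comap_bot, Subgroup.relIndex_comap, Subgroup.map_comap_eq_self_of_surjective hπ,
        Subgroup.relIndex_bot_left]
    show (Nat.card H : ℂ)⁻¹ * ∑ y : Q, extendByZero H (l : H → ℂ) (y⁻¹ * π g * y)
      = (Nat.card (H.comap π) : ℂ)⁻¹ *
        ∑ x : G, extendByZero (H.comap π) (l.comp (π.subgroupComap H) : H.comap π → ℂ) (x⁻¹ * g * x)
    have hval : ∀ x : G, extendByZero (H.comap π) (l.comp (π.subgroupComap H) : H.comap π → ℂ)
        (x⁻¹ * g * x) = extendByZero H (l : H → ℂ) ((π x)⁻¹ * π g * π x) := by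
      intro x
      have e : (π x)⁻¹ * π g * π x = π (x⁻¹ * g * x) := by simp
      rw [e]
      by_cases h : π (x⁻¹ * g * x) ∈ H
      · rw [ext0_mem _ h, ext0_mem _ (show x⁻¹ * g * x ∈ H.comap π from h)]; rfl
      · rw [ext0_notMem _ h, ext0_notMem _ (show x⁻¹ * g * x ∉ H.comap π from h)]
    simp only [hval]
    rw [← Finset.sum_fiberwise Finset.univ π]
    have : ∀ q : Q, (∑ x ∈ Finset.univ.filter (fun x : G => π x = q),
        extendByZero H (l : H → ℂ) ((π x)⁻¹ * π g * π x))
        = (Nat.card π.ker : ℂ) * extendByZero H (l : H → ℂ) (q⁻¹ * π g * q) := by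
      intro q
      rw [Finset.sum_congr rfl (fun x hx => by rw [(Finset.mem_filter.1 hx).2] :
        ∀ x ∈ Finset.univ.filter (fun x : G => π x = q),
          extendByZero H (l : H → ℂ) ((π x)⁻¹ * π g * π x) = extendByZero H (l : H → ℂ) (q⁻¹ * π g * q))]
      rw [Finset.sum_const, hker q, nsmul_eq_mul]
    simp only [this]
    rw [← Finset.mul_sum, hcard]
    push_cast
    have hk : (Nat.card π.ker : ℂ) ≠ 0 := by exact_mod_cast Nat.card_pos.ne'
    field_simp
  | zero => exact zero_mem _
  | add x y _ _ h1 h2 => exact add_mem h1 h2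
  | smul r x _ h => exact Submodule.smul_mem _ r h

omit [Fintype G] in
theorem trace_idem {V : Type v} [AddCommGroup V] [Module ℂ V] [FiniteDimensional ℂ V]
    {e : Module.End ℂ V} (he : e * e = e) : ∃ k : ℕ, LinearMap.trace ℂ V e = (k : ℂ) :=
  ⟨_, LinearMap.IsProj.trace (f := e) (p := LinearMap.range e)
    ⟨fun x => ⟨x, rfl⟩, fun _ ⟨y, hy⟩ => by rw [← hy]; exact congrArg (fun T : Module.End ℂ V => T y) he⟩⟩

set_option maxHeartbeats 1000000 in
/-- Characters of nilpotent groups are combinations of induced linear characters. -/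
theorem nilpotent_mem (n : ℕ) :
    ∀ (G : Type u) [Group G] [Fintype G], Nat.card G = n → Group.IsNilpotent G →
      ∀ (m : ℕ) (ρ : Representation ℂ G (Fin m → ℂ)) (e : Module.End ℂ (Fin m → ℂ)),
        e * e = e → (∀ g, ρ g * e = e * ρ g) →
        (fun g => LinearMap.trace ℂ _ (ρ g * e)) ∈
          Submodule.span ℤ (monoSet (fun _ : Subgroup G => True)) := by
  classical
  induction n using Nat.strong_induction_on with
  | _ n ih =>
    intro G _ _ hn hnil m ρ e he hcomm
    obtain ⟨A, hAn, hab', hAself⟩ := exists_selfCentralizing (G := G)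
    haveI := hAn
    have hab : ∀ a b : A, a * b = b * a := fun a b => Subtype.ext (hab' a a.2 b b.2)
    obtain ⟨instX, hXcard, hXsum⟩ := sum_hom_trivialOn hab (⊥ : Subgroup A)
    let X := {l : A →* ℂ // ∀ z ∈ (⊥ : Subgroup A), l z = 1}
    rw [Subgroup.index_bot] at hXcard
    let cj : G → (A →* A) := fun g =>
      { toFun := fun a => ⟨g * a * g⁻¹, hAn.conj_mem (a : G) a.2 g⟩
        map_one' := by apply Subtype.ext; simp
        map_mul' := fun a b => by apply Subtype.ext; simp [mul_assoc] }
    letI act : MulAction G X :=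
      { smul := fun g l => ⟨l.1.comp (cj g⁻¹), fun z hz => by
          rw [Subgroup.mem_bot.1 hz, map_one]⟩
        one_smul := fun l => by
          apply Subtype.ext; apply MonoidHom.ext; intro c
          show l.1 (cj 1⁻¹ c) = l.1 c
          congr 1; apply Subtype.ext
          show (1 : G)⁻¹ * (c : G) * (1 : G)⁻¹⁻¹ = c
          simp
        mul_smul := fun g h l => by
          apply Subtype.ext; apply MonoidHom.ext; intro c
          show l.1 (cj (g * h)⁻¹ c) = l.1 (cj h⁻¹ (cj g⁻¹ c))
          congr 1; apply Subtype.ext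
          show (g * h)⁻¹ * (c : G) * (g * h)⁻¹⁻¹ = h⁻¹ * (g⁻¹ * (c : G) * g⁻¹⁻¹) * h⁻¹⁻¹
          simp [mul_assoc] }
    set cA : ℂ := (Nat.card A : ℂ)⁻¹ with hcA
    have hA0 : (Nat.card A : ℂ) ≠ 0 := by exact_mod_cast Nat.card_pos.ne'
    let P : X → Module.End ℂ (Fin m → ℂ) := fun l => cA • ∑ a : A, l.1 a⁻¹ • ρ (a : G)
    have hρP : ∀ (b : A) (l : X), ρ (b : G) * P l = l.1 b • P l := by
      intro b l
      simp only [P, mul_smul_comm, Finset.mul_sum, smul_comm (l.1 b) cA, Finset.smul_sum, smul_smul]
      refine Fintype.sum_equiv (Equiv.mulLeft b) _ _ fun a => ?_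
      simp only [Equiv.coe_mulLeft, Subgroup.coe_mul, map_mul, mul_inv_rev, smul_smul]
      congr 1
      calc cA * l.1 a⁻¹ = cA * (l.1 b * (l.1 a⁻¹ * l.1 b⁻¹)) := by
            rw [← map_mul, ← map_mul, hab a⁻¹, mul_inv_cancel_left]
        _ = l.1 b * (cA * (l.1 a⁻¹ * l.1 b⁻¹)) := by ring
    have hsum1 : ∑ l : X, P l = 1 := by
      simp only [P, ← Finset.smul_sum]
      rw [Finset.sum_comm]
      have hXs : ∀ a : A, (∑ l : X, l.1 a⁻¹) = (Nat.card X : ℂ) * if a = 1 then 1 else 0 := by
        intro a
        refine (hXsum a⁻¹).trans ?_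
        simp only [Subgroup.mem_bot, inv_eq_one]
        split_ifs <;> rfl
      simp only [← Finset.sum_smul, hXs]
      rw [Finset.sum_eq_single (1 : A)]
      · rw [if_pos rfl, mul_one, hXcard, smul_smul, inv_mul_cancel₀ hA0, one_smul]
        simp
      · intro a _ ha; rw [if_neg ha, mul_zero, zero_smul]
      · intro h; exact absurd (Finset.mem_univ _) h
    have hprod : ∀ l μ : X, P μ * P l = if μ = l then P l else 0 := by
      intro l μ
      have : P μ * P l = (cA * ∑ a : A, μ.1 a⁻¹ * l.1 a) • P l := by
        show (cA • ∑ a : A, μ.1 a⁻¹ • ρ (a : G)) * P l = _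
        rw [smul_mul_assoc, Finset.sum_mul]
        simp only [smul_mul_assoc, hρP, smul_smul, ← Finset.sum_smul]
      rw [this]
      split_ifs with h
      · subst h
        have : ∀ a : A, μ.1 a⁻¹ * μ.1 a = 1 := fun a => by rw [← map_mul, inv_mul_cancel, map_one]
        simp only [this, Finset.sum_const, Finset.card_univ, nsmul_one]
        rw [← Nat.card_eq_fintype_card, inv_mul_cancel₀ hA0, one_smul]
      · obtain ⟨b, hb⟩ : ∃ b : A, μ.1 b⁻¹ * l.1 b ≠ 1 := by
          by_contra hno
          apply h
          apply Subtype.ext; apply MonoidHom.ext; intro b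
          have h2 : μ.1 b⁻¹ * l.1 b = 1 := not_not.1 fun hb => hno ⟨b, hb⟩
          calc μ.1 b = μ.1 b * (μ.1 b⁻¹ * l.1 b) := by rw [h2, mul_one]
            _ = l.1 b := by rw [← mul_assoc, ← map_mul, mul_inv_cancel, map_one, one_mul]
        have hs : ∑ a : A, μ.1 a⁻¹ * l.1 a = (μ.1 b⁻¹ * l.1 b) * ∑ a : A, μ.1 a⁻¹ * l.1 a := by
          rw [Finset.mul_sum]
          refine Fintype.sum_equiv (Equiv.mulLeft b⁻¹) _ _ fun a => ?_
          simp only [Equiv.coe_mulLeft, mul_inv_rev, inv_inv, map_mul]
          have e1 : μ.1 b⁻¹ * μ.1 b = 1 := by rw [← map_mul, inv_mul_cancel, map_one]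
          have e2 : l.1 b * l.1 b⁻¹ = 1 := by rw [← map_mul, mul_inv_cancel, map_one]
          linear_combination (-(μ.1 a⁻¹ * l.1 a)) * e1 + (-(μ.1 a⁻¹ * l.1 a * (μ.1 b⁻¹ * μ.1 b))) * e2
        have h0 : ∑ a : A, μ.1 a⁻¹ * l.1 a = 0 := by
          by_contra hS
          exact hb (mul_eq_right₀ hS |>.1 hs.symm)
        rw [h0, mul_zero, zero_smul]
    have hconj : ∀ (g : G) (l : X), ρ g * P l = P (g • l) * ρ g := by
      intro g l
      simp only [P, mul_smul_comm, smul_mul_assoc, Finset.mul_sum, Finset.sum_mul]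
      congr 1
      have hbij : Function.Bijective (cj g) := by
        apply Finite.injective_iff_bijective.1
        intro a b h
        exact Subtype.ext (mul_left_cancel (mul_right_cancel (congrArg Subtype.val h)))
      refine Fintype.sum_equiv (Equiv.ofBijective _ hbij) _ _ fun a => ?_
      simp only [Equiv.ofBijective_apply]
      have e1 : (g • l).1 (cj g a)⁻¹ = l.1 a⁻¹ := by
        show l.1 (cj g⁻¹ (cj g a)⁻¹) = l.1 a⁻¹
        congr 1; apply Subtype.ext
        show g⁻¹ * (g * (a : G) * g⁻¹)⁻¹ * g⁻¹⁻¹ = (a : G)⁻¹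
        group
      have e2 : ρ ((cj g a : A) : G) * ρ g = ρ g * ρ (a : G) := by
        rw [← map_mul, ← map_mul]
        congr 1
        show g * (a : G) * g⁻¹ * g = g * a
        group
      rw [e1, e2]
    have hPe : ∀ l : X, P l * e = e * P l := by
      intro l
      simp only [P, smul_mul_assoc, mul_smul_comm, Finset.mul_sum, Finset.sum_mul, hcomm]
    have hidem : ∀ l : X, (P l * e) * (P l * e) = P l * e := by
      intro l
      calc (P l * e) * (P l * e) = P l * (e * P l) * e := by simp only [mul_assoc]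
        _ = (P l * P l) * (e * e) := by rw [← hPe l]; simp only [mul_assoc]
        _ = P l * e := by rw [hprod l l, if_pos rfl, he]
    let F : G → X → ℂ := fun g l => LinearMap.trace ℂ _ (ρ g * (P l * e))
    have hF : ∀ g y l, g • y • l = y • l → F (y⁻¹ * g * y) l = F g (y • l) := by
      intro g y l _
      show LinearMap.trace ℂ _ (ρ (y⁻¹ * g * y) * (P l * e)) = LinearMap.trace ℂ _ (ρ g * (P (y • l) * e))
      have : ρ (y⁻¹ * g * y) * (P l * e) = ρ y⁻¹ * (ρ g * (P (y • l) * e) * ρ y) := by
        calc ρ (y⁻¹ * g * y) * (P l * e) = ρ y⁻¹ * (ρ g * ((ρ y * P l) * e)) := by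
              simp only [map_mul, mul_assoc]
          _ = ρ y⁻¹ * (ρ g * (P (y • l) * e) * ρ y) := by
              rw [hconj y l, mul_assoc (P (y • l)), hcomm y]; simp only [mul_assoc]
      rw [this, LinearMap.trace_mul_comm, mul_assoc, ← map_mul, mul_inv_cancel, map_one, mul_one]
    have hchar : ∀ g, LinearMap.trace ℂ _ (ρ g * e) = ∑ l : X, if g • l = l then F g l else 0 := by
      intro g
      have h1 : ρ g * e = ∑ l : X, ρ g * (P l * e) := by
        rw [← Finset.mul_sum, ← Finset.sum_mul, hsum1, one_mul]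
      rw [h1, map_sum]
      refine Finset.sum_congr rfl fun l _ => ?_
      split_ifs with hl
      · rfl
      · have h3 : LinearMap.trace ℂ _ (ρ g * (P l * e)) = LinearMap.trace ℂ _ (P l * (P (g • l) * (ρ g * e))) := by
          conv_lhs => rw [← mul_assoc, ← show (P l * P l) = P l by rw [hprod l l, if_pos rfl],
            ← mul_assoc (ρ g), mul_assoc (ρ g * P l), hPe l, ← mul_assoc, LinearMap.trace_mul_comm,
            hconj g l]
          simp only [mul_assoc]
        rw [h3, ← mul_assoc, hprod (g • l) l, if_neg (fun h => hl h.symm), zero_mul, map_zero]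
    have key : ∀ l : X, (fun t : stabilizer G l => F (t : G) l) ∈
        Submodule.span ℤ (monoSet (fun _ : Subgroup (stabilizer G l) => True)) := by
      intro l
      set T := stabilizer G l with hT
      by_cases hTtop : T = ⊤
      · -- invariant character
        have hinv : ∀ g : G, g • l = l := fun g => by
          have : g ∈ T := hTtop ▸ Subgroup.mem_top g
          exact this
        set K : Subgroup G := (MonoidHom.ker l.1.toHomUnits).map A.subtype with hK
        have hKmem : ∀ a : A, (a : G) ∈ K ↔ l.1 a = 1 := by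
          intro a
          rw [hK, Subgroup.mem_map]
          constructor
          · rintro ⟨b, hb, hba⟩
            rw [← Subtype.ext (show (b : G) = a from hba)]
            rw [MonoidHom.mem_ker, Units.ext_iff] at hb
            simpa using hb
          · intro h
            exact ⟨a, by rw [MonoidHom.mem_ker, Units.ext_iff]; simpa using h, rfl⟩
        haveI hKn : K.Normal := by
          refine ⟨fun k hk g => ?_⟩
          obtain ⟨a, ha, rfl⟩ := hk
          have h1 : l.1 a = 1 := by
            have := (MonoidHom.mem_ker).1 ha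
            rw [Units.ext_iff] at this
            simpa using this
          show ((cj g a : A) : G) ∈ K
          rw [hKmem]
          have := congrArg (fun z : X => z.1 a) (hinv g⁻¹)
          have e : (g⁻¹ • l).1 a = l.1 (cj g⁻¹⁻¹ a) := rfl
          rw [inv_inv] at e
          exact (e.symm.trans this).trans h1
        by_cases hKbot : K = ⊥
        · -- faithful: the group is abelian
          have hAcen : A ≤ Subgroup.center G := by
            intro a ha
            rw [Subgroup.mem_center_iff]
            intro g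
            have h := congrArg (fun z : X => z.1 ⟨a, ha⟩) (hinv g)
            have e : (g • l).1 ⟨a, ha⟩ = l.1 (cj g⁻¹ ⟨a, ha⟩) := rfl
            have h' : l.1 (cj g⁻¹ ⟨a, ha⟩) = l.1 ⟨a, ha⟩ := e.symm.trans h
            have hm : ((cj g⁻¹ ⟨a, ha⟩ * (⟨a, ha⟩ : A)⁻¹ : A) : G) ∈ K := by
              rw [hKmem, map_mul, h', ← map_mul, mul_inv_cancel, map_one]
            rw [hKbot, Subgroup.mem_bot] at hm
            have h2 : g⁻¹ * a * g⁻¹⁻¹ * a⁻¹ = 1 := hm
            rw [inv_inv, mul_inv_eq_one, mul_assoc, inv_mul_eq_iff_eq_mul] at h2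
            exact h2.symm
          have hTop : ∀ g : G, g ∈ A := fun g => hAself (Subgroup.mem_centralizer_iff.2
            fun a ha => (Subgroup.mem_center_iff.1 (hAcen ha) g).symm)
          obtain ⟨k, hk⟩ := trace_idem (hidem l)
          let lt : T →* ℂ := l.1.comp (MonoidHom.mk' (fun t : T => (⟨(t : G), hTop t⟩ : A))
            (fun a b => rfl))
          have : (fun t : T => F (t : G) l) = (k : ℂ) • (lt : T → ℂ) := by
            funext t
            show LinearMap.trace ℂ _ (ρ (t : G) * (P l * e)) = _
            rw [← mul_assoc, show ρ (t : G) = ρ ((⟨(t : G), hTop t⟩ : A) : G) from rfl, hρP,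
              smul_mul_assoc, map_smul, hk]
            simp [lt, mul_comm]
          rw [this]
          refine monoSet_smul k ?_
          refine Submodule.subset_span ⟨⊤, trivial, lt.comp (⊤ : Subgroup T).subtype, ?_⟩
          funext t
          rw [indFun_top _ (hom_classFun _)]
          rfl
        · -- factor through the quotient
          set e' := P l * e with he'def
          have hce : ∀ g, ρ g * e' = e' * ρ g := by
            intro g
            rw [he'def, ← mul_assoc, hconj g l, hinv g, mul_assoc, hcomm, ← mul_assoc]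
          have hke : ∀ k : G, k ∈ K → ρ k * e' = e' := by
            intro k hk
            obtain ⟨a, ha, rfl⟩ := hk
            have h1 : l.1 a = 1 := by
              have := (MonoidHom.mem_ker).1 ha
              rw [Units.ext_iff] at this
              simpa using this
            show ρ (a : G) * _ = _
            rw [he'def, ← mul_assoc, hρP, h1, one_smul]
          have hee : e' * e' = e' := hidem l
          let ρ0 : G →* Module.End ℂ (Fin m → ℂ) :=
          { toFun := fun g => ρ g * e' + (1 - e')
            map_one' := by rw [map_one, one_mul, add_sub_cancel]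
            map_mul' := fun g h => by
              have h1 : ρ g * e' * (ρ h * e') = ρ (g * h) * e' := by
                rw [mul_assoc, ← mul_assoc e', ← hce h, mul_assoc (ρ h), hee, ← mul_assoc, map_mul]
              have h2 : ρ g * e' * (1 - e') = 0 := by
                rw [mul_sub, mul_one, mul_assoc, hee, sub_self]
              have h3 : (1 - e') * (ρ h * e') = 0 := by
                rw [sub_mul, one_mul, hce h, ← mul_assoc, hee, sub_self]
              have h4 : (1 - e') * (1 - e') = 1 - e' := by
                rw [sub_mul, one_mul, mul_sub, mul_one, hee, sub_self, sub_zero]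
              rw [add_mul, mul_add, mul_add, h1, h2, h3, h4, add_zero, zero_add] }
          have hK0 : K ≤ ρ0.ker := fun k hk => by
            rw [MonoidHom.mem_ker]
            show ρ k * e' + (1 - e') = 1
            rw [hke k hk, add_sub_cancel]
          let ρQ : Representation ℂ (G ⧸ K) (Fin m → ℂ) := QuotientGroup.lift K ρ0 hK0
          have hQ : ∀ g : G, ρQ (g : G ⧸ K) * e' = ρ g * e' := by
            intro g
            show (ρ g * e' + (1 - e')) * e' = _
            rw [add_mul, sub_mul, one_mul, mul_assoc, hee, sub_self, add_zero]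
          have hlt : Nat.card (G ⧸ K) < n := by
            rw [← hn, ← Subgroup.index_eq_card]
            have h1 := K.card_mul_index
            have h2 : 1 < Nat.card K := Subgroup.one_lt_card_iff_ne_bot K |>.2 hKbot
            have h3 : 0 < K.index := Nat.pos_of_ne_zero Subgroup.index_ne_zero_of_finite
            nlinarith
          haveI : Fintype (G ⧸ K) := Fintype.ofFinite _
          haveI := hnil
          have h1 := ih _ hlt (G ⧸ K) rfl inferInstance m ρQ e' hee (fun q => by
            induction q using QuotientGroup.induction_on with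
            | H g =>
              show (ρ g * e' + (1 - e')) * e' = e' * (ρ g * e' + (1 - e'))
              rw [add_mul, mul_add, mul_assoc, hee, ← mul_assoc e', ← hce g, mul_assoc (ρ g), hee,
                sub_mul, mul_sub, one_mul, mul_one])
          have h2 := inflate_mem (G := G) (QuotientGroup.mk' K) (QuotientGroup.mk'_surjective K) h1
          have h3 : (fun g : G => LinearMap.trace ℂ _ (ρ g * e')) ∈
              Submodule.span ℤ (monoSet (fun _ : Subgroup G => True)) := by
            refine (congrArg (· ∈ _) ?_).mp h2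
            funext g
            exact congrArg _ (hQ g)
          let ι : T →* G := T.subtype
          have hι : Function.Surjective ι := fun g => ⟨⟨g, hTtop ▸ Subgroup.mem_top g⟩, rfl⟩
          exact inflate_mem (G := T) ι hι h3
      · have hlt : Nat.card T < n := by
          rw [← hn]
          rcases lt_or_ge (Nat.card T) (Nat.card G) with h | h
          · exact h
          · exact absurd (Subgroup.eq_top_of_le_card _ h) hTtop
        haveI := hnil
        exact ih _ hlt T rfl inferInstance m (ρ.comp T.subtype) (P l * e) (hidem l) (fun t => by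
          show ρ (t : G) * (P l * e) = (P l * e) * ρ (t : G)
          rw [← mul_assoc, hconj, (show (t : G) • l = l from t.2), mul_assoc, hcomm, ← mul_assoc])
    have hdec : (fun g => LinearMap.trace ℂ _ (ρ g * e)) =
        ∑ ω : orbitRel.Quotient G X, indFun (stabilizer G ω.out) (fun t => F (t : G) ω.out) := by
      funext g
      rw [hchar g, Finset.sum_apply]
      convert fixed_decomp F hF g
    rw [hdec]
    exact Submodule.sum_mem _ fun ω _ => indFun_monoSet (fun _ _ => trivial) (key ω.out)

theorem isElementary_of_le {p : ℕ} (hp : p.Prime) {H K : Subgroup G} (hH : IsElementary p H)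
    (hKH : K ≤ H) : IsElementary p K := by
  obtain ⟨x, hx, ho, k, hk⟩ := hH
  set Z : Subgroup G := Subgroup.zpowers (x : G) with hZ
  haveI : IsCyclic ↥(Z ⊓ K) :=
    isCyclic_of_injective (Subgroup.inclusion inf_le_left)
      (Subgroup.inclusion_injective (inf_le_left : Z ⊓ K ≤ Z))
  obtain ⟨z, hz⟩ := IsCyclic.exists_generator (α := ↥(Z ⊓ K))
  have hzH : ∀ g ∈ H, g * (z : G) = (z : G) * g := by
    intro g hg
    obtain ⟨i, hi⟩ := Subgroup.mem_zpowers_iff.1 z.2.1
    have h1 : g * (x : G) = (x : G) * g := congrArg Subtype.val (Subgroup.mem_center_iff.1 hx ⟨g, hg⟩)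
    rw [← hi]; exact (Commute.zpow_right h1 i).eq
  refine ⟨⟨(z : G), z.2.2⟩, ?_, ?_, ?_⟩
  · rw [Subgroup.mem_center_iff]
    exact fun g => Subtype.ext (hzH g (hKH g.2))
  · rw [Subgroup.orderOf_mk, Subgroup.orderOf_coe, orderOf_eq_card_of_forall_mem_zpowers hz]
    refine ho.coprime_dvd_left ?_
    refine (Subgroup.card_dvd_of_le (inf_le_left : Z ⊓ K ≤ Z)).trans ?_
    rw [hZ, Nat.card_zpowers, Subgroup.orderOf_coe]
  · have h1 : Subgroup.zpowers (⟨(z : G), z.2.2⟩ : K) = (Z ⊓ K).subgroupOf K := by
      ext g
      rw [Subgroup.mem_subgroupOf, Subgroup.mem_zpowers_iff]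
      constructor
      · rintro ⟨i, rfl⟩
        exact (Z ⊓ K).zpow_mem z.2 i
      · intro hg
        obtain ⟨i, hi⟩ := Subgroup.mem_zpowers_iff.1 (hz ⟨g, hg⟩)
        exact ⟨i, Subtype.ext (by simpa using congrArg Subtype.val hi)⟩
    have h2 : Z.relIndex K ∣ p ^ k := by
      have hZH : Z.subgroupOf H = Subgroup.zpowers x := by
        apply Subgroup.map_injective H.subtype_injective
        rw [Subgroup.subgroupOf_map_subtype, MonoidHom.map_zpowers, Subgroup.coe_subtype, hZ,
          inf_eq_left, Subgroup.zpowers_le]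
        exact x.2
      haveI : (Z.subgroupOf H).Normal := by
        rw [hZH]
        exact ⟨fun y hy g => by
          have hy' := (Subgroup.zpowers_le.2 hx) hy
          rw [Subgroup.mem_center_iff.1 hy' g, mul_inv_cancel_right]; exact hy⟩
      have := Subgroup.relIndex_dvd_index_of_normal (Z.subgroupOf H) (K.subgroupOf H)
      rw [Subgroup.relIndex_subgroupOf hKH] at this
      rwa [hZH, hk] at this
    obtain ⟨i, _, hi⟩ := (Nat.dvd_prime_pow hp).1 h2
    exact ⟨i, by rw [h1]; exact (Subgroup.inf_relIndex_right Z K).trans hi⟩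

omit [Fintype G] in
theorem isNilpotent_of_elementary [Finite G] {p : ℕ} (hp : p.Prime) (h : IsElementary p G) :
    Group.IsNilpotent G := by
  obtain ⟨x, hx, -, k, hk⟩ := h
  haveI : Fact p.Prime := ⟨hp⟩
  haveI : (Subgroup.zpowers x).Normal := ⟨fun y hy g => by
    have hy' := (Subgroup.zpowers_le.2 hx) hy
    rw [Subgroup.mem_center_iff.1 hy' g, mul_inv_cancel_right]; exact hy⟩
  have hQ : IsPGroup p (G ⧸ Subgroup.zpowers x) := by
    refine IsPGroup.of_card (n := k) ?_
    rw [← Subgroup.index_eq_card]; exact hk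
  have hQ2 : IsPGroup p (G ⧸ Subgroup.center G) :=
    hQ.of_surjective (QuotientGroup.map (Subgroup.zpowers x) (Subgroup.center G) (MonoidHom.id G)
      (fun y hy => (Subgroup.zpowers_le.2 hx) hy))
      (fun q => by
        obtain ⟨g, rfl⟩ := QuotientGroup.mk_surjective q
        exact ⟨(g : G ⧸ Subgroup.zpowers x), rfl⟩)
  exact Group.of_quotient_center_nilpotent hQ2.isNilpotent

/-- Brauer: every character is a combination of induced linear characters of elementary
subgroups. -/
theorem char_mem {χ : G → ℂ} (hχ : IsCharacter G χ) :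
    χ ∈ Submodule.span ℤ (monoSet (IsElem (G := G))) := by
  obtain ⟨m, ρ, rfl⟩ := hχ
  have hcl : IsClassFunction G ρ.character := fun g h => Representation.char_conj ρ g h
  suffices h : ∀ f ∈ Submodule.span ℤ (monoSet (IsElem (G := G))),
      ρ.character * f ∈ Submodule.span ℤ (monoSet (IsElem (G := G))) by
    have h1 : ρ.character * (fun _ : G => (1 : ℂ)) ∈ _ := h _ brauer
    have h2 : ρ.character * (fun _ : G => (1 : ℂ)) = ρ.character := mul_one _
    rwa [h2] at h1
  intro f hf
  induction hf using Submodule.span_induction with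
  | mem x hx =>
    obtain ⟨E, ⟨p, hp, hE⟩, l, rfl⟩ := hx
    rw [mul_indFun _ _ _ hcl]
    haveI : Fintype E := Fintype.ofFinite _
    haveI := isNilpotent_of_elementary hp hE
    let σ : Representation ℂ E (Fin m → ℂ) :=
      { toFun := fun t => l t • ρ (t : G)
        map_one' := by simp
        map_mul' := fun a b => by
          rw [map_mul, Subgroup.coe_mul, map_mul, smul_mul_smul_comm] }
    have h1 := nilpotent_mem _ E rfl inferInstance m σ 1 (mul_one 1) (fun g => (Commute.one_right (σ g)).eq)
    have h2 : (fun h : E => ρ.character (h : G)) * (l : E → ℂ)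
        = fun g => LinearMap.trace ℂ _ (σ g * 1) := by
      funext g
      show LinearMap.trace ℂ _ (ρ (g : G)) * l g = LinearMap.trace ℂ _ ((l g • ρ (g : G)) * 1)
      rw [mul_one, map_smul, smul_eq_mul, mul_comm]
    rw [h2]
    refine indFun_monoSet (fun K _ => ⟨p, hp, ?_⟩) h1
    exact isElementary_of_le hp hE (Subgroup.map_subtype_le K)
  | zero => simp
  | add x y _ _ h1 h2 => rw [mul_add]; exact add_mem h1 h2
  | smul r x _ h => rw [mul_smul_comm]; exact Submodule.smul_mem _ r h

theorem genChar_mem {θ : G → ℂ} (hθ : IsGeneralizedCharacter G θ) :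
    θ ∈ Submodule.span ℤ (monoSet (IsElem (G := G))) := by
  obtain ⟨χ, ψ, hχ, hψ, rfl⟩ := hθ
  exact Submodule.sub_mem _ (char_mem hχ) (char_mem hψ)

end Cfsg.Agent.Lib.Brauer.Monomial
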