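import Cfsg.Prelude.Def_Characters
import Mathlib.GroupTheory.GroupAction.Quotient
import Mathlib.GroupTheory.Commutator.Basic

/-!
Induced functions: transitivity, projection formula, and the decomposition of a monomial
cocycle on a finite G-set into induced linear functions.
-/

set_option autoImplicit false

namespace Cfsg.Agent.Lib.Brauer.PermChar

open Cfsg MulAction

universe u v

variable {G : Type u} [Group G]

theorem ext0_mem {H : Subgroup G} (θ : H → ℂ) {g : G} (hg : g ∈ H) :
    extendByZero H θ g = θ ⟨g, hg⟩ := by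
  show Function.extend (Subtype.val : H → G) θ 0 ((⟨g, hg⟩ : H) : G) = _
  exact Subtype.val_injective.extend_apply _ _ _

theorem ext0_notMem {H : Subgroup G} (θ : H → ℂ) {g : G} (hg : g ∉ H) :
    extendByZero H θ g = 0 := by
  unfold extendByZero
  rw [Function.extend_apply' _ _ _ (by rintro ⟨a, rfl⟩; exact hg a.2)]
  rfl

open Classical in
theorem ext0_eq {H : Subgroup G} (θ : H → ℂ) (g : G) :
    extendByZero H θ g = if hg : g ∈ H then θ ⟨g, hg⟩ else 0 := by
  by_cases hg : g ∈ H
  · rw [dif_pos hg, ext0_mem θ hg]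
  · rw [dif_neg hg, ext0_notMem θ hg]

theorem ext0_conj {H : Subgroup G} (θ : H → ℂ) (hθ : IsClassFunction H θ) {k : G} (hk : k ∈ H)
    (g : G) : extendByZero H θ (k * g * k⁻¹) = extendByZero H θ g := by
  by_cases hg : g ∈ H
  · rw [ext0_mem θ hg, ext0_mem θ (H.mul_mem (H.mul_mem hk hg) (H.inv_mem hk))]
    exact hθ ⟨g, hg⟩ ⟨k, hk⟩
  · have : k * g * k⁻¹ ∉ H := by
      intro h
      have := H.mul_mem (H.mul_mem (H.inv_mem hk) h) hk
      exact hg (by simpa [mul_assoc] using this)
    rw [ext0_notMem θ hg, ext0_notMem θ this]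

variable [Fintype G]

theorem indFun_classFun (H : Subgroup G) (θ : H → ℂ) : IsClassFunction G (indFun H θ) := by
  intro g h
  unfold indFun
  congr 1
  refine Fintype.sum_equiv (Equiv.mulLeft h⁻¹) _ _ fun x => ?_
  simp [mul_assoc]

theorem indFun_top (θ : (⊤ : Subgroup G) → ℂ) (hθ : IsClassFunction (⊤ : Subgroup G) θ) (g : G) :
    indFun ⊤ θ g = θ ⟨g, trivial⟩ := by
  unfold indFun
  have : ∀ x : G, extendByZero ⊤ θ (x⁻¹ * g * x) = θ ⟨g, trivial⟩ := fun x => by
    have := ext0_conj θ hθ (k := x⁻¹) trivial g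
    rw [inv_inv] at this
    rw [this, ext0_mem θ (Subgroup.mem_top g)]
  rw [Finset.sum_congr rfl (fun x _ => this x)]
  simp

theorem indFun_add (H : Subgroup G) (θ η : H → ℂ) :
    indFun H (θ + η) = indFun H θ + indFun H η := by
  funext g
  simp only [indFun, Pi.add_apply, ← mul_add, ← Finset.sum_add_distrib]
  congr 1
  refine Finset.sum_congr rfl fun x _ => ?_
  by_cases hg : x⁻¹ * g * x ∈ H
  · simp [ext0_mem _ hg]
  · simp [ext0_notMem _ hg]

theorem indFun_smul (H : Subgroup G) (c : ℂ) (θ : H → ℂ) :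
    indFun H (c • θ) = c • indFun H θ := by
  funext g
  simp only [indFun, Pi.smul_apply, smul_eq_mul, Finset.mul_sum]
  refine Finset.sum_congr rfl fun x _ => ?_
  by_cases hg : x⁻¹ * g * x ∈ H
  · simp [ext0_mem _ hg]; ring
  · simp [ext0_notMem _ hg]

theorem indFun_zero (H : Subgroup G) : indFun H (0 : H → ℂ) = 0 := by
  have := indFun_smul H 0 (0 : H → ℂ)
  simpa using this

/-- Projection formula. -/
theorem mul_indFun (H : Subgroup G) (θ : H → ℂ) (f : G → ℂ) (hf : IsClassFunction G f) :
    f * indFun H θ = indFun H ((fun h : H => f h) * θ) := by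
  funext g
  simp only [indFun, Pi.mul_apply, Finset.mul_sum]
  refine Finset.sum_congr rfl fun x _ => ?_
  by_cases hg : x⁻¹ * g * x ∈ H
  · simp only [ext0_mem _ hg, Pi.mul_apply]
    have : f (x⁻¹ * g * x) = f g := by simpa using hf g x⁻¹
    rw [this]; ring
  · simp [ext0_notMem _ hg]

/-- Transitivity of induction. -/
theorem indFun_indFun (H : Subgroup G) [Fintype H] (K : Subgroup H) (θ : K → ℂ) :
    indFun H (indFun K θ) = indFun (K.map H.subtype)
      (fun k => θ ((K.equivMapOfInjective H.subtype Subtype.val_injective).symm k)) := by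
  classical
  funext g
  set θ' : (K.map H.subtype) → ℂ :=
      fun k => θ ((K.equivMapOfInjective H.subtype Subtype.val_injective).symm k) with hθ'
  have hcardK : Nat.card (K.map H.subtype) = Nat.card K :=
    (Nat.card_congr (K.equivMapOfInjective H.subtype Subtype.val_injective).toEquiv).symm
  have key : ∀ y : H, extendByZero (K.map H.subtype) θ' (y : G) = extendByZero K θ y := by
    intro y
    by_cases hy : y ∈ K
    · have hy' : (y : G) ∈ K.map H.subtype := ⟨y, hy, rfl⟩
      rw [ext0_mem _ hy, ext0_mem _ hy', hθ']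
      simp only
      congr 1
      rw [MulEquiv.symm_apply_eq]
      exact Subtype.ext rfl
    · have hy' : (y : G) ∉ K.map H.subtype := by
        rintro ⟨z, hz, hzy⟩
        exact hy (by rwa [← Subtype.ext (show (z : G) = y from hzy)])
      rw [ext0_notMem _ hy, ext0_notMem _ hy']
  have key2 : ∀ z : G, extendByZero H (indFun K θ) z =
      (Nat.card K : ℂ)⁻¹ * ∑ h : H, extendByZero (K.map H.subtype) θ' ((h : G)⁻¹ * z * h) := by
    intro z
    by_cases hz : z ∈ H
    · rw [ext0_mem _ hz, indFun]
      congr 1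
      refine Finset.sum_congr rfl fun h _ => ?_
      rw [← key]; rfl
    · rw [ext0_notMem _ hz]
      have : ∀ h : H, extendByZero (K.map H.subtype) θ' ((h : G)⁻¹ * z * h) = 0 := by
        intro h
        apply ext0_notMem
        rintro ⟨w, _, hw⟩
        have hw' : (h : G)⁻¹ * z * h ∈ H := hw ▸ w.2
        exact hz (by simpa [mul_assoc] using H.mul_mem (H.mul_mem h.2 hw') (H.inv_mem h.2))
      simp [this]
  show (Nat.card H : ℂ)⁻¹ * ∑ x : G, extendByZero H (indFun K θ) (x⁻¹ * g * x)
    = (Nat.card (K.map H.subtype) : ℂ)⁻¹ * ∑ x : G, extendByZero (K.map H.subtype) θ' (x⁻¹ * g * x)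
  simp only [key2]
  rw [← Finset.mul_sum, Finset.sum_comm]
  have hh : ∀ h : H, ∑ x : G, extendByZero (K.map H.subtype) θ' ((h : G)⁻¹ * (x⁻¹ * g * x) * h)
      = ∑ x : G, extendByZero (K.map H.subtype) θ' (x⁻¹ * g * x) := fun h =>
    Fintype.sum_equiv (Equiv.mulRight (h : G)) _ _ (fun x => by simp [mul_assoc])
  simp only [hh]
  rw [Finset.sum_const, nsmul_eq_mul, hcardK, Finset.card_univ, Nat.card_eq_fintype_card (α := H)]
  have : (Fintype.card H : ℂ) ≠ 0 := by exact_mod_cast Fintype.card_ne_zero
  field_simp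

/-- A cocycle on a G-set: the data of a monomial representation. -/
structure IsCocycle {X : Type v} [MulAction G X] (w : G → X → ℂ) : Prop where
  one : ∀ x, w 1 x = 1
  mul : ∀ g h x, w (g * h) x = w g (h • x) * w h x

/-- The restriction of a cocycle to a point stabilizer is a homomorphism. -/
noncomputable def stabHom {X : Type v} [MulAction G X] {w : G → X → ℂ} (hw : IsCocycle w) (x : X) :
    stabilizer G x →* ℂ where
  toFun t := w (t : G) x
  map_one' := hw.one x
  map_mul' s t := by
    show w ((s : G) * t) x = _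
    rw [hw.mul, mem_stabilizer_iff.1 t.2]

open Classical in
/-- The character of a monomial representation is a sum of induced linear functions. -/
theorem monomial_decomp {X : Type v} [MulAction G X] [Fintype X] (w : G → X → ℂ)
    (hw : IsCocycle w) (g : G) :
    (∑ x : X, if g • x = x then w g x else 0)
      = ∑ ω : orbitRel.Quotient G X, indFun (stabilizer G ω.out) (stabHom hw ω.out) g := by
  set F : X → ℂ := fun x => if g • x = x then w g x else 0 with hF
  rw [← Finset.sum_fiberwise Finset.univ (fun x : X => (Quotient.mk'' x : orbitRel.Quotient G X)) F]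
  refine Finset.sum_congr rfl fun ω _ => ?_
  set a : X := ω.out with ha
  have hS : (Nat.card (stabilizer G a) : ℂ) ≠ 0 := by
    exact_mod_cast Nat.card_pos.ne'
  have step1 : ∀ y : G, extendByZero (stabilizer G a) (stabHom hw a) (y⁻¹ * g * y) = F (y • a) := by
    intro y
    have hiff : (y⁻¹ * g * y ∈ stabilizer G a) ↔ g • y • a = y • a := by
      rw [mem_stabilizer_iff, mul_smul, mul_smul, inv_smul_eq_iff]
    by_cases hg : g • y • a = y • a
    · rw [ext0_mem _ (hiff.2 hg)]
      simp only [hF, if_pos hg]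
      show w (y⁻¹ * g * y) a = w g (y • a)
      rw [hw.mul (y⁻¹ * g) y a, hw.mul y⁻¹ g (y • a), hg]
      have h1 := hw.mul y⁻¹ y a
      rw [inv_mul_cancel, hw.one] at h1
      calc w y⁻¹ (y • a) * w g (y • a) * w y a = (w y⁻¹ (y • a) * w y a) * w g (y • a) := by ring
        _ = w g (y • a) := by rw [← h1, one_mul]
    · rw [ext0_notMem _ (fun h => hg (hiff.1 h))]
      simp only [hF, if_neg hg]
  unfold indFun
  simp only [step1]
  have step2 : ∑ y : G, F (y • a) =
      (Nat.card (stabilizer G a) : ℂ) *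
        ∑ x ∈ Finset.univ.filter (fun x : X => (Quotient.mk'' x : orbitRel.Quotient G X) = ω), F x := by
    rw [Finset.mul_sum]
    rw [← Finset.sum_fiberwise_of_maps_to (g := fun y : G => y • a)
      (t := Finset.univ.filter (fun x : X => (Quotient.mk'' x : orbitRel.Quotient G X) = ω))]
    · refine Finset.sum_congr rfl fun z hz => ?_
      rw [Finset.mem_filter] at hz
      have hz' : (Quotient.mk'' z : orbitRel.Quotient G X) = Quotient.mk'' a := by
        rw [hz.2, ha]; exact (Quotient.out_eq' ω).symm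
      obtain ⟨y0, hy0⟩ := (Quotient.eq''.1 hz' : z ∈ orbit G a)
      simp only at hy0
      subst hy0
      rw [Finset.sum_congr rfl (fun y hy => by rw [(Finset.mem_filter.1 hy).2] :
        ∀ y ∈ Finset.univ.filter (fun y : G => y • a = y0 • a), F (y • a) = F (y0 • a))]
      rw [Finset.sum_const, nsmul_eq_mul]
      congr 2
      rw [Nat.card_eq_fintype_card, ← Finset.card_univ]
      refine Finset.card_bij' (fun y hy => (⟨y0⁻¹ * y, ?_⟩ : stabilizer G a)) (fun s _ => y0 * (s : G))
        ?_ ?_ ?_ ?_
      · rw [mem_stabilizer_iff, mul_smul, (Finset.mem_filter.1 hy).2, inv_smul_smul]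
      · intros; simp
      · intro s _
        simp [mul_smul, mem_stabilizer_iff.1 s.2]
      · intros; simp
      · intros; simp
    · intro y _
      simp only [Finset.mem_filter, Finset.mem_univ, true_and]
      rw [← Quotient.out_eq' ω]
      exact Quotient.eq''.2 ⟨y, rfl⟩
  rw [step2, ← mul_assoc, inv_mul_cancel₀ hS, one_mul]

omit [Fintype G] in
theorem trivCocycle {X : Type v} [MulAction G X] : IsCocycle (fun (_ : G) (_ : X) => (1 : ℂ)) :=
  ⟨fun _ => rfl, fun _ _ _ => (one_mul 1).symm⟩

open Classical in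
/-- A permutation character is a sum of permutation characters on stabilizers. -/
theorem permChar_decomp {X : Type v} [MulAction G X] [Fintype X] (g : G) :
    ((Nat.card {x : X // g • x = x} : ℕ) : ℂ)
      = ∑ ω : orbitRel.Quotient G X, indFun (stabilizer G ω.out) (fun _ => 1) g := by
  have := monomial_decomp (G := G) (X := X) _ trivCocycle g
  refine Eq.trans ?_ (this.trans (Finset.sum_congr rfl fun ω _ => rfl))
  rw [Finset.sum_boole, Nat.card_eq_fintype_card, Fintype.card_subtype]

/-- The function induced from the constant one counts fixed cosets. -/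
theorem indFun_one_eq_card (H : Subgroup G) (g : G) :
    indFun H (fun _ => 1) g = (Nat.card {q : G ⧸ H // g • q = q} : ℂ) := by
  classical
  unfold indFun
  have h1 : ∀ x : G, extendByZero H (fun _ => (1:ℂ)) (x⁻¹ * g * x) =
      if g • (x : G ⧸ H) = (x : G ⧸ H) then 1 else 0 := by
    intro x
    have hiff : g • (x : G ⧸ H) = (x : G ⧸ H) ↔ x⁻¹ * g * x ∈ H := by
      rw [MulAction.Quotient.smul_mk, smul_eq_mul, eq_comm, QuotientGroup.eq, ← mul_assoc]
    by_cases hg : x⁻¹ * g * x ∈ H
    · rw [ext0_mem _ hg, if_pos (hiff.2 hg)]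
    · rw [ext0_notMem _ hg, if_neg (fun h => hg (hiff.1 h))]
  simp only [h1]
  rw [← Finset.sum_fiberwise Finset.univ (fun x : G => (x : G ⧸ H))]
  have h2 : ∀ q : G ⧸ H, (∑ x ∈ Finset.univ.filter (fun x : G => (x : G ⧸ H) = q),
      if g • (x : G ⧸ H) = (x : G ⧸ H) then (1:ℂ) else 0)
      = (Nat.card H : ℂ) * if g • q = q then 1 else 0 := by
    intro q
    induction q using QuotientGroup.induction_on with
    | H a =>
      rw [Finset.sum_congr rfl (fun x hx => by rw [(Finset.mem_filter.1 hx).2] :
        ∀ x ∈ Finset.univ.filter (fun x : G => (x : G ⧸ H) = (a : G ⧸ H)),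
          (if g • (x : G ⧸ H) = (x : G ⧸ H) then (1:ℂ) else 0)
            = if g • (a : G ⧸ H) = (a : G ⧸ H) then 1 else 0)]
      rw [Finset.sum_const, nsmul_eq_mul]
      congr 1
      rw [Nat.card_eq_fintype_card, ← Finset.card_univ]
      norm_cast
      refine Finset.card_bij' (fun x hx => (⟨a⁻¹ * x, ?_⟩ : H)) (fun s _ => a * (s : G)) ?_ ?_ ?_ ?_
      · exact QuotientGroup.eq.1 (Finset.mem_filter.1 hx).2.symm
      · intros; simp
      · intros; simp [QuotientGroup.eq]
      · intros; simp
      · intros; simp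
  simp only [h2]
  rw [← Finset.mul_sum, ← mul_assoc, inv_mul_cancel₀ (by exact_mod_cast Nat.card_pos.ne'), one_mul,
    Finset.sum_boole, Nat.card_eq_fintype_card, Fintype.card_subtype]

end Cfsg.Agent.Lib.Brauer.PermChar
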