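import Cfsg.Prelude.Def_Characters
import Cfsg.Prelude.Def_Blocks
import Cfsg.Agent.Lib.Brauer.PermChar
import Mathlib.GroupTheory.FiniteAbelian.Duality
import Mathlib.RingTheory.RootsOfUnity.AlgebraicallyClosed
import Mathlib.Analysis.Complex.Polynomial.Basic
import Mathlib.GroupTheory.PGroup
import Mathlib.GroupTheory.SpecificGroups.Cyclic

/-!
Solomon's and Brauer's induction theorems, in the monomial form: the constant function 1 is an
integer combination of functions induced from linear characters of elementary subgroups.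
-/

set_option autoImplicit false

namespace Cfsg.Agent.Lib.Brauer.Induction

open Cfsg MulAction Cfsg.Agent.Lib.Brauer.PermChar

universe u

/-- The `p`-quasi-elementary condition of the statements. -/
def IsQuasi {G : Type u} [Group G] (p : ℕ) (H : Subgroup G) : Prop :=
  ∃ C : Subgroup G, C ≤ H ∧ H ≤ Subgroup.normalizer (C : Set G) ∧ IsCyclic C ∧
    Nat.Coprime (Nat.card C) p ∧ ∃ k : ℕ, C.relIndex H = p ^ k

section parts

variable {G : Type u} [Group G]

/-- An exponent congruent to `1` modulo `m` and to `0` modulo `n`. -/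
theorem exists_split_exp {m n : ℕ} (h : Nat.Coprime m n) :
    ∃ k : ℕ, k ≡ 1 [MOD m] ∧ k ≡ 0 [MOD n] :=
  ⟨(Nat.chineseRemainder h 1 0).1, (Nat.chineseRemainder h 1 0).2⟩

/-- A prime power part of an element. -/
theorem exists_pParts [Finite G] (p : ℕ) (hp : p.Prime) (x : G) :
    ∃ u v : G, u * v = x ∧ Commute u v ∧ (∃ k : ℕ, orderOf u = p ^ k) ∧ ¬ p ∣ orderOf v ∧
      u ∈ Subgroup.zpowers x ∧ v ∈ Subgroup.zpowers x := by
  have hne : orderOf x ≠ 0 := (orderOf_pos x).ne'
  obtain ⟨k, m, hm, hkm⟩ := Nat.exists_eq_pow_mul_and_not_dvd hne p hp.ne_one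
  have hcop : Nat.Coprime (p ^ k) m := (hp.coprime_iff_not_dvd.2 hm).pow_left k
  obtain ⟨s, hs1, hs0⟩ := exists_split_exp hcop
  obtain ⟨t, ht1, ht0⟩ := exists_split_exp hcop.symm
  refine ⟨x ^ s, x ^ t, ?_, (Commute.refl x).pow_pow s t, ?_, ?_, Subgroup.npow_mem_zpowers x s,
    Subgroup.npow_mem_zpowers x t⟩
  · rw [← pow_add]
    nth_rw 2 [← pow_one x]
    rw [pow_eq_pow_iff_modEq, hkm, ← Nat.modEq_and_modEq_iff_modEq_mul hcop]
    exact ⟨(hs1.add ht0).trans (by rfl), (hs0.add ht1).trans (by rfl)⟩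
  · have h : orderOf (x ^ s) ∣ p ^ k := by
      apply orderOf_dvd_of_pow_eq_one
      rw [← pow_mul, ← orderOf_dvd_iff_pow_eq_one, hkm, mul_comm (p ^ k) m]
      exact mul_dvd_mul_right (Nat.modEq_zero_iff_dvd.1 hs0) _
    obtain ⟨i, _, hi⟩ := (Nat.dvd_prime_pow hp).1 h
    exact ⟨i, hi⟩
  · intro hdiv
    have h : orderOf (x ^ t) ∣ m := by
      apply orderOf_dvd_of_pow_eq_one
      rw [← pow_mul, ← orderOf_dvd_iff_pow_eq_one, hkm]
      exact mul_dvd_mul_right (Nat.modEq_zero_iff_dvd.1 ht0) _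
    exact hm (hdiv.trans h)

variable [Finite G]

theorem isQuasi_of_le {p : ℕ} (hp : p.Prime) {H K : Subgroup G} (hH : IsQuasi p H) (hKH : K ≤ H) :
    IsQuasi p K := by
  obtain ⟨C, hCH, hN, hC, hcop, k, hk⟩ := hH
  refine ⟨C ⊓ K, inf_le_right, ?_, ?_, ?_, ?_⟩
  · intro g hg
    have hgC := Subgroup.mem_normalizer_iff.1 (hN (hKH hg))
    rw [Subgroup.mem_normalizer_iff]
    intro c
    have hK : c ∈ K ↔ g * c * g⁻¹ ∈ K := by
      constructor
      · exact fun h => K.mul_mem (K.mul_mem hg h) (K.inv_mem hg)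
      · intro h; simpa [mul_assoc] using K.mul_mem (K.mul_mem (K.inv_mem hg) h) hg
    simp only [Subgroup.mem_inf]
    rw [hgC c, hK]
  · exact isCyclic_of_injective (Subgroup.inclusion inf_le_left) (Subgroup.inclusion_injective _)
  · exact hcop.coprime_dvd_left (Subgroup.card_dvd_of_le inf_le_left)
  · have h1 : (C ⊓ K).relIndex K = C.relIndex K := Subgroup.inf_relIndex_right C K
    have hnorm : (C.subgroupOf H).Normal := Subgroup.normal_subgroupOf_of_le_normalizer hN
    have h2 : C.relIndex K ∣ C.relIndex H := by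
      haveI := hnorm
      have := Subgroup.relIndex_dvd_index_of_normal (C.subgroupOf H) (K.subgroupOf H)
      rwa [Subgroup.relIndex_subgroupOf hKH] at this
    rw [hk] at h2
    obtain ⟨i, _, hi⟩ := (Nat.dvd_prime_pow hp).1 h2
    exact ⟨i, h1.trans hi⟩

theorem isQuasi_bot (p : ℕ) : IsQuasi p (⊥ : Subgroup G) :=
  ⟨⊥, le_rfl, by simp, inferInstance, by simp, 0, by simp⟩

end parts

section solomon

variable {G : Type u} [Group G] [Fintype G]

/-- The set of permutation characters on cosets of subgroups with a given property. -/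
def permSet (P : Subgroup G → Prop) : Set (G → ℂ) :=
  {f | ∃ H, P H ∧ f = indFun H (fun _ => 1)}

/-- The product of two permutation characters, on the cosets of `H` and of `K`. -/
theorem indFun_one_mul (H K : Subgroup G) :
    ∃ (ι : Type u) (_ : Fintype ι) (U : ι → Subgroup G), (∀ i, U i ≤ H) ∧
      indFun H (fun _ => 1) * indFun K (fun _ => 1) = ∑ i, indFun (U i) (fun _ => 1) := by
  classical
  haveI : Fintype H := Fintype.ofFinite _
  refine ⟨orbitRel.Quotient H (G ⧸ K), inferInstance,
    fun ω => (stabilizer H ω.out).map H.subtype, fun ω => Subgroup.map_subtype_le _, ?_⟩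
  have hres : ((fun h : H => indFun K (fun _ => 1) (h : G))) =
      ∑ ω : orbitRel.Quotient H (G ⧸ K), indFun (stabilizer H ω.out) (fun _ => 1) := by
    funext h
    rw [Finset.sum_apply, ← permChar_decomp (G := H) (X := G ⧸ K) h, indFun_one_eq_card]
    rfl
  rw [mul_comm, mul_indFun _ _ _ (indFun_classFun _ _)]
  have : (fun h : H => indFun K (fun _ => 1) (h : G)) * (fun _ : H => (1 : ℂ))
      = fun h : H => indFun K (fun _ => 1) (h : G) := mul_one _
  rw [this, hres]
  have hlin : ∀ (s : Finset (orbitRel.Quotient H (G ⧸ K))) (f : _ → (H → ℂ)),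
      indFun H (∑ i ∈ s, f i) = ∑ i ∈ s, indFun H (f i) := by
    intro s f
    induction s using Finset.induction with
    | empty => simp [indFun_zero]
    | insert a s ha ih => rw [Finset.sum_insert ha, Finset.sum_insert ha, indFun_add, ih]
  rw [hlin]
  exact Finset.sum_congr rfl fun ω _ => indFun_indFun H _ _

theorem permSpan_mul {P : Subgroup G → Prop} (hP : ∀ H K, P H → K ≤ H → P K) {f g : G → ℂ}
    (hf : f ∈ Submodule.span ℤ (permSet P)) (hg : g ∈ Submodule.span ℤ (permSet P)) :
    f * g ∈ Submodule.span ℤ (permSet P) := by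
  induction hf, hg using Submodule.span_induction₂ with
  | mem_mem x y hx hy =>
    obtain ⟨H, hH, rfl⟩ := hx
    obtain ⟨K, _, rfl⟩ := hy
    obtain ⟨ι, _, U, hU, he⟩ := indFun_one_mul H K
    rw [he]
    exact Submodule.sum_mem _ fun i _ => Submodule.subset_span ⟨U i, hP H _ hH (hU i), rfl⟩
  | zero_left y hy => simp
  | zero_right y hy => simp
  | add_left x y z _ _ _ h1 h2 => rw [add_mul]; exact add_mem h1 h2
  | add_right x y z _ _ _ h1 h2 => rw [mul_add]; exact add_mem h1 h2
  | smul_left r x y _ _ h => rw [smul_mul_assoc]; exact Submodule.smul_mem _ r h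
  | smul_right r x y _ _ h => rw [mul_smul_comm]; exact Submodule.smul_mem _ r h

/-- For every element there is a quasi-elementary subgroup whose permutation character is
prime to `p` at the element. -/
theorem exists_quasi_not_dvd (x : G) (p : ℕ) (hp : p.Prime) :
    ∃ H : Subgroup G, IsQuasi p H ∧ ∃ n : ℕ, indFun H (fun _ => 1) x = (n : ℂ) ∧ ¬ p ∣ n := by
  classical
  haveI : Fact p.Prime := ⟨hp⟩
  obtain ⟨u, v, huv, hcomm, ⟨j, hj⟩, hv, _, _⟩ := exists_pParts p hp x
  set C : Subgroup G := Subgroup.zpowers v with hCdef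
  set N : Subgroup G := Subgroup.normalizer (C : Set G) with hNdef
  have hcC : Nat.Coprime (Nat.card C) p := by
    rw [hCdef, Nat.card_zpowers]
    exact (hp.coprime_iff_not_dvd.2 hv).symm
  have huN : u ∈ N := by
    rw [hNdef, Subgroup.mem_normalizer_iff]
    intro c
    constructor
    · intro hc
      obtain ⟨i, rfl⟩ := Subgroup.mem_zpowers_iff.1 hc
      rw [(hcomm.zpow_right i).eq, mul_inv_cancel_right]
      exact Subgroup.zpow_mem_zpowers _ _
    · intro hc
      obtain ⟨i, hi⟩ := Subgroup.mem_zpowers_iff.1 hc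
      have : c = u⁻¹ * v ^ i * u := by rw [hi]; group
      rw [this, mul_assoc, ← (hcomm.zpow_right i).eq, inv_mul_cancel_left]
      exact Subgroup.zpow_mem_zpowers _ _
  have huP : IsPGroup p (Subgroup.zpowers (⟨u, huN⟩ : N)) := by
    refine IsPGroup.of_card (n := j) ?_
    rw [Nat.card_zpowers, Subgroup.orderOf_mk, hj]
  obtain ⟨Q, hQ⟩ := huP.exists_le_sylow
  have hCN : C ≤ N := Subgroup.le_normalizer
  set Q' : Subgroup G := (Q : Subgroup N).map N.subtype with hQ'
  have hQN : Q' ≤ N := Subgroup.map_subtype_le _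
  set H : Subgroup G := C ⊔ Q' with hH
  have hHN : H ≤ N := sup_le hCN hQN
  haveI hCn : (C.subgroupOf N).Normal := Subgroup.normal_subgroupOf_of_le_normalizer le_rfl
  have hQcard : Nat.card Q' = Nat.card Q :=
    Nat.card_congr ((Q : Subgroup N).equivMapOfInjective _ Subtype.val_injective).symm.toEquiv
  obtain ⟨a, ha⟩ := IsPGroup.iff_card.1 Q.isPGroup'
  have hQ'a : Nat.card Q' = p ^ a := hQcard.trans ha
  have hrel : C.relIndex H = C.relIndex Q' := by
    rw [hH, ← Subgroup.relIndex_subgroupOf (K := C ⊔ Q') (L := N) (sup_le hCN hQN),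
      Subgroup.subgroupOf_sup hCN hQN, sup_comm, Subgroup.relIndex_sup_right,
      Subgroup.relIndex_subgroupOf hQN]
  have hpow : ∃ k : ℕ, C.relIndex H = p ^ k := by
    have hd : C.relIndex H ∣ p ^ a := by
      rw [hrel, ← hQ'a, ← Subgroup.inf_relIndex_right]
      exact Subgroup.index_dvd_card _
    obtain ⟨k, _, hk⟩ := (Nat.dvd_prime_pow hp).1 hd
    exact ⟨k, hk⟩
  have hquasi : IsQuasi p H := ⟨C, le_sup_left, hHN, inferInstance, hcC, hpow⟩
  refine ⟨H, hquasi, Nat.card {q : G ⧸ H // x • q = q}, indFun_one_eq_card H x, ?_⟩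
  -- C is the set of elements of H of order prime to p
  obtain ⟨k, hk⟩ := hpow
  haveI hCH : (C.subgroupOf H).Normal := Subgroup.normal_subgroupOf_of_le_normalizer hHN
  have hmemC : ∀ h ∈ H, ¬ p ∣ orderOf h → h ∈ C := by
    intro h hh hord
    have h1 : (⟨h, hh⟩ : H) ^ (C.subgroupOf H).index ∈ C.subgroupOf H :=
      Subgroup.pow_index_mem _ _
    have h2 : h ^ (p ^ k) ∈ C := by
      rw [← hk]; exact h1
    have hc : Nat.Coprime (orderOf h) (p ^ k) := ((hp.coprime_iff_not_dvd.2 hord).symm).pow_right k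
    obtain ⟨t, ht⟩ := exists_pow_eq_self_of_coprime hc.symm
    rw [← ht]
    exact C.pow_mem h2 t
  -- fixed cosets lie in N
  have hvx : ∃ i : ℕ, x ^ i = v := by
    obtain ⟨t, ht⟩ := exists_pow_eq_self_of_coprime
      (((hp.coprime_iff_not_dvd.2 hv)).pow_left j)
    refine ⟨p ^ j * t, ?_⟩
    rw [pow_mul, ← huv, hcomm.mul_pow, ← hj, pow_orderOf_eq_one, one_mul, hj, ht]
  obtain ⟨i, hi⟩ := hvx
  set M : Subgroup N := H.subgroupOf N with hM
  have hxN : x ∈ N := huv ▸ N.mul_mem huN (hCN (Subgroup.mem_zpowers v))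
  let f : N ⧸ M → G ⧸ H := Quotient.map' (fun n : N => (n : G)) (fun a b hab => by
    rw [QuotientGroup.leftRel_apply] at hab ⊢
    exact hab)
  have finj : Function.Injective f := by
    intro a b
    induction a using QuotientGroup.induction_on with
    | H a => induction b using QuotientGroup.induction_on with
      | H b =>
        intro hab
        have h1 : ((a : G) : G ⧸ H) = ((b : G) : G ⧸ H) := hab
        have h2 := QuotientGroup.eq.1 h1
        exact QuotientGroup.eq.2 h2
  have feq : ∀ (n : N) (q : N ⧸ M), f (n • q) = (n : G) • f q := by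
    intro n q
    induction q using QuotientGroup.induction_on with
    | H a => rfl
  have hfix_mem : ∀ y : G, x • (y : G ⧸ H) = (y : G ⧸ H) → y ∈ N := by
    intro y hy
    have hy1 : y⁻¹ * x * y ∈ H := by
      rw [MulAction.Quotient.smul_mk, smul_eq_mul, eq_comm, QuotientGroup.eq, ← mul_assoc] at hy
      exact hy
    have hy2 : y⁻¹ * v * y ∈ C := by
      apply hmemC
      · have := H.pow_mem hy1 i
        rw [show (y⁻¹ * x * y) ^ i = y⁻¹ * x ^ i * y by
          have := conj_pow (i := i) (a := y⁻¹) (b := x); rwa [inv_inv] at this] at this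
        rwa [hi] at this
      · rwa [show y⁻¹ * v * y = y⁻¹ * v * (y⁻¹)⁻¹ by rw [inv_inv], show y⁻¹ * v * (y⁻¹)⁻¹ = MulAut.conj y⁻¹ v from rfl,
          MulEquiv.orderOf_eq]
    have hmap : C.map (MulAut.conj y⁻¹).toMonoidHom = C := by
      apply Subgroup.eq_of_le_of_card_ge
      · rw [hCdef, MonoidHom.map_zpowers, Subgroup.zpowers_le]
        simpa [hCdef] using hy2
      · rw [Nat.card_congr (C.equivMapOfInjective (MulAut.conj y⁻¹).toMonoidHom (MulAut.conj y⁻¹).injective).toEquiv]
    rw [hNdef]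
    have hy' : y⁻¹ ∈ Subgroup.normalizer (C : Set G) := by
      rw [Subgroup.mem_normalizer_iff]
      intro c
      constructor
      · intro hc
        rw [← hmap]; exact ⟨c, hc, by simp⟩
      · intro hc
        rw [← hmap] at hc
        obtain ⟨d, hd, hde⟩ := hc
        have : d = c := by simpa using hde
        exact this ▸ hd
    simpa using (Subgroup.normalizer (C : Set G)).inv_mem hy'
  have hcard : Nat.card {q : G ⧸ H // x • q = q}
      = Nat.card {q : N ⧸ M // (⟨x, hxN⟩ : N) • q = q} := by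
    symm
    refine Nat.card_congr (Equiv.ofBijective
      (fun q => (⟨f q.1, by
        have := feq ⟨x, hxN⟩ q.1
        rw [q.2] at this; exact this.symm⟩ : {q : G ⧸ H // x • q = q})) ⟨?_, ?_⟩)
    · intro a b hab; exact Subtype.ext (finj (congrArg Subtype.val hab))
    · rintro ⟨q, hq⟩
      induction q using QuotientGroup.induction_on with
      | H y =>
        have hyN := hfix_mem y hq
        refine ⟨⟨((⟨y, hyN⟩ : N) : N ⧸ M), finj ?_⟩, rfl⟩
        rw [feq]; exact hq
  rw [hcard]
  -- C acts trivially, so x acts as u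
  have hCact : ∀ (c : N), (c : G) ∈ C → ∀ q : N ⧸ M, c • q = q := by
    intro c hc q
    induction q using QuotientGroup.induction_on with
    | H a =>
      rw [MulAction.Quotient.smul_mk, smul_eq_mul, QuotientGroup.eq]
      show ((c * a)⁻¹ * a : N).1 ∈ H
      have ha := (Subgroup.mem_normalizer_iff.1 (N.inv_mem a.2)) ((c : G)⁻¹)
      have h1 : (a : G)⁻¹ * (c : G)⁻¹ * (a : G) ∈ C := by simpa using ha.1 (C.inv_mem hc)
      have h2 : ((c * a)⁻¹ * a : N).1 = (a : G)⁻¹ * (c : G)⁻¹ * (a : G) := by simp [mul_assoc]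
      rw [h2]; exact le_sup_left (a := C) h1
  have hset : ∀ q : N ⧸ M, (⟨x, hxN⟩ : N) • q = q ↔ q ∈ fixedPoints (Subgroup.zpowers (⟨u, huN⟩ : N)) (N ⧸ M) := by
    intro q
    have e : (⟨x, hxN⟩ : N) = ⟨u, huN⟩ * ⟨v, hCN (Subgroup.mem_zpowers v)⟩ := Subtype.ext huv.symm
    rw [e, mul_smul, hCact ⟨v, _⟩ (Subgroup.mem_zpowers v)]
    constructor
    · intro h
      rintro ⟨g, hg⟩
      have : Subgroup.zpowers (⟨u, huN⟩ : N) ≤ stabilizer N q := Subgroup.zpowers_le.2 h
      exact this hg
    · intro h; exact h ⟨_, Subgroup.mem_zpowers _⟩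
  rw [Nat.card_congr (Equiv.subtypeEquivRight hset)]
  intro hdiv
  have hmod := huP.card_modEq_card_fixedPoints (N ⧸ M)
  have hdiv2 : p ∣ M.index := by
    rw [Subgroup.index_eq_card]
    exact (Nat.ModEq.dvd_iff hmod dvd_rfl).2 hdiv
  have hQM : (Q : Subgroup N) ≤ M := fun n hn => le_sup_right (a := C) ⟨n, hn, rfl⟩
  exact Q.not_dvd_index (hdiv2.trans (Subgroup.index_dvd_of_le hQM))

/-- Solomon's theorem at the prime `p`. -/
theorem solomon_local (p : ℕ) (hp : p.Prime) :
    ∃ m : ℤ, ¬ (p : ℤ) ∣ m ∧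
      (fun _ : G => (m : ℂ)) ∈ Submodule.span ℤ (permSet (G := G) (IsQuasi p)) := by
  classical
  haveI : Fact p.Prime := ⟨hp⟩
  set S := Submodule.span ℤ (permSet (G := G) (IsQuasi p)) with hS
  have hmul : ∀ {f g : G → ℂ}, f ∈ S → g ∈ S → f * g ∈ S :=
    fun hf hg => permSpan_mul (fun H K h hK => isQuasi_of_le hp h hK) hf hg
  have hpw : ∀ {f : G → ℂ}, f ∈ S → ∀ n : ℕ, f ^ (n + 1) ∈ S := by
    intro f hf n
    induction n with
    | zero => simpa using hf
    | succ n ih => rw [pow_succ]; exact hmul ih hf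
  -- a function that is 0 or 1 mod p everywhere and 1 mod p on a given set
  have hfin : ∀ s : Finset G, ∃ F : G → ℤ, (fun y => (F y : ℂ)) ∈ S ∧
      (∀ y, (F y : ZMod p) = 0 ∨ (F y : ZMod p) = 1) ∧ ∀ y ∈ s, (F y : ZMod p) = 1 := by
    intro s
    induction s using Finset.induction with
    | empty => exact ⟨fun _ => 0, by
        have h0 : (fun _ : G => ((0 : ℤ) : ℂ)) = 0 := by funext y; simp
        rw [h0]; exact S.zero_mem, by simp, by simp⟩
    | insert a s _ ih =>
      obtain ⟨F, hF, hF01, hFs⟩ := ih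
      obtain ⟨H, hH, n, hn, hpn⟩ := exists_quasi_not_dvd a p hp
      set E : G → ℤ := fun y => ((Nat.card {q : G ⧸ H // y • q = q} : ℕ) : ℤ) ^ (p - 1) with hE
      have hES : (fun y => (E y : ℂ)) ∈ S := by
        have h0 : (fun y : G => indFun H (fun _ => 1) y) ∈ S := Submodule.subset_span ⟨H, hH, rfl⟩
        have h1 : 1 ≤ p - 1 := by have := hp.two_le; omega
        obtain ⟨e, he⟩ := Nat.exists_eq_add_of_le h1
        have := hpw h0 e
        convert this using 1
        funext y
        simp [hE, he, indFun_one_eq_card, add_comm]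
      have hE01 : ∀ y, (E y : ZMod p) = 0 ∨ (E y : ZMod p) = 1 := by
        intro y
        simp only [hE, Int.cast_pow]
        by_cases h : (((Nat.card {q : G ⧸ H // y • q = q} : ℕ) : ℤ) : ZMod p) = 0
        · left; rw [h, zero_pow]; have := hp.two_le; omega
        · right; exact ZMod.pow_card_sub_one_eq_one h
      have hEa : (E a : ZMod p) = 1 := by
        simp only [hE, Int.cast_pow]
        apply ZMod.pow_card_sub_one_eq_one
        rw [Int.cast_natCast, Ne, ZMod.natCast_eq_zero_iff]
        have : (n : ℂ) = (Nat.card {q : G ⧸ H // a • q = q} : ℕ) := by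
          rw [← hn, indFun_one_eq_card]
        rwa [← Nat.cast_inj.1 this]
      refine ⟨fun y => F y + E y - F y * E y, ?_, ?_, ?_⟩
      · have := S.sub_mem (S.add_mem hF hES) (hmul hF hES)
        convert this using 1
        funext y; simp
      · intro y
        push_cast
        rcases hF01 y with h | h <;> rcases hE01 y with h' | h' <;> simp [h, h']
      · intro y hy
        push_cast
        rcases Finset.mem_insert.1 hy with rfl | hy'
        · rw [hEa]; ring
        · rw [hFs y hy']; ring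
  obtain ⟨F, hF, _, hF1⟩ := hfin Finset.univ
  set f : G → ℂ := fun y => (F y : ℂ) with hf
  set V : Finset ℤ := Finset.univ.image F with hV
  have hprod : ∀ W : Finset ℤ,
      (∏ w ∈ W, ((fun _ : G => (w : ℂ)) - f)) - (fun _ : G => ((∏ w ∈ W, w : ℤ) : ℂ)) ∈ S := by
    intro W
    induction W using Finset.induction with
    | empty =>
      have : (∏ w ∈ (∅ : Finset ℤ), ((fun _ : G => (w : ℂ)) - f))
          - (fun _ : G => ((∏ w ∈ (∅ : Finset ℤ), w : ℤ) : ℂ)) = 0 := by
        funext y; simp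
      rw [this]; exact S.zero_mem
    | insert a W ha ih =>
      rw [Finset.prod_insert ha, Finset.prod_insert ha]
      set P := ∏ w ∈ W, ((fun _ : G => (w : ℂ)) - f)
      set c : ℤ := ∏ w ∈ W, w
      have : ((fun _ : G => (a : ℂ)) - f) * P - (fun _ : G => ((a * c : ℤ) : ℂ))
          = a • (P - fun _ : G => (c : ℂ)) - (f * (P - fun _ : G => (c : ℂ)) + c • f) := by
        funext y
        simp only [Pi.sub_apply, Pi.mul_apply, Pi.add_apply, zsmul_eq_mul, Pi.intCast_apply]
        push_cast; ring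
      rw [this]
      exact S.sub_mem (S.smul_mem _ ih) (S.add_mem (hmul hF ih) (S.smul_mem _ hF))
  refine ⟨∏ w ∈ V, w, ?_, ?_⟩
  · intro h
    rw [← ZMod.intCast_zmod_eq_zero_iff_dvd, Int.cast_prod] at h
    have h1 : (∏ w ∈ V, (w : ZMod p)) = 1 := by
      refine Finset.prod_eq_one fun w hw => ?_
      obtain ⟨y, -, rfl⟩ := Finset.mem_image.1 hw
      exact hF1 y (Finset.mem_univ y)
    rw [h1] at h
    exact one_ne_zero h
  · have h := hprod V
    have h0 : (∏ w ∈ V, ((fun _ : G => (w : ℂ)) - f)) = 0 := by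
      funext y
      rw [Finset.prod_apply]
      exact Finset.prod_eq_zero (Finset.mem_image_of_mem F (Finset.mem_univ y)) (by simp [hf])
    rw [h0, zero_sub] at h
    simpa using S.neg_mem h

end solomon

end Cfsg.Agent.Lib.Brauer.Induction
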