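import Cfsg.Agent.Lib.Brauer.Induction

/-!
Brauer's induction theorem: the constant function 1 is an integer combination of functions
induced from linear characters of elementary subgroups.
-/

set_option autoImplicit false

namespace Cfsg.Agent.Lib.Brauer.Elementary

open Cfsg MulAction Cfsg.Agent.Lib.Brauer.PermChar Cfsg.Agent.Lib.Brauer.Induction

universe u

section linear

variable {G : Type u} [Group G]

/-- A homomorphism into the complex numbers is a class function. -/
theorem hom_classFun (l : G →* ℂ) : IsClassFunction G l := fun g h => by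
  rw [map_mul, map_mul, mul_right_comm, ← map_mul, mul_inv_cancel, map_one, one_mul]

/-- A homomorphism into the complex numbers as a one-dimensional representation. -/
noncomputable def linRep (l : G →* ℂ) : Representation ℂ G (Fin 1 → ℂ) :=
  (algebraMap ℂ (Module.End ℂ (Fin 1 → ℂ))).toMonoidHom.comp l

theorem isCharacter_hom (l : G →* ℂ) : IsCharacter G l := by
  refine ⟨1, linRep l, ?_⟩
  funext g
  show LinearMap.trace ℂ (Fin 1 → ℂ) (algebraMap ℂ (Module.End ℂ (Fin 1 → ℂ)) (l g)) = l g
  rw [Algebra.algebraMap_eq_smul_one, map_smul, LinearMap.trace_one, Module.finrank_fin_fun]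
  simp

/-- A character of degree one is a homomorphism. -/
theorem exists_hom_of_deg_one {χ : G → ℂ} (hχ : IsCharacter G χ) (h1 : χ 1 = 1) :
    ∃ l : G →* ℂ, (l : G → ℂ) = χ := by
  obtain ⟨n, ρ, rfl⟩ := hχ
  have hn : n = 1 := by
    rw [Representation.char_one, Module.finrank_fin_fun] at h1
    exact_mod_cast h1
  subst hn
  have hsc : ∀ T : Module.End ℂ (Fin 1 → ℂ), ∀ v, T v = (LinearMap.trace ℂ (Fin 1 → ℂ) T) • v := by
    intro T v
    have hv : ∀ w : Fin 1 → ℂ, w = w 0 • (fun _ => (1 : ℂ)) := fun w => by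
      funext i; fin_cases i; simp
    have hT : ∀ w : Fin 1 → ℂ, T w = (T (fun _ => 1) 0) • w := by
      intro w
      rw [hv w, map_smul, hv (T fun _ => 1), smul_comm]
      simp
    have : T = (T (fun _ => 1) 0) • (1 : Module.End ℂ (Fin 1 → ℂ)) := LinearMap.ext fun w => by
      rw [hT w]; rfl
    rw [hT v]
    congr 1
    conv_rhs => rw [this]
    rw [map_smul, LinearMap.trace_one, Module.finrank_fin_fun]; simp
  refine ⟨⟨⟨ρ.character, h1⟩, fun g h => ?_⟩, rfl⟩
  show LinearMap.trace ℂ _ (ρ (g * h)) = LinearMap.trace ℂ _ (ρ g) * LinearMap.trace ℂ _ (ρ h)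
  have : ρ (g * h) = (LinearMap.trace ℂ _ (ρ g) * LinearMap.trace ℂ _ (ρ h)) •
      (1 : Module.End ℂ (Fin 1 → ℂ)) := LinearMap.ext fun w => by
    rw [map_mul]
    show ρ g (ρ h w) = _
    rw [hsc (ρ h) w, map_smul, hsc (ρ g) w, smul_smul, mul_comm]; rfl
  rw [this, map_smul, LinearMap.trace_one, Module.finrank_fin_fun]; simp

variable [Finite G]

/-- The key coprime-action fact: an invariant linear character of a normal subgroup of order
prime to `p` that is trivial on the centralizer of a `p`-subgroup supplementing it is trivial. -/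
theorem hom_eq_one_of_invariant (p : ℕ) [Fact p.Prime] (C P : Subgroup G) (hC : C.Normal)
    (hP : IsPGroup p P) (hcop : Nat.Coprime (Nat.card C) p) (lam : C →* ℂ)
    (hinv : ∀ (g : G), g ∈ P → ∀ c : C, lam ⟨g * c * g⁻¹, hC.conj_mem (c : G) c.2 g⟩ = lam c)
    (hker : ∀ c : C, (c : G) ∈ Subgroup.centralizer (P : Set G) → lam c = 1) (c : C) :
    lam c = 1 := by
  let X := {d : C // lam d = lam c}
  letI act : MulAction P X :=
    { smul := fun g d => ⟨⟨(g : G) * d.1 * (g : G)⁻¹, hC.conj_mem (d.1 : G) d.1.2 g⟩,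
        (hinv g g.2 d.1).trans d.2⟩
      one_smul := fun d => by
        apply Subtype.ext; apply Subtype.ext
        show ((1 : P) : G) * (d.1 : G) * ((1 : P) : G)⁻¹ = _
        simp
      mul_smul := fun g h d => by
        apply Subtype.ext; apply Subtype.ext
        show ((g * h : P) : G) * (d.1 : G) * ((g * h : P) : G)⁻¹
          = (g : G) * ((h : G) * (d.1 : G) * (h : G)⁻¹) * (g : G)⁻¹
        simp [mul_assoc] }
  have hne : lam c ≠ 0 := by
    intro h
    have := map_mul lam c c⁻¹
    rw [mul_inv_cancel, map_one, h, zero_mul] at this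
    exact one_ne_zero this
  have hXK : Nat.card X = Nat.card (MonoidHom.ker lam.toHomUnits) := by
    refine Nat.card_congr
      { toFun := fun d => ⟨c⁻¹ * d.1, ?_⟩
        invFun := fun d => ⟨c * d.1, ?_⟩
        left_inv := fun d => by apply Subtype.ext; simp
        right_inv := fun d => by apply Subtype.ext; simp }
    · rw [MonoidHom.mem_ker, Units.ext_iff, MonoidHom.coe_toHomUnits, map_mul, d.2, ← map_mul,
        inv_mul_cancel, map_one, Units.val_one]
    · have h := d.2
      rw [MonoidHom.mem_ker, Units.ext_iff, MonoidHom.coe_toHomUnits, Units.val_one] at h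
      rw [map_mul, h, mul_one]
  have hnd : ¬ p ∣ Nat.card X := by
    rw [hXK]
    intro h
    have h1 := (Nat.Prime.coprime_iff_not_dvd Fact.out).1 hcop.symm
    exact h1 (h.trans (Subgroup.card_subgroup_dvd_card _))
  obtain ⟨d, hd⟩ := hP.nonempty_fixed_point_of_prime_not_dvd_card X hnd
  rw [← d.2]
  refine hker d.1 (Subgroup.mem_centralizer_iff.2 fun g hg => ?_)
  have h1 : (⟨g, hg⟩ : P) • d = d := hd ⟨g, hg⟩
  have h2 : g * (d.1 : G) * g⁻¹ = (d.1 : G) := congrArg (fun z : X => ((z.1 : C) : G)) h1
  calc g * (d.1 : G) = g * (d.1 : G) * g⁻¹ * g := by rw [inv_mul_cancel_right]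
    _ = (d.1 : G) * g := by rw [h2]

end linear

section monoSet

variable {G : Type u} [Group G] [Fintype G]

/-- Functions induced from linear characters of subgroups with a given property. -/
def monoSet (P : Subgroup G → Prop) : Set (G → ℂ) :=
  {f | ∃ H, P H ∧ ∃ l : H →* ℂ, f = indFun H l}

theorem monoSet_mul_hom (P : Subgroup G → Prop) (μ : G →* ℂ) {f : G → ℂ}
    (hf : f ∈ Submodule.span ℤ (monoSet P)) :
    (μ : G → ℂ) * f ∈ Submodule.span ℤ (monoSet P) := by
  induction hf using Submodule.span_induction with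
  | mem x hx =>
    obtain ⟨H, hH, l, rfl⟩ := hx
    rw [mul_indFun _ _ _ (hom_classFun μ)]
    exact Submodule.subset_span ⟨H, hH, (μ.comp H.subtype) * l, rfl⟩
  | zero => simp
  | add x y _ _ h1 h2 => rw [mul_add]; exact add_mem h1 h2
  | smul r x _ h => rw [mul_smul_comm]; exact Submodule.smul_mem _ r h

/-- Induction of a combination of induced linear characters. -/
theorem indFun_monoSet {H : Subgroup G} [Fintype H] {P : Subgroup H → Prop}
    {Q : Subgroup G → Prop} (hPQ : ∀ K, P K → Q (K.map H.subtype)) {f : H → ℂ}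
    (hf : f ∈ Submodule.span ℤ (monoSet P)) :
    indFun H f ∈ Submodule.span ℤ (monoSet Q) := by
  induction hf using Submodule.span_induction with
  | mem x hx =>
    obtain ⟨K, hK, l, rfl⟩ := hx
    rw [indFun_indFun]
    exact Submodule.subset_span ⟨_, hPQ K hK,
      l.comp (K.equivMapOfInjective H.subtype Subtype.val_injective).symm.toMonoidHom, rfl⟩
  | zero => rw [indFun_zero]; exact zero_mem _
  | add x y _ _ h1 h2 => rw [indFun_add]; exact add_mem h1 h2
  | smul r x _ h =>
    have : indFun H (r • x) = r • indFun H x := by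
      rw [← Int.cast_smul_eq_zsmul ℂ, indFun_smul, Int.cast_smul_eq_zsmul]
    rw [this]; exact Submodule.smul_mem _ r h

end monoSet

theorem isElementary_congr {E E' : Type*} [Group E] [Group E'] (e : E ≃* E') {p : ℕ}
    (h : (∃ x : E, x ∈ Subgroup.center E ∧ Nat.Coprime (orderOf x) p ∧
      ∃ k : ℕ, (Subgroup.zpowers x).index = p ^ k)) :
    (∃ x : E', x ∈ Subgroup.center E' ∧ Nat.Coprime (orderOf x) p ∧
      ∃ k : ℕ, (Subgroup.zpowers x).index = p ^ k) := by
  obtain ⟨x, hx, ho, k, hk⟩ := h
  refine ⟨e x, ?_, by rwa [e.orderOf_eq], k, ?_⟩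
  · rw [Subgroup.mem_center_iff] at hx ⊢
    intro y
    obtain ⟨z, rfl⟩ := e.surjective y
    rw [← map_mul, ← map_mul, hx]
  · rw [← hk, ← MulEquiv.coe_toMonoidHom, ← MonoidHom.map_zpowers,
      Subgroup.index_map_of_bijective (f := e.toMonoidHom) e.bijective]

theorem isElementary_map {G : Type u} [Group G] {H : Subgroup G} (K : Subgroup H) {p : ℕ}
    (h : IsElementary p K) : IsElementary p (K.map H.subtype) :=
  isElementary_congr (K.equivMapOfInjective H.subtype Subtype.val_injective) h

section orth

/-- Sum over the linear characters trivial on a subgroup. -/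
theorem sum_hom_trivialOn {C : Type u} [Group C] [Finite C] (hab : ∀ a b : C, a * b = b * a)
    (Z : Subgroup C) :
    ∃ (_ : Fintype {l : C →* ℂ // ∀ z ∈ Z, l z = 1}),
      Nat.card {l : C →* ℂ // ∀ z ∈ Z, l z = 1} = Z.index ∧
      ∀ c : C, ∑ l : {l : C →* ℂ // ∀ z ∈ Z, l z = 1}, l.1 c
        = (Nat.card {l : C →* ℂ // ∀ z ∈ Z, l z = 1} : ℂ) * (open Classical in if c ∈ Z then 1 else 0) := by
  classical
  letI : CommGroup C := { (inferInstance : Group C) with mul_comm := hab }
  haveI : NeZero (Monoid.exponent (C ⧸ Z)) := ⟨(Monoid.exponent_pos.2 Monoid.ExponentExists.of_finite).ne'⟩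
  let e : {l : C →* ℂ // ∀ z ∈ Z, l z = 1} ≃ (C ⧸ Z →* ℂˣ) :=
    { toFun := fun l => QuotientGroup.lift Z l.1.toHomUnits fun z hz => by
        rw [MonoidHom.mem_ker, Units.ext_iff, MonoidHom.coe_toHomUnits, l.2 z hz, Units.val_one]
      invFun := fun φ => ⟨((Units.coeHom ℂ).comp φ).comp (QuotientGroup.mk' Z), fun z hz => by
        show ((φ (z : C ⧸ Z) : ℂˣ) : ℂ) = 1
        rw [(QuotientGroup.eq_one_iff z).2 hz, map_one, Units.val_one]⟩
      left_inv := fun l => by apply Subtype.ext; apply MonoidHom.ext; intro c; rfl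
      right_inv := fun φ => by apply MonoidHom.ext; intro q; induction q using QuotientGroup.induction_on; apply Units.ext; rfl }
  haveI : Finite (C ⧸ Z →* ℂˣ) := Nat.finite_of_card_ne_zero (by
    rw [CommGroup.card_monoidHom_of_hasEnoughRootsOfUnity]; exact Nat.card_pos.ne')
  haveI : Finite {l : C →* ℂ // ∀ z ∈ Z, l z = 1} := Finite.of_equiv _ e.symm
  haveI inst : Fintype {l : C →* ℂ // ∀ z ∈ Z, l z = 1} := Fintype.ofFinite _
  refine ⟨inst, ?_, ?_⟩
  · rw [Nat.card_congr e, CommGroup.card_monoidHom_of_hasEnoughRootsOfUnity]; rfl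
  · intro c
    by_cases hc : c ∈ Z
    · rw [if_pos hc, mul_one, Finset.sum_congr rfl (fun l _ => l.2 c hc)]
      rw [Finset.sum_const, nsmul_eq_mul, mul_one, Finset.card_univ, Nat.card_eq_fintype_card]
    · rw [if_neg hc, mul_zero]
      obtain ⟨φ, hφ⟩ := CommGroup.exists_apply_ne_one_of_hasEnoughRootsOfUnity (C ⧸ Z) ℂ
        (a := (c : C ⧸ Z)) (fun h => hc ((QuotientGroup.eq_one_iff c).1 h))
      set μ := e.symm φ with hμ
      have hμc : μ.1 c ≠ 1 := fun h => hφ (Units.ext (by rw [Units.val_one]; exact h))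
      have hshift : ∑ l : {l : C →* ℂ // ∀ z ∈ Z, l z = 1}, l.1 c
          = μ.1 c * ∑ l : {l : C →* ℂ // ∀ z ∈ Z, l z = 1}, l.1 c := by
        rw [Finset.mul_sum]
        let f : {l : C →* ℂ // ∀ z ∈ Z, l z = 1} → {l : C →* ℂ // ∀ z ∈ Z, l z = 1} :=
          fun l => ⟨μ.1 * l.1, fun z hz => by simp [μ.2 z hz, l.2 z hz]⟩
        have hf : Function.Bijective f := by
          apply Finite.injective_iff_bijective.1
          intro a b hab
          apply Subtype.ext; apply MonoidHom.ext; intro d
          have h : μ.1 d * a.1 d = μ.1 d * b.1 d := by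
            have := congrArg (fun l : {l : C →* ℂ // ∀ z ∈ Z, l z = 1} => l.1 d) hab
            simpa [f] using this
          refine mul_left_cancel₀ ?_ h
          intro h0
          have := map_mul μ.1 d d⁻¹
          rw [mul_inv_cancel, map_one, h0, zero_mul] at this
          exact one_ne_zero this
        exact ((Equiv.ofBijective f hf).sum_comp (fun l => l.1 c)).symm
      by_contra hS
      exact hμc (mul_eq_right₀ hS |>.1 hshift.symm)

end orth

set_option maxHeartbeats 1000000 in
/-- In a p-quasi-elementary group the constant 1 is a combination of functions induced from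
linear characters of p-elementary subgroups. -/
theorem quasi_one_mem (p : ℕ) (hp : p.Prime) (n : ℕ) :
    ∀ (H : Type u) [Group H] [Fintype H], Nat.card H = n → ∀ C : Subgroup H, C.Normal → IsCyclic C →
      Nat.Coprime (Nat.card C) p → (∃ k : ℕ, C.index = p ^ k) →
      (fun _ : H => (1 : ℂ)) ∈ Submodule.span ℤ (monoSet (fun K : Subgroup H => IsElementary p K)) := by
  classical
  induction n using Nat.strong_induction_on with
  | _ n ih =>
    intro H _ _ hn C hC hcyc hcop hidx
    obtain ⟨k, hk⟩ := hidx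
    haveI : Fact p.Prime := ⟨hp⟩
    haveI := hC
    obtain ⟨P⟩ := (inferInstance : Nonempty (Sylow p H))
    obtain ⟨a, hPa⟩ := IsPGroup.iff_card.1 P.isPGroup'
    have hCP : C ⊓ (P : Subgroup H) = ⊥ :=
      Subgroup.inf_eq_bot_of_coprime (by rw [hPa]; exact hcop.pow_right a)
    have hTop : C ⊔ (P : Subgroup H) = ⊤ := by
      apply Subgroup.index_eq_one.1
      have h1 : (C ⊔ (P : Subgroup H)).index ∣ p ^ k := hk ▸ Subgroup.index_dvd_of_le le_sup_left
      have h2 : (C ⊔ (P : Subgroup H)).index ∣ (P : Subgroup H).index :=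
        Subgroup.index_dvd_of_le le_sup_right
      exact Nat.eq_one_of_dvd_coprimes
        (((hp.coprime_iff_not_dvd.2 P.not_dvd_index).pow_left k)) h1 h2
    have hdecomp : ∀ g : H, ∃ c ∈ C, ∃ q ∈ (P : Subgroup H), c * q = g := fun g => by
      have := Subgroup.mem_sup_of_normal_left (s := C) (t := (P : Subgroup H)) (x := g)
      exact this.1 (hTop ▸ Subgroup.mem_top g)
    have hab : ∀ a b : C, a * b = b * a := fun a b =>
      (@IsCyclic.commGroup C _ hcyc).mul_comm a b
    set Z : Subgroup H := C ⊓ Subgroup.centralizer ((P : Subgroup H) : Set H) with hZ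
    have hZcenter : Z ≤ Subgroup.center H := by
      intro z hz
      rw [Subgroup.mem_center_iff]
      intro g
      obtain ⟨c, hc, q, hq, rfl⟩ := hdecomp g
      have h1 : c * z = z * c := congrArg Subtype.val (hab ⟨c, hc⟩ ⟨z, hz.1⟩)
      have h2 : q * z = z * q := Subgroup.mem_centralizer_iff.1 hz.2 q hq
      rw [mul_assoc, h2, ← mul_assoc, h1, mul_assoc]
    haveI hZn : Z.Normal := ⟨fun z hz g => by
      have := Subgroup.mem_center_iff.1 (hZcenter hz) g
      rw [this, mul_inv_cancel_right]; exact hz⟩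
    set E : Subgroup H := Z ⊔ (P : Subgroup H) with hE
    have hECZ : ∀ x ∈ E, x ∈ C → x ∈ Z := by
      intro x hx hxC
      obtain ⟨z, hz, q, hq, rfl⟩ := Subgroup.mem_sup_of_normal_left.1 hx
      have hqC : q ∈ C := by simpa using C.mul_mem (C.inv_mem hz.1) hxC
      have : q = 1 := Subgroup.mem_bot.1 (hCP ▸ ⟨hqC, hq⟩)
      subst this; simpa using hz
    have hEelem : IsElementary p E := by
      haveI : IsCyclic Z := isCyclic_of_injective (Subgroup.inclusion inf_le_left)
        (Subgroup.inclusion_injective (inf_le_left : Z ≤ C))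
      obtain ⟨z, hz⟩ := IsCyclic.exists_generator (α := Z)
      refine ⟨⟨(z : H), le_sup_left (b := (P : Subgroup H)) z.2⟩, ?_, ?_, ?_⟩
      · rw [Subgroup.mem_center_iff]
        exact fun g => Subtype.ext (Subgroup.mem_center_iff.1 (hZcenter z.2) g)
      · rw [Subgroup.orderOf_mk, Subgroup.orderOf_coe, orderOf_eq_card_of_forall_mem_zpowers hz]
        exact hcop.coprime_dvd_left (Subgroup.card_dvd_of_le inf_le_left)
      · have h1 : Subgroup.zpowers (⟨(z : H), le_sup_left (b := (P : Subgroup H)) z.2⟩ : E)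
            = Z.subgroupOf E := by
          ext x
          rw [Subgroup.mem_subgroupOf, Subgroup.mem_zpowers_iff]
          constructor
          · rintro ⟨i, rfl⟩
            exact Z.zpow_mem z.2 i
          · intro hx
            obtain ⟨i, hi⟩ := Subgroup.mem_zpowers_iff.1 (hz ⟨x, hx⟩)
            exact ⟨i, Subtype.ext (by simpa using congrArg Subtype.val hi)⟩
        have h2 : Z.relIndex E ∣ p ^ a := by
          rw [hE, sup_comm, Subgroup.relIndex_sup_right, ← Subgroup.inf_relIndex_right, ← hPa]
          exact Subgroup.index_dvd_card _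
        obtain ⟨i, _, hi⟩ := (Nat.dvd_prime_pow hp).1 h2
        exact ⟨i, by rw [h1]; exact hi⟩
    -- the duals
    obtain ⟨instX, hXcard, hXsum⟩ := sum_hom_trivialOn hab (Z.subgroupOf C)
    let X := {l : C →* ℂ // ∀ z ∈ Z.subgroupOf C, l z = 1}
    let conjC : H → (C →* C) := fun g =>
      { toFun := fun c => ⟨g * c * g⁻¹, hC.conj_mem (c : H) c.2 g⟩
        map_one' := by apply Subtype.ext; simp
        map_mul' := fun a b => by apply Subtype.ext; simp [mul_assoc] }
    have hconjZ : ∀ (g : H) (z : C), z ∈ Z.subgroupOf C → conjC g z = z := fun g z hz => by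
      apply Subtype.ext
      show g * (z : H) * g⁻¹ = z
      have h : g * (z : H) = (z : H) * g := Subgroup.mem_center_iff.1 (hZcenter hz) g
      rw [h, mul_inv_cancel_right]
    letI act : MulAction H X :=
      { smul := fun g l => ⟨l.1.comp (conjC g⁻¹), fun z hz => by
          rw [MonoidHom.comp_apply, hconjZ g⁻¹ z hz, l.2 z hz]⟩
        one_smul := fun l => by
          apply Subtype.ext; apply MonoidHom.ext; intro c
          show l.1 (conjC 1⁻¹ c) = l.1 c
          congr 1; apply Subtype.ext
          show (1 : H)⁻¹ * (c : H) * (1 : H)⁻¹⁻¹ = c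
          simp
        mul_smul := fun g h l => by
          apply Subtype.ext; apply MonoidHom.ext; intro c
          show l.1 (conjC (g * h)⁻¹ c) = l.1 (conjC h⁻¹ (conjC g⁻¹ c))
          congr 1; apply Subtype.ext
          show (g * h)⁻¹ * (c : H) * (g * h)⁻¹⁻¹ = h⁻¹ * (g⁻¹ * (c : H) * g⁻¹⁻¹) * h⁻¹⁻¹
          simp [mul_assoc] }
    have hsmul : ∀ (g : H) (l : X) (c : C),
        (g • l).1 c = l.1 ⟨g⁻¹ * c * g, by simpa using hC.conj_mem (c : H) c.2 g⁻¹⟩ := by
      intro g l c
      show l.1 (conjC g⁻¹ c) = _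
      congr 1; apply Subtype.ext
      show g⁻¹ * (c : H) * g⁻¹⁻¹ = _
      simp
    choose cC hcC eE heE hce using fun g => (show ∃ c ∈ C, ∃ e ∈ E, c * e = g from by
      obtain ⟨c, hc, q, hq, h⟩ := hdecomp g
      exact ⟨c, hc, q, le_sup_right (a := Z) hq, h⟩)
    let w : H → X → ℂ := fun g l => (g • l).1 ⟨cC g, hcC g⟩
    have hCfix : ∀ (c : C) (l : X), (c : H) • l = l := by
      intro c l
      apply Subtype.ext; apply MonoidHom.ext; intro d
      rw [hsmul]; congr 1; apply Subtype.ext
      have := congrArg Subtype.val (hab c⁻¹ d)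
      show (c : H)⁻¹ * d * c = d
      simp only [Subgroup.coe_mul, Subgroup.coe_inv] at this
      rw [this, inv_mul_cancel_right]
    have hindep : ∀ (l : X) (c c' : C), (c : H)⁻¹ * c' ∈ E → l.1 c = l.1 c' := by
      intro l c c' h
      have hz : c⁻¹ * c' ∈ Z.subgroupOf C := hECZ _ h (c⁻¹ * c').2
      have := l.2 _ hz
      calc l.1 c = l.1 c * l.1 (c⁻¹ * c') := by rw [this, mul_one]
        _ = l.1 c' := by rw [← map_mul, mul_inv_cancel_left]
    have hwc : ∀ (g : H) (l : X) (c : C), (c : H)⁻¹ * g ∈ E → w g l = (g • l).1 c := by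
      intro g l c h
      apply hindep
      show (cC g)⁻¹ * (c : H) ∈ E
      have h1 : (cC g)⁻¹ * (c : H) = ((cC g)⁻¹ * g) * ((c : H)⁻¹ * g)⁻¹ := by simp [mul_assoc]
      rw [h1]
      refine E.mul_mem ?_ (E.inv_mem h)
      have : (cC g)⁻¹ * g = eE g := by rw [inv_mul_eq_iff_eq_mul, hce]
      rw [this]; exact heE g
    have hw : IsCocycle w := by
      refine ⟨fun l => ?_, fun g1 g2 l => ?_⟩
      · rw [hwc 1 l 1 (by simp [E.one_mem])]; simp
      · set c1 : C := ⟨cC g1, hcC g1⟩
        set c2 : C := ⟨cC g2, hcC g2⟩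
        set d : C := ⟨eE g1 * cC g2 * (eE g1)⁻¹, hC.conj_mem _ (hcC g2) _⟩ with hd
        have hkey : ((c1 * d : C) : H)⁻¹ * (g1 * g2) = eE g1 * eE g2 := by
          conv_lhs => rw [← hce g1, ← hce g2]
          simp [c1, hd, mul_assoc]
        rw [hwc (g1 * g2) l (c1 * d) (by rw [hkey]; exact E.mul_mem (heE g1) (heE g2)), map_mul]
        show _ = (g1 • (g2 • l)).1 c1 * (g2 • l).1 c2
        rw [← mul_smul]
        congr 1
        rw [mul_smul, hsmul]
        congr 1
        apply Subtype.ext
        show g1⁻¹ * (eE g1 * cC g2 * (eE g1)⁻¹) * g1 = cC g2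
        have hg1 : g1⁻¹ = (eE g1)⁻¹ * (cC g1)⁻¹ := by rw [← mul_inv_rev, hce]
        have h3 := congrArg Subtype.val (hab (c1⁻¹) d)
        simp only [Subgroup.coe_mul, Subgroup.coe_inv, c1, hd] at h3
        rw [hg1]
        conv_lhs => arg 2; rw [← hce g1]
        calc (eE g1)⁻¹ * (cC g1)⁻¹ * (eE g1 * cC g2 * (eE g1)⁻¹) * (cC g1 * eE g1)
            = (eE g1)⁻¹ * ((cC g1)⁻¹ * (eE g1 * cC g2 * (eE g1)⁻¹)) * cC g1 * eE g1 := by
              simp only [mul_assoc]
          _ = (eE g1)⁻¹ * ((eE g1 * cC g2 * (eE g1)⁻¹) * (cC g1)⁻¹) * cC g1 * eE g1 := by rw [h3]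
          _ = cC g2 := by group
    -- the permutation character on the cosets of E
    have hmain : ∀ g : H, indFun E (fun _ => (1 : ℂ)) g = ∑ l : X, if g • l = l then w g l else 0 := by
      intro g
      set c : C := ⟨cC g, hcC g⟩ with hc
      have hge : (cC g)⁻¹ * g = eE g := by rw [inv_mul_eq_iff_eq_mul, hce]
      let β : C → C := fun u => ⟨(u : H)⁻¹ * (cC g * (eE g * u * (eE g)⁻¹)), C.mul_mem (C.inv_mem u.2)
        (C.mul_mem (hcC g) (hC.conj_mem _ u.2 _))⟩
      have hβ : ∀ u : C, ((u : H)⁻¹ * g * u ∈ E ↔ β u ∈ Z.subgroupOf C) := by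
        intro u
        have he : (u : H)⁻¹ * g * u = (β u : H) * eE g := by
          conv_lhs => rw [← hce g]
          simp [β, mul_assoc]
        rw [he, Subgroup.mem_subgroupOf]
        constructor
        · intro h
          refine hECZ _ ?_ (β u).2
          simpa using E.mul_mem h (E.inv_mem (heE g))
        · intro h; exact E.mul_mem (le_sup_left (b := (P : Subgroup H)) h) (heE g)
      -- pass from a sum over H to a sum over C
      have hsumH : (∑ x : H, extendByZero E (fun _ => (1:ℂ)) (x⁻¹ * g * x))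
          = (Nat.card P : ℂ) * ∑ u : C, if β u ∈ Z.subgroupOf C then 1 else 0 := by
        let φ : C × (P : Subgroup H) → H := fun t => (t.1 : H) * (t.2 : H)
        have hφ : Function.Bijective φ := by
          constructor
          · intro s t hst
            have h1 : (t.1 : H)⁻¹ * s.1 = (t.2 : H) * (s.2 : H)⁻¹ := by
              rw [inv_mul_eq_iff_eq_mul, ← mul_assoc, eq_mul_inv_iff_mul_eq]; exact hst
            have h2 : (t.1 : H)⁻¹ * s.1 = 1 := Subgroup.mem_bot.1 (hCP ▸
              ⟨C.mul_mem (C.inv_mem t.1.2) s.1.2, h1 ▸ (P : Subgroup H).mul_mem t.2.2 ((P : Subgroup H).inv_mem s.2.2)⟩)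
            have e1 : s.1 = t.1 := Subtype.ext (inv_mul_eq_one.1 h2).symm
            refine Prod.ext e1 (Subtype.ext ?_)
            rw [h2] at h1
            exact (mul_inv_eq_one.1 h1.symm).symm
          · intro x
            obtain ⟨c, hc, q, hq, rfl⟩ := hdecomp x
            exact ⟨(⟨c, hc⟩, ⟨q, hq⟩), rfl⟩
        rw [← (Equiv.ofBijective φ hφ).sum_comp, Fintype.sum_prod_type, Finset.mul_sum]
        refine Finset.sum_congr rfl fun u _ => ?_
        have : ∀ q : (P : Subgroup H), extendByZero E (fun _ => (1:ℂ)) ((φ (u, q))⁻¹ * g * φ (u, q))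
            = if β u ∈ Z.subgroupOf C then 1 else 0 := by
          intro q
          have hq : (q : H) ∈ E := le_sup_right (a := Z) q.2
          have e1 : (φ (u, q))⁻¹ * g * φ (u, q) = (q : H)⁻¹ * ((u : H)⁻¹ * g * u) * q := by
            simp [φ, mul_assoc]
          rw [e1, ext0_eq]
          have hiff : ((q : H)⁻¹ * ((u : H)⁻¹ * g * u) * q ∈ E) ↔ β u ∈ Z.subgroupOf C := by
            rw [E.mul_mem_cancel_right hq, E.mul_mem_cancel_left (E.inv_mem hq), hβ]
          by_cases h : β u ∈ Z.subgroupOf C
          · rw [dif_pos (hiff.2 h), if_pos h]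
          · rw [dif_neg (fun h' => h (hiff.1 h')), if_neg h]
        simp only [Equiv.ofBijective_apply, this, Finset.sum_const, nsmul_eq_mul, Finset.card_univ,
          Nat.card_eq_fintype_card]
      have hchar : ∀ l : X, (∑ u : C, l.1 (β u)) =
          (if g • l = l then w g l else 0) * (Fintype.card C : ℂ) := by
        intro l
        let μ : C →* ℂ := l.1.comp (MonoidHom.mk' (fun u => u⁻¹ * conjC (eE g) u) (fun a b => by
          rw [map_mul, mul_inv_rev, hab b⁻¹ a⁻¹, mul_assoc, ← mul_assoc b⁻¹, hab b⁻¹ (conjC _ a)]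
          simp [mul_assoc]))
        have hμ : ∀ u, l.1 (β u) = l.1 c * μ u := by
          intro u
          show _ = l.1 c * l.1 (u⁻¹ * conjC (eE g) u)
          rw [← map_mul, ← mul_assoc, hab c, mul_assoc]
          rfl
        simp only [hμ, ← Finset.mul_sum]
        have hgl : g • l = eE g • l := by
          conv_lhs => rw [← hce g]
          rw [mul_smul]; exact hCfix c (eE g • l)
        have hiff : (∀ u, μ u = 1) ↔ g • l = l := by
          have hμ' : ∀ u, μ u = l.1 u⁻¹ * l.1 (conjC (eE g) u) := fun u => map_mul l.1 _ _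
          constructor
          · intro h
            rw [hgl]
            symm
            conv_lhs => rw [← inv_smul_smul (eE g) l, ← smul_assoc] 
            refine eq_of_heq ?_
            apply heq_of_eq
            apply Subtype.ext; apply MonoidHom.ext; intro d
            rw [smul_assoc, inv_smul_smul, hsmul]
            have := h ⟨(eE g)⁻¹ * d * eE g, by simpa using hC.conj_mem (d : H) d.2 (eE g)⁻¹⟩
            rw [hμ'] at this
            set d' : C := ⟨(eE g)⁻¹ * d * eE g, by simpa using hC.conj_mem (d : H) d.2 (eE g)⁻¹⟩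
            have hd : conjC (eE g) d' = d := by
              apply Subtype.ext
              show eE g * ((eE g)⁻¹ * (d : H) * eE g) * (eE g)⁻¹ = d
              group
            rw [hd] at this
            calc l.1 d = l.1 d' * (l.1 d'⁻¹ * l.1 d) := by
                  rw [← mul_assoc, ← map_mul, mul_inv_cancel, map_one, one_mul]
              _ = l.1 d' := by rw [this, mul_one]
          · intro h u
            rw [hμ']
            have h' := congrArg (fun z : X => z.1 (conjC (eE g) u)) (hgl.symm.trans h)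
            simp only [hsmul] at h'
            have : (⟨(eE g)⁻¹ * (conjC (eE g) u : H) * eE g, by
                simpa using hC.conj_mem (conjC (eE g) u : H) (conjC (eE g) u).2 (eE g)⁻¹⟩ : C) = u := by
              apply Subtype.ext
              show (eE g)⁻¹ * (eE g * (u : H) * (eE g)⁻¹) * eE g = u
              group
            rw [this] at h'
            rw [← h', ← map_mul, inv_mul_cancel, map_one]
        by_cases hg : g • l = l
        · rw [if_pos hg, Finset.sum_congr rfl (fun u _ => hiff.2 hg u)]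
          have : w g l = l.1 c := by show (g • l).1 c = _; rw [hg]
          simp [this]
        · rw [if_neg hg, zero_mul]
          obtain ⟨v, hv⟩ : ∃ v, μ v ≠ 1 := by
            by_contra h
            exact hg (hiff.1 fun u => not_not.1 fun hu => h ⟨u, hu⟩)
          have hs : ∑ u, μ u = μ v * ∑ u, μ u := by
            rw [Finset.mul_sum]
            exact Fintype.sum_equiv (Equiv.mulLeft v⁻¹) _ _ fun u => by simp [← map_mul]
          have : ∑ u, μ u = 0 := by
            by_contra hS
            exact hv (mul_eq_right₀ hS |>.1 hs.symm)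
          rw [this, mul_zero]
      show (Nat.card E : ℂ)⁻¹ * (∑ x : H, extendByZero E (fun _ => (1:ℂ)) (x⁻¹ * g * x)) = _
      rw [hsumH]
      have hdual : (Nat.card X : ℂ) * (∑ u : C, if β u ∈ Z.subgroupOf C then 1 else 0)
          = (Fintype.card C : ℂ) * ∑ l : X, if g • l = l then w g l else 0 := by
        rw [Finset.mul_sum, Finset.mul_sum]
        have : ∀ u : C, (Nat.card X : ℂ) * (if β u ∈ Z.subgroupOf C then 1 else 0)
            = ∑ l : X, l.1 (β u) := fun u => (hXsum (β u)).symm
        simp only [this]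
        rw [Finset.sum_comm]
        exact Finset.sum_congr rfl fun l _ => by rw [hchar l, mul_comm]
      have hcardE : (Nat.card E : ℕ) * Z.relIndex C = Nat.card P * Nat.card C := by
        have h1 : Nat.card Z * Z.relIndex C = Nat.card C := by
          rw [← Nat.card_congr (Subgroup.subgroupOfEquivOfLe (inf_le_left : Z ≤ C)).toEquiv]
          exact Subgroup.card_mul_index _
        have h2 : Nat.card E = Nat.card Z * Nat.card (P : Subgroup H) := by
          have hd : Z ⊓ (P : Subgroup H) = ⊥ :=
            le_bot_iff.1 (hCP ▸ inf_le_inf_right _ inf_le_left)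
          rw [← Subgroup.card_mul_index (Z.subgroupOf E),
            Nat.card_congr (Subgroup.subgroupOfEquivOfLe (le_sup_left : Z ≤ E)).toEquiv]
          congr 1
          show Z.relIndex E = _
          rw [hE, sup_comm, Subgroup.relIndex_sup_right, ← Subgroup.inf_relIndex_right, hd,
            Subgroup.relIndex_bot_left]
        rw [h2, mul_assoc, mul_comm (Nat.card (P : Subgroup H)), ← mul_assoc, h1, mul_comm]
      have hC0 : (Fintype.card C : ℂ) ≠ 0 := by exact_mod_cast Fintype.card_ne_zero
      have hE0 : (Nat.card E : ℂ) ≠ 0 := by exact_mod_cast Nat.card_pos.ne'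
      have hX : Nat.card X = Z.relIndex C := hXcard
      have hXE : (Nat.card E : ℂ) * (Nat.card X : ℂ) = (Nat.card P : ℂ) * (Fintype.card C : ℂ) := by
        rw [hX, ← Nat.card_eq_fintype_card]; exact_mod_cast hcardE
      rw [inv_mul_eq_iff_eq_mul₀ hE0]
      have hX0 : (Nat.card X : ℂ) ≠ 0 := by
        intro h0; rw [h0, mul_zero] at hXE
        exact mul_ne_zero (by exact_mod_cast Nat.card_pos.ne') hC0 hXE.symm
      apply mul_left_cancel₀ hX0
      linear_combination (Nat.card P : ℂ) * hdual - (∑ l : X, if g • l = l then w g l else 0) * hXE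
    -- now the orbit decomposition
    set S := Submodule.span ℤ (monoSet (fun K : Subgroup H => IsElementary p K)) with hS
    let l0 : X := ⟨1, fun z _ => rfl⟩
    set ω0 : orbitRel.Quotient H X := Quotient.mk'' l0 with hω0
    have hl0 : ∀ g : H, g • l0 = l0 := fun g => by
      apply Subtype.ext; apply MonoidHom.ext; intro c; rfl
    have hout : ω0.out = l0 := by
      have : (Quotient.mk'' ω0.out : orbitRel.Quotient H X) = Quotient.mk'' l0 := Quotient.out_eq' _
      obtain ⟨g, hg⟩ := (Quotient.eq''.1 this : ω0.out ∈ orbit H l0)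
      simp only [hl0] at hg
      exact hg.symm
    have hterm0 : indFun (stabilizer H ω0.out) (stabHom hw ω0.out) = fun _ => 1 := by
      funext g
      have hst : stabilizer H ω0.out = ⊤ := eq_top_iff.2 fun g _ => by
        rw [mem_stabilizer_iff, hout]; exact hl0 g
      have h1 : ∀ t : stabilizer H ω0.out, stabHom hw ω0.out t = 1 := fun t => by
        show w (t : H) ω0.out = 1
        show ((t : H) • ω0.out).1 _ = 1
        have h3 : (t : H) • ω0.out = l0 := (mem_stabilizer_iff.1 t.2).trans hout
        rw [h3]; rfl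
      have h2 : (stabHom hw ω0.out : stabilizer H ω0.out → ℂ) = fun _ => 1 := funext h1
      rw [h2]
      have : ∀ (K : Subgroup H), K = ⊤ → indFun K (fun _ => (1:ℂ)) g = 1 := by
        rintro K rfl
        exact indFun_top (fun _ => 1) (fun _ _ => rfl) g
      exact this _ hst
    have hterms : ∀ ω : orbitRel.Quotient H X, ω ≠ ω0 →
        indFun (stabilizer H ω.out) (stabHom hw ω.out) ∈ S := by
      intro ω hω
      set l : X := ω.out with hl
      set T : Subgroup H := stabilizer H l
      have hlne : l ≠ l0 := by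
        intro h; apply hω; rw [hω0, ← h, hl]; exact (Quotient.out_eq' ω).symm
      have hCT : C ≤ T := fun c hc => hCfix ⟨c, hc⟩ l
      have hTlt : T ≠ ⊤ := by
        intro hT
        apply hlne
        apply Subtype.ext; apply MonoidHom.ext; intro c
        refine hom_eq_one_of_invariant p C P hC P.isPGroup' hcop l.1 ?_ ?_ c
        · intro g _ d
          have hg : g⁻¹ • l = l := (hT ▸ Subgroup.mem_top g⁻¹ : g⁻¹ ∈ T)
          conv_rhs => rw [← hg]
          rw [hsmul]; congr 1; apply Subtype.ext; simp
        · intro d hd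
          exact l.2 d ⟨d.2, hd⟩
      haveI : Fintype T := Fintype.ofFinite _
      have hlt : Nat.card T < n := by
        rw [← hn]
        rcases lt_or_ge (Nat.card T) (Nat.card H) with h | h
        · exact h
        · exact absurd (Subgroup.eq_top_of_le_card _ h) hTlt
      have hind : ∃ i : ℕ, (C.subgroupOf T).index = p ^ i := by
        have : (C.subgroupOf T).index ∣ p ^ k := hk ▸ Subgroup.relIndex_dvd_index_of_normal C T
        obtain ⟨i, _, hi⟩ := (Nat.dvd_prime_pow hp).1 this
        exact ⟨i, hi⟩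
      haveI : IsCyclic (C.subgroupOf T) :=
        isCyclic_of_injective (Subgroup.subgroupOfEquivOfLe hCT).toMonoidHom (MulEquiv.injective _)
      have h1 := ih _ hlt T rfl (C.subgroupOf T) inferInstance inferInstance
        (by rw [Nat.card_congr (Subgroup.subgroupOfEquivOfLe hCT).toEquiv]; exact hcop) hind
      have h2 := monoSet_mul_hom _ (stabHom hw l) h1
      have h3 : ((stabHom hw l : T → ℂ)) * (fun _ : T => (1 : ℂ)) = (stabHom hw l : T → ℂ) := mul_one _
      rw [h3] at h2
      exact indFun_monoSet (fun K hK => isElementary_map K hK) h2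
    have hdec : (fun _ : H => (1 : ℂ)) = indFun E (fun _ => 1) -
        ∑ ω ∈ Finset.univ.erase ω0, indFun (stabilizer H ω.out) (stabHom hw ω.out) := by
      funext g
      have h4 : indFun E (fun _ => (1 : ℂ)) g =
          ∑ ω : orbitRel.Quotient H X, indFun (stabilizer H ω.out) (stabHom hw ω.out) g := by
        rw [hmain g]; convert monomial_decomp w hw g
      rw [Pi.sub_apply, Finset.sum_apply, h4,
        ← Finset.add_sum_erase _ _ (Finset.mem_univ ω0), hterm0]
      ring
    rw [hdec]
    refine S.sub_mem (Submodule.subset_span ⟨E, hEelem, 1, rfl⟩) (S.sum_mem fun ω hω => ?_)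
    exact hterms ω (Finset.mem_erase.1 hω).1

variable {G : Type u} [Group G] [Fintype G]

/-- Brauer's theorem at the prime `p`. -/
theorem brauer_local (p : ℕ) (hp : p.Prime) :
    ∃ m : ℤ, ¬ (p : ℤ) ∣ m ∧
      (fun _ : G => (m : ℂ)) ∈ Submodule.span ℤ (monoSet (fun H : Subgroup G => IsElementary p H)) := by
  obtain ⟨m, hm, hmem⟩ := solomon_local (G := G) p hp
  refine ⟨m, hm, Submodule.span_le.2 ?_ hmem⟩
  rintro _ ⟨H, ⟨C, hCH, hN, hcyc, hcop, k, hk⟩, rfl⟩
  haveI : Fintype H := Fintype.ofFinite _
  haveI := Subgroup.normal_subgroupOf_of_le_normalizer hN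
  haveI : IsCyclic (C.subgroupOf H) :=
    isCyclic_of_injective (Subgroup.subgroupOfEquivOfLe hCH).toMonoidHom (MulEquiv.injective _)
  have h1 := quasi_one_mem p hp _ H rfl (C.subgroupOf H) inferInstance inferInstance
    (by rw [Nat.card_congr (Subgroup.subgroupOfEquivOfLe hCH).toEquiv]; exact hcop) ⟨k, hk⟩
  exact indFun_monoSet (fun K hK => isElementary_map K hK) h1

/-- The subgroups that are elementary for some prime. -/
def IsElem (H : Subgroup G) : Prop := ∃ p : ℕ, p.Prime ∧ IsElementary p H

/-- Brauer's induction theorem. -/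
theorem brauer :
    (fun _ : G => (1 : ℂ)) ∈ Submodule.span ℤ (monoSet (IsElem (G := G))) := by
  set S := Submodule.span ℤ (monoSet (IsElem (G := G))) with hS
  let A : Submodule ℤ ℤ :=
    { carrier := {m | (fun _ : G => (m : ℂ)) ∈ S}
      add_mem' := fun {a b} ha hb => by
        show (fun _ : G => ((a + b : ℤ) : ℂ)) ∈ S
        have := S.add_mem ha hb
        convert this using 1; funext y; simp
      zero_mem' := by
        show (fun _ : G => ((0 : ℤ) : ℂ)) ∈ S
        have := S.zero_mem
        convert this using 1; funext y; simp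
      smul_mem' := fun c a ha => by
        show (fun _ : G => ((c • a : ℤ) : ℂ)) ∈ S
        have := S.smul_mem c ha
        convert this using 1; funext y; simp }
  obtain ⟨d, hd⟩ := (IsPrincipalIdealRing.principal A).principal
  have hloc : ∀ p : ℕ, p.Prime → ¬ (p : ℤ) ∣ d := by
    intro p hp hdiv
    obtain ⟨m, hm, hmem⟩ := brauer_local (G := G) p hp
    have hsub : monoSet (fun H : Subgroup G => IsElementary p H) ⊆ monoSet IsElem :=
      fun f ⟨H, hH, l, hl⟩ => ⟨H, ⟨p, hp, hH⟩, l, hl⟩
    have hmA : m ∈ A := Submodule.span_mono hsub hmem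
    rw [hd, Submodule.mem_span_singleton] at hmA
    obtain ⟨c, rfl⟩ := hmA
    exact hm (hdiv.trans (dvd_mul_left d c))
  have hd1 : d.natAbs = 1 := by
    by_contra h
    obtain ⟨p, hp, hpd⟩ := Nat.exists_prime_and_dvd h
    exact hloc p hp (Int.natCast_dvd.2 hpd)
  have h1 : (1 : ℤ) ∈ A := by
    rw [hd, Submodule.mem_span_singleton]
    exact ⟨d, by rcases Int.natAbs_eq d with h | h <;> rw [h, hd1] <;> simp⟩
  have h1' : (fun _ : G => ((1 : ℤ) : ℂ)) ∈ S := h1
  simpa using h1'

/-- A function in a span over a range of subgroups as an explicit finite combination. -/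
theorem span_as_sum {P : Subgroup G → Prop} {f : G → ℂ}
    (hf : f ∈ Submodule.span ℤ (permSet P)) :
    ∃ a : Subgroup G → ℤ, (∀ H, a H ≠ 0 → P H) ∧
      f = ∑ H : Subgroup G, (a H : ℂ) • indFun H (fun _ => 1) := by
  classical
  induction hf using Submodule.span_induction with
  | mem x hx =>
    obtain ⟨H, hH, rfl⟩ := hx
    refine ⟨fun K => if K = H then 1 else 0, fun K hK => ?_, ?_⟩
    · by_contra h
      exact hK (if_neg fun e : K = H => h (e ▸ hH))
    · rw [Finset.sum_eq_single H] <;> simp +contextual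
  | zero => exact ⟨fun _ => 0, by simp, by simp⟩
  | add x y _ _ h1 h2 =>
    obtain ⟨a, ha, rfl⟩ := h1
    obtain ⟨b, hb, rfl⟩ := h2
    refine ⟨fun K => a K + b K, fun K hK => ?_, ?_⟩
    · by_contra h
      have h1 : a K = 0 := not_not.1 fun e => h (ha K e)
      have h2 : b K = 0 := not_not.1 fun e => h (hb K e)
      exact hK (by simp only [h1, h2, add_zero])
    · rw [← Finset.sum_add_distrib]
      exact Finset.sum_congr rfl fun K _ => by rw [Int.cast_add, add_smul]
  | smul r x _ h =>
    obtain ⟨a, ha, rfl⟩ := h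
    refine ⟨fun K => r * a K, fun K hK => ha K (right_ne_zero_of_mul hK), ?_⟩
    rw [Finset.smul_sum]
    exact Finset.sum_congr rfl fun K _ => by
      rw [Int.cast_mul, mul_smul]
      exact (Int.cast_smul_eq_zsmul ℂ r _).symm

end Cfsg.Agent.Lib.Brauer.Elementary
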