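import Cfsg.Agent.Lib.Characters.Indicator

/-!
A real-valued irreducible character of odd degree has Frobenius-Schur indicator one.
-/

set_option autoImplicit false

namespace Cfsg.Agent.Lib.Brauer.OddIndicator

open Cfsg.Agent.Lib
open scoped Kronecker ComplexConjugate

universe u

variable {G : Type u} [Group G] [Fintype G]

/-- The indicator of a real-valued irreducible character of odd degree is `1`. -/
theorem indicator_eq_one_of_odd (χ : Cfsg.IrrCharacter G) (hreal : ∀ g, ((χ : G → ℂ) g).im = 0)
    {d : ℕ} (hd : (χ : G → ℂ) 1 = d) (hodd : Odd d) :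
    (Nat.card G : ℂ)⁻¹ * ∑ s : G, (χ : G → ℂ) (s * s) = 1 := by
  classical
  rcases (Characters.Indicator.indicator_spec χ).1 hreal with h | h
  · exact h
  exfalso
  obtain ⟨n, ρ, hρ, hχ⟩ := Characters.Basic.exists_rep χ
  have hn : n = d := by
    rw [← hχ, Representation.char_one, Module.finrank_fin_fun] at hd
    exact_mod_cast hd
  set M : G →* Matrix (Fin n) (Fin n) ℂ :=
    (LinearMap.toMatrixAlgEquiv' (R := ℂ) (n := Fin n)).toAlgHom.toMonoidHom.comp ρ with hMdef
  have hM : ∀ g, ρ.character g = (M g).trace := fun g =>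
    LinearMap.trace_eq_matrix_trace ℂ (Pi.basisFun ℂ (Fin n)) (ρ g)
  set P : Matrix (Fin n × Fin n) (Fin n × Fin n) ℂ :=
    (Nat.card G : ℂ)⁻¹ • ∑ g : G, M g ⊗ₖ M g with hP
  have hfix : ∀ g : G, (M g ⊗ₖ M g) * P = P := by
    intro g
    rw [hP, mul_smul_comm, Finset.mul_sum]
    congr 1
    exact Fintype.sum_equiv (Equiv.mulLeft g) _ _ fun x => by simp [← Matrix.mul_kronecker_mul]
  have htr : P.trace = 1 := by
    have h1 := Characters.Basic.classInner_self_irr χ
    rw [Cfsg.classInner] at h1
    rw [hP, Matrix.trace_smul, Matrix.trace_sum, smul_eq_mul, ← h1]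
    congr 1
    refine Finset.sum_congr rfl fun g _ => ?_
    rw [Matrix.trace_kronecker, ← hM, hχ, Complex.conj_eq_iff_im.mpr (hreal g)]
  have hswap : ∑ a, P a a.swap = -1 := by
    rw [← h, ← hχ]
    simp only [hP, Matrix.smul_apply, Matrix.sum_apply, smul_eq_mul, ← Finset.mul_sum]
    rw [Finset.sum_comm]
    congr 1
    refine Finset.sum_congr rfl fun g _ => ?_
    rw [hM, map_mul, Matrix.trace, Fintype.sum_prod_type]
    simp [Matrix.kronecker_apply, Matrix.mul_apply]
  obtain ⟨b, hb⟩ : ∃ b : Fin n × Fin n, P b b - P b.swap b ≠ 0 := by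
    by_contra hno
    have h0 : ∀ b : Fin n × Fin n, P b b - P b.swap b = 0 := fun b => not_not.1 fun hb => hno ⟨b, hb⟩
    have h1 : ∑ b : Fin n × Fin n, (P b b - P b.swap b) = 0 := Finset.sum_eq_zero fun b _ => h0 b
    have h2 : ∑ b : Fin n × Fin n, P b.swap b = -1 := by
      rw [← hswap]
      exact Fintype.sum_equiv (Equiv.prodComm (Fin n) (Fin n)) _ _ fun a => by simp
    have h3 : ∑ b : Fin n × Fin n, P b b = 1 := htr
    rw [Finset.sum_sub_distrib, h3, h2] at h1
    norm_num at h1
  set U : Matrix (Fin n) (Fin n) ℂ := Matrix.of fun i j => P (i, j) b - P (j, i) b with hU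
  have hUne : U ≠ 0 := fun h0 => hb (by
    have h4 := congrFun (congrFun h0 b.1) b.2
    simpa [hU, Prod.swap] using h4)
  have hUT : U.transpose = -U := by
    ext i j
    simp [hU]
  have hinvU : ∀ g, M g * U * (M g).transpose = U := by
    intro g
    ext i j
    have e1 : ∀ i j, P (i, j) b = ∑ k, ∑ l, M g i k * M g j l * P (k, l) b := by
      intro i j
      conv_lhs => rw [← hfix g]
      rw [Matrix.mul_apply, Fintype.sum_prod_type]
      simp [Matrix.kronecker_apply]
    have e2 : P (j, i) b = ∑ k, ∑ l, M g i k * M g j l * P (l, k) b := by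
      rw [e1 j i, Finset.sum_comm]
      simp only [mul_comm (M g j _) (M g i _)]
    have e3 : (M g * U * (M g).transpose) i j = ∑ k, ∑ l, M g i k * M g j l * U k l := by
      simp only [Matrix.mul_apply, Matrix.transpose_apply, Finset.sum_mul]
      rw [Finset.sum_comm]
      exact Finset.sum_congr rfl fun k _ => Finset.sum_congr rfl fun l _ => by ring
    rw [e3]
    simp only [hU, Matrix.of_apply, mul_sub, Finset.sum_sub_distrib]
    rw [← e1 i j, ← e2]
  -- the range is invariant
  have hMinv : ∀ g, (M g).transpose * (M g⁻¹).transpose = 1 := fun g => by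
    rw [← Matrix.transpose_mul, ← map_mul, inv_mul_cancel, map_one, Matrix.transpose_one]
  let T : Subrepresentation ρ :=
    ⟨LinearMap.range (Matrix.toLin' U), fun g v hv => by
      obtain ⟨x, rfl⟩ := hv
      refine ⟨(M g⁻¹).transpose.mulVec x, ?_⟩
      have h5 : M g * U = U * (M g⁻¹).transpose := by
        calc M g * U = M g * U * ((M g).transpose * (M g⁻¹).transpose) := by rw [hMinv, mul_one]
          _ = U * (M g⁻¹).transpose := by rw [← mul_assoc, hinvU]
      have h6 : ρ g = Matrix.toLin' (M g) := by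
        simp [hMdef, LinearMap.toMatrixAlgEquiv', Matrix.toLin'_toMatrix']
      rw [h6, Matrix.toLin'_apply, Matrix.toLin'_apply, Matrix.toLin'_apply, Matrix.mulVec_mulVec,
        Matrix.mulVec_mulVec, h5]⟩
  have hTtop : LinearMap.range (Matrix.toLin' U) = ⊤ := by
    rcases eq_bot_or_eq_top T with hT | hT
    · exfalso
      apply hUne
      have h7 : LinearMap.range (Matrix.toLin' U) = ⊥ := congrArg Subrepresentation.toSubmodule hT
      exact (LinearEquiv.map_eq_zero_iff _).mp (LinearMap.range_eq_bot.1 h7)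
    · exact congrArg Subrepresentation.toSubmodule hT
  have hdet : U.det ≠ 0 := by
    rw [← LinearMap.det_toLin']
    exact ((LinearMap.isUnit_iff_isUnit_det _).1
      ((Module.End.isUnit_iff _).2 ⟨LinearMap.injective_iff_surjective.2 (LinearMap.range_eq_top.1 hTtop),
        LinearMap.range_eq_top.1 hTtop⟩)).ne_zero
  have h8 := congrArg Matrix.det hUT
  rw [Matrix.det_transpose, Matrix.det_neg, Fintype.card_fin, (hn.symm ▸ hodd : Odd n).neg_one_pow] at h8
  exact hdet (by linear_combination h8 / 2)

end Cfsg.Agent.Lib.Brauer.OddIndicator
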