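import Cfsg.Agent.Lib.Brauer.Section
import Cfsg.Agent.Lib.Characters.Complete
import Cfsg.Agent.Lib.Induced.Generalized
import Cfsg.Agent.Lib.Induced.Integral

/-!
Extension of characters of a Hall subgroup controlling fusion (Brauer–Suzuki), and the resulting
normal complement.
-/

set_option autoImplicit false

namespace Cfsg.Agent.Lib.Brauer.HallExtension

open Cfsg Cfsg.Agent.Lib Cfsg.Agent.Lib.Brauer.Induction Cfsg.Agent.Lib.Brauer.Elementary
  Cfsg.Agent.Lib.Brauer.Monomial
open scoped ComplexConjugate Pointwise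

universe u

variable {G : Type u} [Group G]

/-- In an elementary group the map `x ↦ x ^ k` is multiplicative, when `k` is `0` modulo `m`,
`1` modulo `n`, and the order divides `m * n`. -/
theorem pow_mul_of_elementary {E : Type u} [Group E] [Finite E] {p : ℕ} (hp : p.Prime)
    (hel : IsElementary p E) {m n k : ℕ} (hcard : Nat.card E ∣ m * n) (hcop : Nat.Coprime m n)
    (hk0 : k ≡ 0 [MOD m]) (hk1 : k ≡ 1 [MOD n]) (x y : E) : (x * y) ^ k = x ^ k * y ^ k := by
  haveI : Fact p.Prime := ⟨hp⟩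
  obtain ⟨z, hz, hzo, a, ha⟩ := hel
  obtain ⟨P⟩ := (inferInstance : Nonempty (Sylow p E))
  obtain ⟨b, hPb⟩ := IsPGroup.iff_card.1 P.isPGroup'
  haveI : (Subgroup.zpowers z).Normal := ⟨fun y hy w => by
    have hy' := (Subgroup.zpowers_le.2 hz) hy
    rw [Subgroup.mem_center_iff.1 hy' w, mul_inv_cancel_right]; exact hy⟩
  have hTop : Subgroup.zpowers z ⊔ (P : Subgroup E) = ⊤ := by
    apply Subgroup.index_eq_one.1
    exact Nat.eq_one_of_dvd_coprimes
      (((hp.coprime_iff_not_dvd.2 P.not_dvd_index).pow_left a))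
      (ha ▸ Subgroup.index_dvd_of_le le_sup_left) (Subgroup.index_dvd_of_le le_sup_right)
  have hdec : ∀ e : E, ∃ i : ℤ, ∃ q ∈ (P : Subgroup E), z ^ i * q = e := by
    intro e
    obtain ⟨c, hc, q, hq, h⟩ := Subgroup.mem_sup_of_normal_left.1 (hTop ▸ Subgroup.mem_top e)
    obtain ⟨i, rfl⟩ := Subgroup.mem_zpowers_iff.1 hc
    exact ⟨i, q, hq, h⟩
  have hP : (∀ q ∈ (P : Subgroup E), q ^ k = q) ∨ (∀ q ∈ (P : Subgroup E), q ^ k = 1) := by
    have hord : ∀ q ∈ (P : Subgroup E), orderOf q ∣ p ^ b := fun q hq =>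
      hPb ▸ (Subgroup.orderOf_dvd_natCard _ hq)
    by_cases hpm : p ∣ m
    · right
      intro q hq
      have h1 : orderOf q ∣ m := by
        refine Nat.Coprime.dvd_of_dvd_mul_right ?_ ((orderOf_dvd_natCard _).trans hcard)
        exact Nat.Coprime.coprime_dvd_left (hord q hq)
          ((hp.coprime_iff_not_dvd.2 (fun h => hp.ne_one (Nat.eq_one_of_dvd_coprimes hcop hpm h))).pow_left b)
      exact orderOf_dvd_iff_pow_eq_one.1 (h1.trans (Nat.modEq_zero_iff_dvd.1 hk0))
    · left
      intro q hq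
      have h1 : orderOf q ∣ n := by
        refine Nat.Coprime.dvd_of_dvd_mul_left ?_ ((orderOf_dvd_natCard _).trans hcard)
        exact Nat.Coprime.coprime_dvd_left (hord q hq) ((hp.coprime_iff_not_dvd.2 hpm).pow_left b)
      conv_rhs => rw [← pow_one q]
      rw [pow_eq_pow_iff_modEq]
      exact hk1.of_dvd h1
  have hzc : ∀ (i : ℤ) (e : E), Commute (z ^ i) e := fun i e =>
    Commute.zpow_left (Subgroup.mem_center_iff.1 hz e).symm i
  obtain ⟨i, q, hq, rfl⟩ := hdec x
  obtain ⟨j, r, hr, rfl⟩ := hdec y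
  have e1 : z ^ i * q * (z ^ j * r) = z ^ i * z ^ j * (q * r) := by
    rw [mul_assoc (z ^ i), ← mul_assoc q, ← (hzc j q).eq]; simp only [mul_assoc]
  have e2 : (q * r) ^ k = q ^ k * r ^ k := by
    rcases hP with h | h
    · rw [h q hq, h r hr, h _ ((P : Subgroup E).mul_mem hq hr)]
    · rw [h q hq, h r hr, h _ ((P : Subgroup E).mul_mem hq hr), one_mul]
  have e3 : (z ^ i) ^ k * q ^ k * ((z ^ j) ^ k * r ^ k) = (z ^ i) ^ k * (z ^ j) ^ k * (q ^ k * r ^ k) := by
    rw [mul_assoc ((z ^ i) ^ k), ← mul_assoc (q ^ k),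
      ← ((hzc j (q ^ k)).pow_left k).eq]; simp only [mul_assoc]
  rw [e1, (hzc i q).mul_pow, (hzc j r).mul_pow, e3, ← e2, ← (hzc i (z ^ j)).mul_pow]
  exact Commute.mul_pow ((hzc i (q * r)).mul_left (hzc j (q * r))) k

/-- A cyclic group is elementary for every prime. -/
theorem isElementary_zpowers [Finite G] (v : G) (p : ℕ) (hp : p.Prime) :
    IsElementary p (Subgroup.zpowers v) := by
  obtain ⟨a, b, hab, hc, ⟨j, hj⟩, hb, ha', hb'⟩ := exists_pParts p hp v
  have hcomm : ∀ s t : Subgroup.zpowers v, s * t = t * s := fun s t => mul_comm' s t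
  refine ⟨⟨b, hb'⟩, Subgroup.mem_center_iff.2 fun g => hcomm g _, ?_, ?_⟩
  · rw [Subgroup.orderOf_mk]; exact (hp.coprime_iff_not_dvd.2 hb).symm
  · have hle : Subgroup.zpowers (⟨b, hb'⟩ : Subgroup.zpowers v) ⊔
        Subgroup.zpowers (⟨a, ha'⟩ : Subgroup.zpowers v) = ⊤ := by
      rw [eq_top_iff]
      rintro ⟨g, hg⟩ -
      obtain ⟨i, rfl⟩ := Subgroup.mem_zpowers_iff.1 hg
      have : (⟨v ^ i, hg⟩ : Subgroup.zpowers v)
          = (⟨b, hb'⟩ : Subgroup.zpowers v) ^ i * (⟨a, ha'⟩ : Subgroup.zpowers v) ^ i := by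
        apply Subtype.ext
        simp only [Subgroup.coe_mul, Subgroup.coe_zpow]
        rw [← hc.symm.mul_zpow, hc.symm.eq, hab]
      rw [this]
      exact Subgroup.mul_mem_sup (Subgroup.zpow_mem_zpowers _ _) (Subgroup.zpow_mem_zpowers _ _)
    haveI : (Subgroup.zpowers (⟨b, hb'⟩ : Subgroup.zpowers v)).Normal :=
      ⟨fun y hy g => by rw [hcomm g y, mul_inv_cancel_right]; exact hy⟩
    have h1 : (Subgroup.zpowers (⟨b, hb'⟩ : Subgroup.zpowers v)).index ∣ p ^ j := by
      rw [← Subgroup.relIndex_top_right, ← hle, sup_comm, Subgroup.relIndex_sup_right,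
        ← Subgroup.inf_relIndex_right, ← hj, ← Subgroup.orderOf_mk a ha', ← Nat.card_zpowers]
      exact Subgroup.index_dvd_card _
    obtain ⟨i, _, hi⟩ := (Nat.dvd_prime_pow hp).1 h1
    exact ⟨i, hi⟩

/-- The hypotheses: a Hall subgroup controlling fusion of its elements, containing up to
conjugation every elementary subgroup of order dividing its order. -/
structure Controls (H : Subgroup G) : Prop where
  hall : Nat.Coprime (Nat.card H) H.index
  fus : ∀ x ∈ H, ∀ y ∈ H, IsConj x y → ∃ h ∈ H, h * x * h⁻¹ = y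
  elem : ∀ (E : Subgroup G) (p : ℕ), p.Prime → IsElementary p E → Nat.card E ∣ Nat.card H →
    ∃ g : G, E.map (MulAut.conj g).toMonoidHom ≤ H

variable [Fintype G] {H : Subgroup G} (hH : Controls H)

noncomputable def kExp (hH : Controls H) : ℕ :=
  (exists_split_exp hH.hall).choose

theorem kExp_one : kExp hH ≡ 1 [MOD Nat.card H] :=
  (exists_split_exp hH.hall).choose_spec.1

theorem kExp_zero : kExp hH ≡ 0 [MOD H.index] :=
  (exists_split_exp hH.hall).choose_spec.2

include hH in
theorem order_pow_dvd (x : G) : orderOf (x ^ kExp hH) ∣ Nat.card H := by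
  apply orderOf_dvd_of_pow_eq_one
  rw [← pow_mul, ← orderOf_dvd_iff_pow_eq_one]
  refine (orderOf_dvd_natCard x).trans ?_
  rw [← H.card_mul_index, mul_comm]
  exact mul_dvd_mul_right (Nat.modEq_zero_iff_dvd.1 (kExp_zero hH)) _

include hH in
theorem pow_eq_self {v : G} (hv : orderOf v ∣ Nat.card H) : v ^ kExp hH = v := by
  conv_rhs => rw [← pow_one v]
  rw [pow_eq_pow_iff_modEq]
  exact (kExp_one hH).of_dvd hv

include hH in
theorem exists_conj (x : G) : ∃ c : G, c * x ^ kExp hH * c⁻¹ ∈ H := by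
  obtain ⟨g, hg⟩ := hH.elem _ 2 Nat.prime_two (isElementary_zpowers (x ^ kExp hH) 2 Nat.prime_two)
    (by rw [Nat.card_zpowers]; exact order_pow_dvd hH x)
  exact ⟨g, hg ⟨_, Subgroup.mem_zpowers _, rfl⟩⟩

/-- The representative in `H` of the Hall part of an element. -/
noncomputable def rep (x : G) : H :=
  ⟨(exists_conj hH x).choose * x ^ kExp hH * (exists_conj hH x).choose⁻¹,
    (exists_conj hH x).choose_spec⟩

/-- The extension of a function on `H`. -/
noncomputable def ext (θ : H → ℂ) (x : G) : ℂ := θ (rep hH x)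

theorem ext_eq {θ : H → ℂ} (hθ : IsClassFunction H θ) {x : G} {h : H}
    (hc : IsConj (x ^ kExp hH) (h : G)) : ext hH θ x = θ h := by
  have h1 : IsConj (x ^ kExp hH) ((rep hH x : H) : G) :=
    isConj_iff.2 ⟨(exists_conj hH x).choose, rfl⟩
  obtain ⟨a, ha, hae⟩ := hH.fus _ (rep hH x).2 _ h.2 (h1.symm.trans hc)
  have : (⟨a, ha⟩ : H) * rep hH x * (⟨a, ha⟩ : H)⁻¹ = h := Subtype.ext hae
  rw [← this, hθ]
  rfl

theorem ext_coe {θ : H → ℂ} (hθ : IsClassFunction H θ) (h : H) : ext hH θ (h : G) = θ h :=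
  ext_eq hH hθ (by rw [pow_eq_self hH ((Subgroup.orderOf_coe h).symm ▸ orderOf_dvd_natCard h)])

theorem ext_classFun {θ : H → ℂ} (hθ : IsClassFunction H θ) : IsClassFunction G (ext hH θ) := by
  intro x y
  refine ext_eq hH hθ (h := rep hH x) ?_
  have h1 : IsConj ((y * x * y⁻¹) ^ kExp hH) (x ^ kExp hH) :=
    (Section.isConj_pow _ (isConj_iff.2 ⟨y, rfl⟩)).symm
  exact h1.trans (isConj_iff.2 ⟨(exists_conj hH x).choose, rfl⟩)

theorem ext_isGen {θ : H → ℂ} (hθ : IsCharacter H θ) : IsGeneralizedCharacter G (ext hH θ) := by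
  have hcl := Characters.Basic.isClassFunction_of_isCharacter hθ
  apply Characterization.isGeneralized_of_mem
  refine Characterization.mem_of_elementary ℤ (ext_classFun hH hcl) fun E _ p hp hel => ?_
  have hcard : Nat.card E ∣ H.index * Nat.card H := by
    rw [mul_comm, H.card_mul_index]; exact Subgroup.card_subgroup_dvd_card E
  have hmul := pow_mul_of_elementary hp hel hcard hH.hall.symm (kExp_zero hH) (kExp_one hH)
  let s : E →* G := MonoidHom.mk' (fun e => ((e ^ kExp hH : E) : G)) (fun a b => by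
    show ((_ : E) : G) = _
    rw [hmul]; rfl)
  have hsE : s.range ≤ E := by rintro _ ⟨e, rfl⟩; exact (e ^ kExp hH).2
  have hdvd : Nat.card s.range ∣ Nat.card H := by
    refine Nat.Coprime.dvd_of_dvd_mul_left ?_ ((Subgroup.card_subgroup_dvd_card s.range).trans
      (dvd_of_eq (by rw [mul_comm, H.card_mul_index] : Nat.card G = H.index * Nat.card H)))
    refine Nat.coprime_of_dvd' fun q hq hqB hqm => ?_
    exfalso
    haveI : Fact q.Prime := ⟨hq⟩
    obtain ⟨y, hy⟩ := exists_prime_orderOf_dvd_card' (G := s.range) q hqB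
    obtain ⟨e, he⟩ := y.2
    have h3 : orderOf (y : G) ∣ Nat.card H := by
      have hee : ((e : G)) ^ kExp hH = (y : G) := by
        rw [← he]; show _ = ((e ^ kExp hH : E) : G); simp
      rw [← hee]; exact order_pow_dvd hH _
    rw [Subgroup.orderOf_coe, hy] at h3
    exact hq.ne_one (Nat.eq_one_of_dvd_coprimes hH.hall h3 hqm)
  obtain ⟨g, hg⟩ := hH.elem _ p hp (isElementary_of_le hp hel hsE) hdvd
  let φ : E →* H := ((MulAut.conj g).toMonoidHom.comp s).codRestrict H
    (fun e => hg ⟨s e, ⟨e, rfl⟩, rfl⟩)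
  have hφ : (fun e : E => ext hH θ (e : G)) = θ ∘ φ := by
    funext e
    refine ext_eq hH hcl (isConj_iff.2 ⟨g, ?_⟩)
    show g * _ * g⁻¹ = g * ((e ^ kExp hH : E) : G) * g⁻¹
    simp
  rw [hφ]
  have hsub : monoSet (IsElem (G := E)) ⊆ monoSet (fun _ : Subgroup E => True) :=
    fun f ⟨K, _, l, hl⟩ => ⟨K, trivial, l, hl⟩
  exact Submodule.span_mono hsub
    (genChar_mem (Induced.Generalized.of_isCharacter (Characters.Basic.isCharacter_comp φ hθ)))

include hH in
/-- The centralizer in `H` of an element of `H` is a Hall subgroup of its centralizer. -/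
theorem gcd_dvd_centralizer_card (h : H) :
    Nat.gcd (Nat.card (Subgroup.centralizer {(h : G)})) (Nat.card H) ∣
      Nat.card ↥(Subgroup.centralizer {(h : G)} ⊓ H) := by
  rw [Nat.dvd_iff_prime_pow_dvd_dvd]
  intro q a hq hqa
  rcases Nat.eq_zero_or_pos a with rfl | ha
  · simp
  haveI : Fact q.Prime := ⟨hq⟩
  set C := Subgroup.centralizer {(h : G)} with hC
  obtain ⟨Q⟩ := (inferInstance : Nonempty (Sylow q C))
  set Q' : Subgroup G := (Q : Subgroup C).map C.subtype with hQ'
  have hQC : Q' ≤ C := Subgroup.map_subtype_le _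
  have hQcard : Nat.card Q' = Nat.card Q :=
    Nat.card_congr ((Q : Subgroup C).equivMapOfInjective _ Subtype.val_injective).symm.toEquiv
  obtain ⟨b, hb⟩ := IsPGroup.iff_card.1 Q.isPGroup'
  have hQb : Nat.card Q' = q ^ b := hQcard.trans hb
  have hqn : q ∣ Nat.card H := (dvd_pow_self q ha.ne').trans (hqa.trans (Nat.gcd_dvd_right _ _))
  have hbn : q ^ b ∣ Nat.card H := by
    refine ((hq.coprime_iff_not_dvd.2 fun e => hq.ne_one
      (Nat.eq_one_of_dvd_coprimes hH.hall hqn e)).pow_left b).dvd_of_dvd_mul_right ?_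
    rw [H.card_mul_index, ← hQb]; exact Subgroup.card_subgroup_dvd_card _
  obtain ⟨u, z, huz, hcomm, ⟨j, hj⟩, hzq, hu, hz⟩ := exists_pParts q hq (h : G)
  -- the q-part of h lies in every Sylow subgroup of the centralizer
  have hzC : ∀ y ∈ C, y * z = z * y := by
    intro y hy
    obtain ⟨i, rfl⟩ := Subgroup.mem_zpowers_iff.1 hz
    exact (Commute.zpow_right (Subgroup.mem_centralizer_singleton_iff.1 hy) i).eq
  have huC : ∀ y ∈ C, y * u = u * y := by
    intro y hy
    obtain ⟨i, rfl⟩ := Subgroup.mem_zpowers_iff.1 hu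
    exact (Commute.zpow_right (Subgroup.mem_centralizer_singleton_iff.1 hy) i).eq
  have huQ : u ∈ Q' := by
    have huC' : u ∈ C := (Subgroup.zpowers_le.2 (Subgroup.mem_centralizer_singleton_iff.2 rfl)) hu
    set U : Subgroup C := Subgroup.zpowers ⟨u, huC'⟩ with hU
    haveI : U.Normal := ⟨fun y hy g => by
      obtain ⟨i, rfl⟩ := Subgroup.mem_zpowers_iff.1 hy
      have : Commute g (⟨u, huC'⟩ : C) := Subtype.ext (huC g g.2)
      rw [(this.zpow_right i).eq, mul_inv_cancel_right]
      exact hy⟩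
    have hUp : IsPGroup q U := IsPGroup.of_card (n := j) (by rw [Nat.card_zpowers, Subgroup.orderOf_mk, hj])
    obtain ⟨R, hR⟩ := hUp.exists_le_sylow
    have : U ≤ Q := by
      obtain ⟨g, rfl⟩ := MulAction.exists_smul_eq C R Q
      intro y hy
      show y ∈ MulAut.conj g • (R : Subgroup C)
      rw [Subgroup.mem_pointwise_smul_iff_inv_smul_mem]
      exact hR (by
        have := (inferInstance : U.Normal).conj_mem y hy g⁻¹
        simpa [MulAut.smul_def, mul_assoc] using this)
    exact ⟨⟨u, huC'⟩, this (Subgroup.mem_zpowers _), rfl⟩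
  set E : Subgroup G := Subgroup.zpowers z ⊔ Q' with hE
  have hzC' : z ∈ C := (Subgroup.zpowers_le.2 (Subgroup.mem_centralizer_singleton_iff.2 rfl)) hz
  have hEC : E ≤ C := sup_le (Subgroup.zpowers_le.2 hzC') hQC
  have hnorm : Q' ≤ Subgroup.normalizer (Subgroup.zpowers z : Set G) := by
    intro y hy
    rw [Subgroup.mem_normalizer_iff]
    intro t
    constructor
    · intro ht
      obtain ⟨i, rfl⟩ := Subgroup.mem_zpowers_iff.1 ht
      rw [(Commute.zpow_right (hzC y (hQC hy)) i).eq, mul_inv_cancel_right]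
      exact Subgroup.zpow_mem_zpowers _ _
    · intro ht
      obtain ⟨i, hi⟩ := Subgroup.mem_zpowers_iff.1 ht
      have : t = y⁻¹ * z ^ i * y := by rw [hi]; group
      rw [this, mul_assoc, ← (Commute.zpow_right (hzC y (hQC hy)) i).eq, inv_mul_cancel_left]
      exact Subgroup.zpow_mem_zpowers _ _
  have hEN : E ≤ Subgroup.normalizer (Subgroup.zpowers z : Set G) := sup_le Subgroup.le_normalizer hnorm
  have hrel : (Subgroup.zpowers z).relIndex E ∣ q ^ b := by
    haveI : ((Subgroup.zpowers z).subgroupOf E).Normal := Subgroup.normal_subgroupOf_of_le_normalizer hEN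
    rw [← Subgroup.relIndex_subgroupOf (le_refl E),
      show E.subgroupOf E = (Subgroup.zpowers z).subgroupOf E ⊔ Q'.subgroupOf E from
        Subgroup.subgroupOf_sup le_sup_left le_sup_right, sup_comm, Subgroup.relIndex_sup_right,
      Subgroup.relIndex_subgroupOf le_sup_right, ← Subgroup.inf_relIndex_right, ← hQb]
    exact Subgroup.index_dvd_card _
  have hEel : IsElementary q E := by
    refine ⟨⟨z, le_sup_left (b := Q') (Subgroup.mem_zpowers z)⟩, ?_, ?_, ?_⟩
    · rw [Subgroup.mem_center_iff]; exact fun y => Subtype.ext (hzC y (hEC y.2))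
    · rw [Subgroup.orderOf_mk]; exact (hq.coprime_iff_not_dvd.2 hzq).symm
    · obtain ⟨i, _, hi⟩ := (Nat.dvd_prime_pow hq).1 hrel
      refine ⟨i, ?_⟩
      rw [← hi]
      show _ = ((Subgroup.zpowers z).subgroupOf E).index
      congr 1
      apply Subgroup.map_injective E.subtype_injective
      rw [MonoidHom.map_zpowers, Subgroup.subgroupOf_map_subtype, inf_eq_left.2 le_sup_left]
      rfl
  have hEn : Nat.card E ∣ Nat.card H := by
    have h1 : Nat.card E = orderOf z * (Subgroup.zpowers z).relIndex E := by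
      rw [← Nat.card_zpowers, ← Nat.card_congr (Subgroup.subgroupOfEquivOfLe (le_sup_left (b := Q') : Subgroup.zpowers z ≤ E)).toEquiv]
      exact (Subgroup.card_mul_index _).symm
    rw [h1]
    refine (mul_dvd_mul_left _ hrel).trans (Nat.Coprime.mul_dvd_of_dvd_of_dvd ?_ ?_ hbn)
    · exact ((hq.coprime_iff_not_dvd.2 hzq).symm).pow_right b
    · rw [← Subgroup.orderOf_mk z ((Subgroup.zpowers_le.2 h.2) hz : z ∈ H)]
      exact orderOf_dvd_natCard _
  obtain ⟨c, hc⟩ := hH.elem E q hq hEel hEn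
  have hhE : (h : G) ∈ E := huz ▸ E.mul_mem (le_sup_right (a := Subgroup.zpowers z) huQ)
    (le_sup_left (b := Q') (Subgroup.mem_zpowers z))
  obtain ⟨d, hd, hde⟩ := hH.fus (h : G) h.2 _ (hc ⟨_, hhE, rfl⟩) (isConj_iff.2 ⟨c, rfl⟩)
  have hde' : d * (h : G) * d⁻¹ = c * (h : G) * c⁻¹ := hde
  set e := d⁻¹ * c with he
  have heC : e * (h : G) * e⁻¹ = h := by
    rw [he]
    calc d⁻¹ * c * (h : G) * (d⁻¹ * c)⁻¹ = d⁻¹ * (c * (h : G) * c⁻¹) * d := by group
      _ = h := by rw [← hde']; group
  have hsub : Q'.map (MulAut.conj e).toMonoidHom ≤ C ⊓ H := by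
    rintro _ ⟨y, hy, rfl⟩
    refine ⟨?_, ?_⟩
    · refine Subgroup.mem_centralizer_singleton_iff.2 ?_
      show e * y * e⁻¹ * h = h * (e * y * e⁻¹)
      have hyh : y * (h : G) = h * y := Subgroup.mem_centralizer_singleton_iff.1 (hQC hy)
      calc e * y * e⁻¹ * h = e * y * e⁻¹ * (e * (h : G) * e⁻¹) := by rw [heC]
        _ = e * (y * h) * e⁻¹ := by group
        _ = e * (h * y) * e⁻¹ := by rw [hyh]
        _ = (e * (h : G) * e⁻¹) * (e * y * e⁻¹) := by group
        _ = h * (e * y * e⁻¹) := by rw [heC]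
    · have h1 : c * y * c⁻¹ ∈ H := hc ⟨y, le_sup_right (a := Subgroup.zpowers z) hy, rfl⟩
      show e * y * e⁻¹ ∈ H
      have h2 : e * y * e⁻¹ = d⁻¹ * (c * y * c⁻¹) * d := by rw [he]; group
      rw [h2]; exact H.mul_mem (H.mul_mem (H.inv_mem hd) h1) hd
  have hab : q ^ a ∣ q ^ b := by
    have h1 : q ^ a ∣ Nat.card (Q : Subgroup C) * (Q : Subgroup C).index := by
      rw [Subgroup.card_mul_index]; exact hqa.trans (Nat.gcd_dvd_left _ _)
    rw [← hb]
    exact ((hq.coprime_iff_not_dvd.2 Q.not_dvd_index).pow_left a).dvd_of_dvd_mul_right h1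
  refine hab.trans ?_
  rw [← hQb, Nat.card_congr (Q'.equivMapOfInjective (MulAut.conj e).toMonoidHom (MulAut.conj e).injective).toEquiv]
  exact Subgroup.card_dvd_of_le hsub

include hH in
/-- The averaging identity: the mean over `G` of an extended class function is its mean over `H`. -/
theorem sum_ext {F : H → ℂ} [Fintype H] (hF : IsClassFunction H F) :
    (Nat.card H : ℂ) * ∑ x : G, ext hH F x = (Nat.card G : ℂ) * ∑ h : H, F h := by
  classical
  set k := kExp hH with hk
  let V : Finset G := Finset.univ.filter fun v => orderOf v ∣ Nat.card H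
  let cent : G → ℕ := fun v => Nat.gcd (Nat.card (Subgroup.centralizer {v})) H.index
  let Fib : G → ℕ := fun v => (Finset.univ.filter fun x : G => x ^ k = v).card
  have hFibge : ∀ v ∈ V, cent v ≤ Fib v := by
    intro v hv
    have hv' : orderOf v ∣ Nat.card H := (Finset.mem_filter.1 hv).2
    set C := Subgroup.centralizer {v}
    have hCd : Nat.card C ∣ H.index * Nat.card H := by
      rw [mul_comm, H.card_mul_index]; exact Subgroup.card_subgroup_dvd_card C
    haveI : Fintype C := Fintype.ofFinite _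
    have hsplit : Nat.card C =
        Nat.gcd (Nat.card C) H.index * Nat.gcd (Nat.card C) (Nat.card H) := by
      rw [← Nat.Coprime.gcd_mul _ hH.hall.symm, Nat.gcd_eq_left hCd]
    have hdiv := Section.dvd_card_pow_eq_one (G := C) hsplit
      ((hH.hall.symm.coprime_dvd_left (Nat.gcd_dvd_right _ _)).coprime_dvd_right (Nat.gcd_dvd_right _ _))
    have hpos : 0 < Nat.card {u : C // u ^ Nat.gcd (Nat.card C) H.index = 1} :=
      Nat.card_pos_iff.2 ⟨⟨⟨1, one_pow _⟩⟩, inferInstance⟩
    refine (Nat.le_of_dvd hpos hdiv).trans ?_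
    rw [Nat.card_eq_fintype_card, ← Finset.card_univ]
    refine Finset.card_le_card_of_injOn (fun u => (u.1 : G) * v) ?_ ?_
    · intro u _
      simp only [Finset.coe_filter, Finset.mem_univ, true_and, Set.mem_setOf_eq]
      have hc : Commute (u.1 : G) v := Subgroup.mem_centralizer_singleton_iff.1 u.1.2
      rw [hc.mul_pow, pow_eq_self hH hv']
      have h1 : (u.1 : G) ^ Nat.gcd (Nat.card C) H.index = 1 := by
        rw [← Subgroup.coe_pow, u.2]; rfl
      rw [orderOf_dvd_iff_pow_eq_one.1 ((orderOf_dvd_of_pow_eq_one h1).trans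
        ((Nat.gcd_dvd_right _ _).trans (Nat.modEq_zero_iff_dvd.1 (kExp_zero hH)))), one_mul]
    · intro a _ b _ hab
      exact Subtype.ext (Subtype.ext (mul_right_cancel hab))
  have hpairs : ∀ Φ : G → ℂ, (∀ g c : G, Φ (c * g * c⁻¹) = Φ g) →
      (Nat.card G : ℂ) * ∑ h : H, Φ (h : G) =
        (Nat.card H : ℂ) * ∑ v ∈ V, (cent v : ℂ) * Φ v := by
    intro Φ hΦ
    have h1 : (Nat.card G : ℂ) * ∑ h : H, Φ (h : G) = ∑ t : G × H, Φ (t.1 * (t.2 : G) * t.1⁻¹) := by
      rw [Fintype.sum_prod_type]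
      simp only [hΦ, Finset.sum_const, Finset.card_univ, nsmul_eq_mul, Nat.card_eq_fintype_card]
    rw [h1, ← Finset.sum_fiberwise_of_maps_to (g := fun t : G × H => t.1 * (t.2 : G) * t.1⁻¹) (t := V),
      Finset.mul_sum]
    · refine Finset.sum_congr rfl fun v hv => ?_
      rw [Finset.sum_congr rfl (fun t ht => by rw [(Finset.mem_filter.1 ht).2] :
        ∀ t ∈ Finset.univ.filter (fun t : G × H => t.1 * (t.2 : G) * t.1⁻¹ = v),
          Φ (t.1 * (t.2 : G) * t.1⁻¹) = Φ v), Finset.sum_const, nsmul_eq_mul, ← mul_assoc]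
      congr 1
      norm_cast
      have hv' : orderOf v ∣ Nat.card H := (Finset.mem_filter.1 hv).2
      obtain ⟨c, hc⟩ := exists_conj hH v
      rw [pow_eq_self hH hv'] at hc
      set h0 : H := ⟨c * v * c⁻¹, hc⟩ with hh0
      -- pairs correspond to the product of the centralizer and H modulo the intersection
      set C := Subgroup.centralizer {(h0 : G)} with hC
      have hcard1 : (Finset.univ.filter fun t : G × H => t.1 * (t.2 : G) * t.1⁻¹ = v).card *
          Nat.card ↥(C ⊓ H) = Nat.card C * Nat.card H := by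
        let π : C × H → G × H := fun t => (c⁻¹ * (t.1 : G) * ((t.2 : G))⁻¹, t.2 * h0 * t.2⁻¹)
        have hmaps : Set.MapsTo π (↑(Finset.univ : Finset (C × H)))
            ↑(Finset.univ.filter fun t : G × H => t.1 * (t.2 : G) * t.1⁻¹ = v) := by
          intro t _
          simp only [Finset.coe_filter, Finset.mem_univ, true_and, Set.mem_setOf_eq, π]
          have hcc : (t.1 : G) * h0 = h0 * t.1 := Subgroup.mem_centralizer_singleton_iff.1 t.1.2
          calc c⁻¹ * (t.1 : G) * ((t.2 : G))⁻¹ * ((t.2 * h0 * t.2⁻¹ : H) : G)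
                * (c⁻¹ * (t.1 : G) * ((t.2 : G))⁻¹)⁻¹
              = c⁻¹ * ((t.1 : G) * (h0 : G)) * (t.1 : G)⁻¹ * c := by
                simp [Subgroup.coe_mul, mul_assoc]
            _ = c⁻¹ * (c * v * c⁻¹) * c := by rw [hcc]; simp [hh0, mul_assoc]
            _ = v := by group
        rw [show Nat.card C * Nat.card H = (Finset.univ : Finset (C × H)).card by
          rw [Finset.card_univ, Fintype.card_prod, Nat.card_eq_fintype_card, Nat.card_eq_fintype_card]]
        rw [Finset.card_eq_sum_card_fiberwise hmaps, Finset.sum_congr rfl, Finset.sum_const, smul_eq_mul]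
        intro t ht
        have ht' := (Finset.mem_filter.1 ht).2
        obtain ⟨a, ha, hae⟩ := hH.fus (h0 : G) h0.2 (t.2 : G) t.2.2 (isConj_iff.2 ⟨t.1⁻¹ * c⁻¹, by
          calc t.1⁻¹ * c⁻¹ * (h0 : G) * (t.1⁻¹ * c⁻¹)⁻¹ = t.1⁻¹ * v * t.1 := by simp [hh0, mul_assoc]
            _ = t.2 := by rw [← ht']; group⟩)
        rw [Nat.card_eq_fintype_card, ← Finset.card_univ]
        symm
        have hp : c * t.1 * a ∈ C := by
          rw [hC, Subgroup.mem_centralizer_singleton_iff]
          calc c * t.1 * a * (h0 : G) = c * t.1 * (a * (h0 : G) * a⁻¹) * a := by group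
            _ = c * (t.1 * t.2 * t.1⁻¹) * c⁻¹ * (c * t.1 * a) := by rw [hae]; group
            _ = (h0 : G) * (c * t.1 * a) := by rw [ht', hh0]
        refine Finset.card_bij' (fun z _ => ((⟨c * t.1 * a, hp⟩ * ⟨(z : G), z.2.1⟩ : C),
            (⟨a, ha⟩ * ⟨(z : G), z.2.2⟩ : H))) (fun s hs => ⟨a⁻¹ * (s.2 : G), ?_, ?_⟩) ?_ ?_ ?_ ?_
        · have h2 : (s.2 : G) * h0 * (s.2 : G)⁻¹ = a * (h0 : G) * a⁻¹ := by
            rw [hae]; exact congrArg (fun q : G × H => ((q.2 : H) : G)) (Finset.mem_filter.1 hs).2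
          refine Subgroup.mem_centralizer_singleton_iff.2 ?_
          calc a⁻¹ * (s.2 : G) * h0 = a⁻¹ * ((s.2 : G) * h0 * (s.2 : G)⁻¹) * s.2 := by group
            _ = (h0 : G) * (a⁻¹ * s.2) := by rw [h2]; group
        · exact H.mul_mem (H.inv_mem ha) s.2.2
        · intro z _
          simp only [Finset.mem_filter, Finset.mem_univ, true_and, π]
          have hz : (z : G) * h0 = h0 * z := Subgroup.mem_centralizer_singleton_iff.1 z.2.1
          refine Prod.ext ?_ (Subtype.ext ?_)
          · simp [mul_assoc]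
          · calc ((⟨a, ha⟩ * ⟨(z : G), z.2.2⟩ * h0 * (⟨a, ha⟩ * ⟨(z : G), z.2.2⟩)⁻¹ : H) : G)
                = a * ((z : G) * h0) * (z : G)⁻¹ * a⁻¹ := by simp [mul_assoc]
              _ = a * (h0 : G) * a⁻¹ := by rw [hz]; group
              _ = t.2 := hae
        · intros; simp
        · intro z _; apply Subtype.ext; simp
        · intro s hs
          have h3 : c⁻¹ * (s.1 : G) * (s.2 : G)⁻¹ = t.1 :=
            congrArg (fun q : G × H => q.1) (Finset.mem_filter.1 hs).2
          refine Prod.ext (Subtype.ext ?_) (Subtype.ext ?_)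
          · show c * t.1 * a * (a⁻¹ * (s.2 : G)) = (s.1 : G)
            rw [← h3]; group
          · show a * (a⁻¹ * (s.2 : G)) = (s.2 : G)
            group
      have hcv : Nat.card C = Nat.card (Subgroup.centralizer {v}) := by
        have he : C = (Subgroup.centralizer {v}).map (MulAut.conj c).toMonoidHom := by
          ext y
          rw [Subgroup.mem_map_equiv, hC, Subgroup.mem_centralizer_singleton_iff,
            Subgroup.mem_centralizer_singleton_iff, MulAut.conj_symm_apply]
          constructor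
          · intro h
            calc c⁻¹ * y * c * v = c⁻¹ * (y * (h0 : G)) * c := by simp [hh0, mul_assoc]
              _ = c⁻¹ * ((h0 : G) * y) * c := by rw [h]
              _ = v * (c⁻¹ * y * c) := by simp [hh0, mul_assoc]
          · intro h
            calc y * (h0 : G) = c * (c⁻¹ * y * c * v) * c⁻¹ := by simp [hh0, mul_assoc]
              _ = c * (v * (c⁻¹ * y * c)) * c⁻¹ := by rw [h]
              _ = (h0 : G) * y := by simp [hh0, mul_assoc]
        rw [he]
        exact (Nat.card_congr ((Subgroup.centralizer {v}).equivMapOfInjective _ (MulAut.conj c).injective).toEquiv).symm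
      have hn : Nat.card ↥(C ⊓ H) = Nat.gcd (Nat.card C) (Nat.card H) :=
        Nat.dvd_antisymm (Nat.dvd_gcd (Subgroup.card_dvd_of_le inf_le_left)
          (Subgroup.card_dvd_of_le inf_le_right)) (gcd_dvd_centralizer_card hH h0)
      have hsplit : Nat.card C =
          Nat.gcd (Nat.card C) H.index * Nat.gcd (Nat.card C) (Nat.card H) := by
        rw [← Nat.Coprime.gcd_mul _ hH.hall.symm, Nat.gcd_eq_left]
        rw [mul_comm, H.card_mul_index]; exact Subgroup.card_subgroup_dvd_card C
      apply Nat.eq_of_mul_eq_mul_right (Nat.card_pos (α := ↥(C ⊓ H)))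
      rw [hcard1]
      show Nat.card C * Nat.card H =
        Nat.card H * Nat.gcd (Nat.card (Subgroup.centralizer {v})) H.index * Nat.card ↥(C ⊓ H)
      rw [← hcv, hn, mul_assoc, ← hsplit, mul_comm]
    · intro t _
      simp only [V, Finset.mem_filter, Finset.mem_univ, true_and]
      rw [show t.1 * (t.2 : G) * t.1⁻¹ = MulAut.conj t.1 (t.2 : G) from rfl, MulEquiv.orderOf_eq,
        Subgroup.orderOf_coe]
      exact orderOf_dvd_natCard _
  have hV : ∀ x : G, x ^ k ∈ V := fun x =>
    Finset.mem_filter.2 ⟨Finset.mem_univ _, order_pow_dvd hH x⟩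
  have hsumFib : ∑ v ∈ V, Fib v = Nat.card G := by
    rw [Nat.card_eq_fintype_card, ← Finset.card_univ]
    exact (Finset.card_eq_sum_card_fiberwise fun x _ => hV x).symm
  have hsumcent : ∑ v ∈ V, cent v = Nat.card G := by
    have h2 := hpairs (fun _ => 1) (fun _ _ => rfl)
    simp only [Finset.sum_const, Finset.card_univ, nsmul_eq_mul, mul_one] at h2
    rw [← Nat.card_eq_fintype_card, mul_comm] at h2
    have hn0 : (Nat.card H : ℂ) ≠ 0 := by exact_mod_cast Nat.card_pos.ne'
    have h3 := (mul_left_cancel₀ hn0 h2).symm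
    exact_mod_cast h3
  have heq : ∀ v ∈ V, cent v = Fib v := by
    intro v hv
    refine le_antisymm (hFibge v hv) (not_lt.1 fun hlt => ?_)
    have := Finset.sum_lt_sum hFibge ⟨v, hv, hlt⟩
    omega
  have hext : ∀ x : G, ext hH F x = ext hH F (x ^ k) := by
    intro x
    symm
    apply ext_eq hH hF
    rw [pow_eq_self hH (order_pow_dvd hH x)]
    exact isConj_iff.2 ⟨(exists_conj hH x).choose, rfl⟩
  rw [show (∑ x : G, ext hH F x) = ∑ v ∈ V, (cent v : ℂ) * ext hH F v from ?_]
  · rw [← hpairs _ (fun g c => ext_classFun hH hF g c)]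
    congr 1
    exact Finset.sum_congr rfl fun h _ => ext_coe hH hF h
  · rw [← Finset.sum_fiberwise_of_maps_to (g := fun x : G => x ^ k) (t := V) (fun x _ => hV x)]
    refine Finset.sum_congr rfl fun v hv => ?_
    rw [Finset.sum_congr rfl (fun x hx => by rw [hext x, (Finset.mem_filter.1 hx).2] :
      ∀ x ∈ Finset.univ.filter (fun x : G => x ^ k = v), ext hH F x = ext hH F v),
      Finset.sum_const, nsmul_eq_mul, heq v hv]

include hH in
/-- An irreducible character of `H` extends to an irreducible character of `G`. -/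
theorem ext_isIrr {θ : H → ℂ} (hθ : IsIrrCharacter H θ) : IsIrrCharacter G (ext hH θ) := by
  haveI : Fintype H := Fintype.ofFinite _
  have hc := Characters.Basic.IsCharacter_of_isIrrCharacter hθ
  have hcl := Characters.Basic.isClassFunction_of_isCharacter hc
  refine Induced.Generalized.isIrrCharacter_of_norm_one (ext_isGen hH hc) ?_ ?_
  · have hn0 : (Nat.card H : ℂ) ≠ 0 := by exact_mod_cast Nat.card_pos.ne'
    have hG0 : (Nat.card G : ℂ) ≠ 0 := by exact_mod_cast Nat.card_pos.ne'
    have h1 := sum_ext hH (F := fun h => θ h * conj (θ h)) (fun g h => by simp only [hcl g h])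
    have h2 : (Nat.card H : ℂ)⁻¹ * ∑ h : H, θ h * conj (θ h) = 1 :=
      Characters.Basic.classInner_self_irr ⟨θ, hθ⟩
    show (Nat.card G : ℂ)⁻¹ * ∑ g : G, ext hH θ g * conj (ext hH θ g) = 1
    have h3 : (∑ g : G, ext hH θ g * conj (ext hH θ g))
        = ∑ g : G, ext hH (fun h => θ h * conj (θ h)) g := rfl
    rw [h3, inv_mul_eq_iff_eq_mul₀ hG0, mul_one]
    apply mul_left_cancel₀ hn0
    rw [h1, (inv_mul_eq_iff_eq_mul₀ hn0).1 h2, mul_one, mul_comm]
  · obtain ⟨d, hd, hd'⟩ := Characters.Basic.exists_degree_pos (⟨θ, hθ⟩ : IrrCharacter H)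
    have h1 : ext hH θ 1 = θ 1 := by simpa using ext_coe hH hcl (1 : H)
    rw [h1, show θ 1 = _ from hd', Complex.natCast_re]
    exact_mod_cast hd

include hH in
/-- Brauer–Suzuki: the normal complement. -/
theorem exists_complement : ∃ K : Subgroup G, K.Normal ∧ K ⊔ H = ⊤ ∧ K ⊓ H = ⊥ := by
  classical
  haveI : Fintype H := Fintype.ofFinite _
  choose d ρ hρi hρ using fun χ : IrrCharacter H => (ext_isIrr hH χ.2)
  let K : Subgroup G := ⨅ χ : IrrCharacter H, MonoidHom.ker (ρ χ)
  have hmem : ∀ x : G, x ∈ K ↔ x ^ kExp hH = 1 := by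
    intro x
    simp only [K, Subgroup.mem_iInf, MonoidHom.mem_ker]
    constructor
    · intro h
      have hv : rep hH x = 1 := by
        apply Characters.Complete.eq_one_of_forall_irr
        intro χ
        have h1 : ext hH (χ : H → ℂ) x = ext hH (χ : H → ℂ) 1 := by
          rw [← hρ χ, Representation.character, h χ, Representation.character, map_one (ρ χ)]
        have h2 : ext hH (χ : H → ℂ) 1 = (χ : H → ℂ) 1 := by
          simpa using ext_coe hH (Characters.Basic.isClassFunction_irr χ) (1 : H)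
        exact h1.trans h2
      have := congrArg Subtype.val hv
      have h3 : (exists_conj hH x).choose * x ^ kExp hH * (exists_conj hH x).choose⁻¹ = 1 := this
      exact conj_eq_one_iff.1 h3
    · intro h χ
      apply Induced.Integral.eq_id_of_character_eq
      have h1 : ext hH (χ : H → ℂ) x = (χ : H → ℂ) 1 :=
        ext_eq hH (Characters.Basic.isClassFunction_irr χ) (by rw [h]; exact IsConj.refl 1)
      have h2 : ext hH (χ : H → ℂ) 1 = (χ : H → ℂ) 1 := by
        simpa using ext_coe hH (Characters.Basic.isClassFunction_irr χ) (1 : H)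
      rw [hρ χ, h1, ← h2, ← hρ χ, Representation.char_one]
  have hKn : K.Normal := Subgroup.normal_iInf_normal fun χ => MonoidHom.normal_ker _
  refine ⟨K, hKn, ?_, ?_⟩
  · haveI := hKn
    apply Subgroup.index_eq_one.1
    have h1 : Nat.Coprime K.index H.index := by
      refine Nat.coprime_of_dvd' fun q hq hqK hqm => ?_
      exfalso
      haveI : Fact q.Prime := ⟨hq⟩
      rw [Subgroup.index_eq_card] at hqK
      obtain ⟨y, hy⟩ := exists_prime_orderOf_dvd_card' (G := G ⧸ K) q hqK
      obtain ⟨x, rfl⟩ := QuotientGroup.mk_surjective y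
      have h2 : (x : G ⧸ K) ^ Nat.card H = 1 := by
        rw [← QuotientGroup.mk_pow, QuotientGroup.eq_one_iff, hmem, ← pow_mul,
          ← orderOf_dvd_iff_pow_eq_one]
        refine (orderOf_dvd_natCard x).trans ?_
        rw [← H.card_mul_index]
        exact mul_dvd_mul_left _ (Nat.modEq_zero_iff_dvd.1 (kExp_zero hH))
      have h3 := orderOf_dvd_of_pow_eq_one h2
      rw [hy] at h3
      exact hq.ne_one (Nat.eq_one_of_dvd_coprimes hH.hall h3 hqm)
    exact Nat.eq_one_of_dvd_coprimes h1 (Subgroup.index_dvd_of_le le_sup_left)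
      (Subgroup.index_dvd_of_le le_sup_right)
  · rw [Subgroup.eq_bot_iff_forall]
    rintro x ⟨hxK, hxH⟩
    have h1 : x ^ kExp hH = 1 := (hmem x).1 hxK
    rw [pow_eq_self hH] at h1
    · exact h1
    · rw [← Subgroup.orderOf_mk x hxH]; exact orderOf_dvd_natCard _

end Cfsg.Agent.Lib.Brauer.HallExtension
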