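import Cfsg.Agent.Lib.Clifford.Extension

/-!
The finite central extension attached to an invariant irreducible representation of a normal
subgroup, and extension criteria (Sylow-wise, cyclic quotient).
-/

set_option autoImplicit false

namespace Cfsg.Agent.Lib.Brauer.ProjExt

open Cfsg.Agent.Lib.Clifford

universe u v

variable {G : Type u} [Group G] (N : Subgroup G) [hN : N.Normal]
  {V : Type v} [AddCommGroup V] [Module ℂ V] (ρ : Representation ℂ N V)

/-- Conjugation by an element of `G` on `N`. -/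
def cn (g : G) (n : N) : N := ⟨g * n * g⁻¹, hN.conj_mem (n : G) n.2 g⟩

theorem cn_mul (g h : G) (n : N) : cn N (g * h) n = cn N g (cn N h n) := by
  apply Subtype.ext
  simp [cn, mul_assoc]

theorem cn_one (n : N) : cn N 1 n = n := by
  apply Subtype.ext
  simp [cn]

/-- The finite group of normalised intertwiners. -/
noncomputable def Gam : Subgroup (G × (Module.End ℂ V)ˣ) where
  carrier := {x | (∀ n : N, (x.2 : Module.End ℂ V) * ρ n = ρ (cn N x.1 n) * (x.2 : Module.End ℂ V)) ∧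
    LinearMap.det (x.2 : Module.End ℂ V) ^ Nat.card G = 1}
  one_mem' := ⟨fun n => by simp [cn_one], by simp⟩
  mul_mem' := by
    rintro a b ⟨ha, ha'⟩ ⟨hb, hb'⟩
    refine ⟨fun n => ?_, ?_⟩
    · rw [Prod.fst_mul, Prod.snd_mul, Units.val_mul, mul_assoc, hb, ← mul_assoc, ha, cn_mul,
        mul_assoc]
    · rw [Prod.snd_mul, Units.val_mul, map_mul, mul_pow, ha', hb', one_mul]
  inv_mem' := by
    rintro a ⟨ha, ha'⟩
    refine ⟨fun n => ?_, ?_⟩
    · rw [Prod.fst_inv, Prod.snd_inv]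
      have h := ha (cn N a.1⁻¹ n)
      rw [← cn_mul, mul_inv_cancel, cn_one] at h
      rw [Units.inv_mul_eq_iff_eq_mul, ← mul_assoc, h, mul_assoc, Units.mul_inv, mul_one]
    · rw [Prod.snd_inv]
      have : LinearMap.det ((a.2⁻¹ : (Module.End ℂ V)ˣ) : Module.End ℂ V) *
          LinearMap.det (a.2 : Module.End ℂ V) = 1 := by
        rw [← map_mul, Units.inv_mul, map_one]
      calc LinearMap.det ((a.2⁻¹ : (Module.End ℂ V)ˣ) : Module.End ℂ V) ^ Nat.card G
          = (LinearMap.det ((a.2⁻¹ : (Module.End ℂ V)ˣ) : Module.End ℂ V) *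
              LinearMap.det (a.2 : Module.End ℂ V)) ^ Nat.card G := by
            rw [mul_pow, ha', mul_one]
        _ = 1 := by rw [this, one_pow]

/-- The projection to `G`. -/
noncomputable def proj : Gam N ρ →* G :=
  (MonoidHom.fst G (Module.End ℂ V)ˣ).comp (Gam N ρ).subtype

/-- The tautological representation. -/
noncomputable def taut : Representation ℂ (Gam N ρ) V :=
  (Units.coeHom (Module.End ℂ V)).comp ((MonoidHom.snd G (Module.End ℂ V)ˣ).comp (Gam N ρ).subtype)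

theorem taut_mul (γ : Gam N ρ) (n : N) :
    taut N ρ γ * ρ n = ρ (cn N (proj N ρ γ) n) * taut N ρ γ := γ.2.1 n

variable [FiniteDimensional ℂ V] [hρ : ρ.IsIrreducible]

include hρ in
/-- Scalars acting equally on a non-zero space are equal. -/
theorem scalar_inj {T : Module.End ℂ V} (hT : IsUnit T) {a b : ℂ} (h : a • T = b • T) : a = b := by
  have := Rep.nontrivial_of_irreducible ρ
  obtain ⟨u, rfl⟩ := hT
  have h1 := congrArg (· * ((u⁻¹ : (Module.End ℂ V)ˣ) : Module.End ℂ V)) h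
  simp only [smul_mul_assoc, Units.mul_inv] at h1
  have h2 := congrArg (LinearMap.trace ℂ V) h1
  rw [map_smul, map_smul, LinearMap.trace_one, smul_eq_mul, smul_eq_mul] at h2
  exact mul_right_cancel₀ (by exact_mod_cast (Module.finrank_pos (R := ℂ) (M := V)).ne') h2

omit [FiniteDimensional ℂ V] hρ in
theorem isUnit_rep (n : N) : IsUnit (ρ n) := (Group.isUnit n).map ρ

variable [Finite G]

/-- Two intertwiners for the same element differ by a scalar. -/
theorem exists_scalar {g : G} {S T : Module.End ℂ V} (hS : IsUnit S)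
    (h1 : ∀ n : N, S * ρ n = ρ (cn N g n) * S) (h2 : ∀ n : N, T * ρ n = ρ (cn N g n) * T) :
    ∃ c : ℂ, T = c • S := by
  obtain ⟨u, rfl⟩ := hS
  obtain ⟨c, hc⟩ := Rep.schur ρ (((u⁻¹ : (Module.End ℂ V)ˣ) : Module.End ℂ V) * T) (fun n => by
    have h1' : ρ n * ((u⁻¹ : (Module.End ℂ V)ˣ) : Module.End ℂ V) =
        ((u⁻¹ : (Module.End ℂ V)ˣ) : Module.End ℂ V) * ρ (cn N g n) := by
      rw [Units.mul_inv_eq_iff_eq_mul, mul_assoc, ← h1 n, Units.inv_mul_cancel_left]
    rw [mul_assoc, h2, ← mul_assoc, ← h1', mul_assoc])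
  refine ⟨c, ?_⟩
  have := congrArg ((u : Module.End ℂ V) * ·) hc
  simpa only [← mul_assoc, Units.mul_inv, one_mul, mul_smul_comm, mul_one] using this

variable (hinv : ∀ g : G, (Extension.conjRep N ρ g).character = ρ.character)

include hinv in
theorem proj_surjective : Function.Surjective (proj N ρ) := by
  intro g
  obtain ⟨A, hdet, hA⟩ := Extension.exists_intertwiner N ρ g 1 (hinv g)
  have hu : IsUnit A := LinearMap.isUnit_iff_isUnit_det A |>.2 (by rw [hdet]; exact isUnit_one)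
  exact ⟨⟨(g, hu.unit), fun n => hA n, by simp [hdet]⟩, rfl⟩

omit hρ in
theorem det_rep_pow (n : N) : LinearMap.det (ρ n) ^ Nat.card G = 1 := by
  obtain ⟨c, hc⟩ := N.card_subgroup_dvd_card
  rw [← map_pow, ← map_pow, hc, pow_mul, pow_card_eq_one', one_pow, map_one, map_one]

/-- `N` inside `Gam`. -/
noncomputable def emb : N →* Gam N ρ where
  toFun n := ⟨((n : G), (isUnit_rep N ρ n).unit), fun m => by
      show ρ n * ρ m = ρ (cn N n m) * ρ n
      rw [← map_mul, ← map_mul]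
      congr 1
      apply Subtype.ext
      simp [cn, mul_assoc],
    det_rep_pow N ρ n⟩
  map_one' := by
    apply Subtype.ext
    exact Prod.ext rfl (Units.ext (map_one ρ))
  map_mul' a b := by
    apply Subtype.ext
    exact Prod.ext rfl (Units.ext (map_mul ρ a b))

theorem finite_ker : Finite (proj N ρ).ker := by
  have := Rep.nontrivial_of_irreducible ρ
  set M := Module.finrank ℂ V * Nat.card G with hM
  have hM0 : 0 < M := Nat.mul_pos Module.finrank_pos Nat.card_pos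
  haveI : NeZero M := ⟨hM0.ne'⟩
  have hc : ∀ γ : (proj N ρ).ker, ∃ c : ℂ, taut N ρ γ.1 = c • 1 := fun γ =>
    exists_scalar N ρ (g := 1) isUnit_one (fun n => by simp [cn_one]) (fun n => by
      have h1 : proj N ρ γ.1 = 1 := γ.2
      have := taut_mul N ρ γ.1 n
      rwa [h1] at this)
  choose c hc using hc
  have hpow : ∀ γ, c γ ^ M = 1 := fun γ => by
    have h1 : LinearMap.det (taut N ρ γ.1) ^ Nat.card G = 1 := γ.1.2.2
    rw [hc γ, LinearMap.det_smul, map_one, mul_one, ← pow_mul] at h1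
    exact h1
  have hne : ∀ γ, c γ ≠ 0 := fun γ h0 => by
    have := hpow γ
    rw [h0, zero_pow hM0.ne'] at this
    exact zero_ne_one this
  let f : (proj N ρ).ker → rootsOfUnity M ℂ := fun γ => ⟨Units.mk0 (c γ) (hne γ), by
    rw [mem_rootsOfUnity, Units.ext_iff]; simpa using hpow γ⟩
  refine Finite.of_injective f fun a b hab => ?_
  have h2 : c a = c b := congrArg (fun z : rootsOfUnity M ℂ => ((z : ℂˣ) : ℂ)) hab
  apply Subtype.ext; apply Subtype.ext
  refine Prod.ext ?_ (Units.ext ?_)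
  · exact (a.2 : proj N ρ a.1 = 1).trans (b.2 : proj N ρ b.1 = 1).symm
  · show taut N ρ a.1 = taut N ρ b.1
    rw [hc a, hc b, h2]

theorem finite_Gam : Finite (Gam N ρ) := by
  haveI := finite_ker N ρ
  haveI : Finite (Gam N ρ ⧸ (proj N ρ).ker) :=
    Finite.of_injective _ (QuotientGroup.kerLift_injective (proj N ρ))
  refine Nat.finite_of_card_ne_zero ?_
  rw [Subgroup.card_eq_card_quotient_mul_card_subgroup (proj N ρ).ker]
  exact mul_ne_zero Nat.card_pos.ne' Nat.card_pos.ne'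

/-- The preimage of a subgroup. -/
noncomputable abbrev pre (H : Subgroup G) : Subgroup (Gam N ρ) := H.comap (proj N ρ)

/-- The homomorphism comparing the tautological representation with an extension of `ρ` to `H`. -/
theorem exists_scalarHom (H : Subgroup G) (hNH : N ≤ H) (σ : Representation ℂ H V)
    (hσ : ∀ n : N, σ ⟨(n : G), hNH n.2⟩ = ρ n) :
    ∃ lam : pre N ρ H →* ℂˣ, ∀ γ : pre N ρ H,
      taut N ρ γ.1 = (lam γ : ℂ) • σ ⟨proj N ρ γ.1, γ.2⟩ := by
  have := Rep.nontrivial_of_irreducible ρ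
  have hu : ∀ γ : pre N ρ H, IsUnit (σ ⟨proj N ρ γ.1, γ.2⟩) := fun γ => (Group.isUnit _).map σ
  have hint : ∀ (h : H) (n : N), σ h * ρ n = ρ (cn N h n) * σ h := by
    intro h n
    rw [← hσ, ← hσ, ← map_mul, ← map_mul]
    congr 1
    apply Subtype.ext
    simp [cn]
  have hc : ∀ γ : pre N ρ H, ∃ c : ℂ, taut N ρ γ.1 = c • σ ⟨proj N ρ γ.1, γ.2⟩ := fun γ =>
    exists_scalar N ρ (hu γ) (hint ⟨proj N ρ γ.1, γ.2⟩) (taut_mul N ρ γ.1)
  choose c hc using hc
  have h1 : c 1 = 1 := by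
    apply scalar_inj N ρ (hu 1)
    rw [← hc 1]
    have e : (⟨proj N ρ (1 : pre N ρ H).1, (1 : pre N ρ H).2⟩ : H) = 1 :=
      Subtype.ext (map_one (proj N ρ))
    rw [e, map_one, one_smul]
    exact map_one (taut N ρ)
  have hmul : ∀ a b, c (a * b) = c a * c b := by
    intro a b
    apply scalar_inj N ρ (hu (a * b))
    rw [← hc (a * b)]
    have e : (⟨proj N ρ (a * b).1, (a * b).2⟩ : H) = ⟨proj N ρ a.1, a.2⟩ * ⟨proj N ρ b.1, b.2⟩ :=
      Subtype.ext (map_mul (proj N ρ) a.1 b.1)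
    have e2 : taut N ρ (a * b).1 = taut N ρ a.1 * taut N ρ b.1 := map_mul (taut N ρ) a.1 b.1
    rw [e2, hc a, hc b, smul_mul_smul_comm, e, map_mul]
  let F : pre N ρ H →* ℂ := { toFun := c, map_one' := h1, map_mul' := hmul }
  exact ⟨F.toHomUnits, hc⟩

/-- The scalar character on the preimage of `N`. -/
noncomputable def lam0 : pre N ρ N →* ℂˣ :=
  (exists_scalarHom N ρ N le_rfl ρ (fun _ => rfl)).choose

theorem lam0_spec (γ : pre N ρ N) :
    taut N ρ γ.1 = (lam0 N ρ γ : ℂ) • ρ ⟨proj N ρ γ.1, γ.2⟩ :=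
  (exists_scalarHom N ρ N le_rfl ρ (fun _ => rfl)).choose_spec γ

theorem lam0_inv (γ : Gam N ρ) (δ : pre N ρ N)
    (hmem : γ * δ.1 * γ⁻¹ ∈ pre N ρ N) : lam0 N ρ ⟨γ * δ.1 * γ⁻¹, hmem⟩ = lam0 N ρ δ := by
  apply Units.ext
  apply scalar_inj N ρ (isUnit_rep N ρ ⟨proj N ρ (γ * δ.1 * γ⁻¹), hmem⟩)
  rw [← lam0_spec]
  have e : (⟨proj N ρ (γ * δ.1 * γ⁻¹), hmem⟩ : N) = cn N (proj N ρ γ) ⟨proj N ρ δ.1, δ.2⟩ :=
    Subtype.ext (by simp [cn])
  have h2 : taut N ρ γ * taut N ρ γ⁻¹ = 1 := by rw [← map_mul, mul_inv_cancel, map_one]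
  rw [map_mul, map_mul, lam0_spec N ρ δ, e, mul_smul_comm, taut_mul, smul_mul_assoc, mul_assoc, h2,
    mul_one]

include hinv in
/-- Extension of `ρ` from an extension of the scalar character. -/
theorem exists_extension_of_scalar (φ : Gam N ρ →* ℂˣ) (hφ : ∀ γ : pre N ρ N, φ γ.1 = lam0 N ρ γ) :
    ∃ σ : Representation ℂ G V, ∀ n : N, σ n = ρ n := by
  let R : Gam N ρ → Module.End ℂ V := fun γ => ((φ γ)⁻¹ : ℂˣ) • taut N ρ γ
  have hRm : ∀ a b, R (a * b) = R a * R b := by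
    intro a b
    simp only [R, map_mul, mul_inv_rev, smul_mul_smul_comm]
    rw [mul_comm (φ b)⁻¹]
  have hRN : ∀ γ : pre N ρ N, R γ.1 = ρ ⟨proj N ρ γ.1, γ.2⟩ := by
    intro γ
    simp only [R, hφ, lam0_spec, Units.smul_def, smul_smul]
    rw [← Units.val_mul, inv_mul_cancel, Units.val_one, one_smul]
  choose lift hlift using proj_surjective N ρ hinv
  have hwd : ∀ a b : Gam N ρ, proj N ρ a = proj N ρ b → R a = R b := by
    intro a b hab
    have hmem : b⁻¹ * a ∈ pre N ρ N := by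
      show proj N ρ (b⁻¹ * a) ∈ N
      rw [map_mul, map_inv, hab, inv_mul_cancel]
      exact N.one_mem
    calc R a = R (b * (b⁻¹ * a)) := by rw [mul_inv_cancel_left]
      _ = R b * R (b⁻¹ * a) := hRm _ _
      _ = R b := by
        rw [hRN ⟨_, hmem⟩]
        have hp1 : proj N ρ (b⁻¹ * a) = 1 := by rw [map_mul, map_inv, hab, inv_mul_cancel]
        have : (⟨proj N ρ (b⁻¹ * a), hmem⟩ : N) = 1 := Subtype.ext hp1
        rw [this, map_one, mul_one]
  refine ⟨{ toFun := fun g => R (lift g), map_one' := ?_, map_mul' := fun g h => ?_ }, fun n => ?_⟩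
  · rw [hwd _ 1 (by rw [hlift, map_one])]
    simp [R]
  · rw [← hRm]
    exact hwd _ _ (by rw [map_mul, hlift, hlift, hlift])
  · show R (lift (n : G)) = ρ n
    have hp : proj N ρ (emb N ρ n) = n := rfl
    rw [hwd _ (emb N ρ n) (by rw [hlift]; rfl)]
    exact hRN ⟨emb N ρ n, n.2⟩

include hinv in
/-- Extendibility is decided on Sylow subgroups of the quotient. -/
theorem exists_extension_of_sylow (hsyl : ∀ p : ℕ, p.Prime → ∃ (H : Subgroup G) (hNH : N ≤ H)
      (σ : Representation ℂ H V), Nat.Coprime H.index p ∧ ∀ n : N, σ ⟨(n : G), hNH n.2⟩ = ρ n) :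
    ∃ σ : Representation ℂ G V, ∀ n : N, σ n = ρ n := by
  haveI := finite_Gam N ρ
  obtain ⟨φ, hφ⟩ := Linear.exists_extension_of_sylow (pre N ρ N) (lam0 N ρ)
    (fun γ δ => lam0_inv N ρ γ δ _) (fun p hp _ => by
      obtain ⟨H, hNH, σ, hcop, hσ⟩ := hsyl p hp
      obtain ⟨ν, hν⟩ := exists_scalarHom N ρ H hNH σ hσ
      refine ⟨pre N ρ H, Subgroup.comap_mono hNH, ν, ?_, fun γ => ?_⟩
      · rwa [Subgroup.index_comap_of_surjective H (proj_surjective N ρ hinv)]
      · apply Units.ext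
        apply scalar_inj N ρ (isUnit_rep N ρ ⟨proj N ρ γ.1, γ.2⟩)
        rw [← lam0_spec, ← hσ]
        exact (hν ⟨γ.1, Subgroup.comap_mono hNH γ.2⟩).symm)
  exact exists_extension_of_scalar N ρ hinv φ hφ

include hinv in
/-- An invariant irreducible representation extends when the quotient is cyclic. -/
theorem exists_extension_of_cyclic [hcyc : IsCyclic (G ⧸ N)] :
    ∃ σ : Representation ℂ G V, ∀ n : N, σ n = ρ n := by
  haveI := finite_Gam N ρ
  set K : Subgroup (Gam N ρ) := (lam0 N ρ).ker.map (pre N ρ N).subtype with hK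
  haveI hKn : K.Normal := ⟨by
    rintro _ ⟨δ, hδ, rfl⟩ γ
    refine ⟨⟨γ * δ.1 * γ⁻¹, (inferInstance : (pre N ρ N).Normal).conj_mem δ.1 δ.2 γ⟩, ?_, rfl⟩
    show lam0 N ρ _ = 1
    rw [lam0_inv N ρ γ δ]
    exact hδ⟩
  set π := QuotientGroup.mk' K
  have hKle : K ≤ pre N ρ N := Subgroup.map_subtype_le _
  let f : Gam N ρ ⧸ K →* G ⧸ N := QuotientGroup.lift K ((QuotientGroup.mk' N).comp (proj N ρ))
    (fun x hx => (QuotientGroup.eq_one_iff _).2 (hKle hx))
  have hf : f.ker ≤ Subgroup.center (Gam N ρ ⧸ K) := by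
    intro q hq
    induction q using QuotientGroup.induction_on with
    | H δ =>
      have hδ : δ ∈ pre N ρ N := (QuotientGroup.eq_one_iff (proj N ρ δ)).1 hq
      rw [Subgroup.mem_center_iff]
      intro r
      induction r using QuotientGroup.induction_on with
      | H γ =>
        symm
        rw [← QuotientGroup.mk_mul, ← QuotientGroup.mk_mul, QuotientGroup.eq]
        have hmem : γ⁻¹ * δ⁻¹ * γ⁻¹⁻¹ ∈ pre N ρ N :=
          (inferInstance : (pre N ρ N).Normal).conj_mem _ ((pre N ρ N).inv_mem hδ) γ⁻¹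
        have hval := lam0_inv N ρ γ⁻¹ ⟨δ⁻¹, (pre N ρ N).inv_mem hδ⟩ hmem
        refine ⟨⟨(γ⁻¹ * δ⁻¹ * γ⁻¹⁻¹) * δ, (pre N ρ N).mul_mem hmem hδ⟩, ?_, ?_⟩
        · have hx : (⟨(γ⁻¹ * δ⁻¹ * γ⁻¹⁻¹) * δ, (pre N ρ N).mul_mem hmem hδ⟩ : pre N ρ N)
              = (⟨_, hmem⟩ : pre N ρ N) * (⟨δ⁻¹, (pre N ρ N).inv_mem hδ⟩ : pre N ρ N)⁻¹ :=
            Subtype.ext (by simp)
          rw [SetLike.mem_coe, MonoidHom.mem_ker, hx, map_mul, map_inv, hval, mul_inv_cancel]
        · show γ⁻¹ * δ⁻¹ * γ⁻¹⁻¹ * δ = (δ * γ)⁻¹ * (γ * δ)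
          group
  have hcomm : ∀ a b : Gam N ρ ⧸ K, a * b = b * a :=
    fun a b => (f.isMulCommutative_of_isCyclic_of_ker_le_center hf).is_comm.comm a b
  letI : CommGroup (Gam N ρ ⧸ K) := { (inferInstance : Group (Gam N ρ ⧸ K)) with mul_comm := hcomm }
  set A : Subgroup (Gam N ρ ⧸ K) := (pre N ρ N).map π
  let e : (pre N ρ N) →* A := π.subgroupMap (pre N ρ N)
  have he : Function.Surjective e := π.subgroupMap_surjective _
  have hker : e.ker ≤ (lam0 N ρ).ker := by
    intro x hx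
    have h1 : (x : Gam N ρ) ∈ K := by
      rw [← QuotientGroup.eq_one_iff]
      exact congrArg Subtype.val hx
    obtain ⟨y, hy, hyx⟩ := h1
    rwa [← Subtype.ext (hyx : (y : Gam N ρ) = x)]
  let lA : A →* ℂˣ := e.liftOfSurjective he ⟨lam0 N ρ, hker⟩
  haveI : NeZero (Monoid.exponent (Gam N ρ ⧸ K)) :=
    ⟨(Monoid.exponent_pos.2 Monoid.ExponentExists.of_finite).ne'⟩
  obtain ⟨ψ, hψ⟩ := MonoidHom.domRestrict_surjective (M := ℂ) A lA
  refine exists_extension_of_scalar N ρ hinv (ψ.comp π) (fun γ => ?_)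
  have h1 : ψ.comp A.subtype = lA := hψ
  show ψ ((e γ : A) : Gam N ρ ⧸ K) = lam0 N ρ γ
  rw [show ψ ((e γ : A) : Gam N ρ ⧸ K) = lA (e γ) from DFunLike.congr_fun h1 (e γ)]
  exact MonoidHom.liftOfRightInverse_comp_apply e _ _ ⟨lam0 N ρ, hker⟩ γ

omit hinv in
/-- A representation with a given restriction character can be moved to the space of `ρ`. -/
theorem exists_same_space {H : Subgroup G} (hNH : N ≤ H) {W : Type v} [AddCommGroup W] [Module ℂ W]
    [FiniteDimensional ℂ W] (τ : Representation ℂ H W)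
    (hτ : ∀ n : N, τ.character ⟨(n : G), hNH n.2⟩ = ρ.character n) :
    ∃ σ : Representation ℂ H V, ∀ n : N, σ ⟨(n : G), hNH n.2⟩ = ρ n := by
  obtain ⟨E, hE⟩ := Rep.exists_equiv_of_char ρ (τ.comp (Subgroup.inclusion hNH)) (funext hτ)
  refine ⟨{ toFun := fun g => E.symm.conj (τ g)
            map_one' := by rw [map_one, Module.End.one_eq_id, LinearEquiv.conj_id]; rfl
            map_mul' := fun g g' => by simp [LinearEquiv.conj_apply, Module.End.mul_eq_comp,
              LinearMap.comp_assoc] }, fun n => ?_⟩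
  show E.symm.conj (τ ⟨(n : G), hNH n.2⟩) = ρ n
  refine LinearMap.ext fun v => ?_
  have h1 := LinearMap.congr_fun (hE n) v
  simp only [LinearMap.comp_apply, LinearEquiv.coe_coe, MonoidHom.coe_comp, Function.comp_apply] at h1
  simp only [LinearEquiv.conj_apply, LinearMap.comp_apply, LinearEquiv.coe_coe, LinearEquiv.symm_symm]
  rw [LinearEquiv.symm_apply_eq]
  exact h1.symm

end Cfsg.Agent.Lib.Brauer.ProjExt
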