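import Cfsg.Agent.Lib.Clifford.Gallagher
import Cfsg.Agent.Lib.Clifford.Monomial
import Cfsg.Agent.Lib.Characters.Kernel

/-!
Small tools for characters: constituents along homomorphisms, restrictions to supplements of a
subgroup in the kernel, invariance of the inner product under surjections.
-/

set_option autoImplicit false

namespace Cfsg.Agent.Lib.Brauer.CharTools

open scoped ComplexConjugate
open Cfsg.Agent.Lib.Induced.Basic Cfsg.Agent.Lib.Characters.Basic Cfsg.Agent.Lib.Characters
open Cfsg.Agent.Lib.Clifford.Basic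

universe u v

variable {G : Type u} [Group G] [Fintype G]

/-- A character containing an irreducible character of at least its degree equals it. -/
theorem eq_of_degree_le {u : G → ℂ} (hu : Cfsg.IsCharacter G u) {a : G → ℂ}
    (ha : Cfsg.IsIrrCharacter G a) (h : Cfsg.classInner u a ≠ 0) {du da : ℕ} (h1 : u 1 = du)
    (h2 : a 1 = da) (hle : du ≤ da) : u = a := by
  obtain ⟨m, r, hr, hm, -, he⟩ := exists_eq_nsmul_add hu ⟨a, ha⟩
  obtain ⟨dr, hdr⟩ := exists_degree hr
  have hm0 : m ≠ 0 := fun h0 => h (by rw [hm, h0, Nat.cast_zero])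
  have e : (du : ℂ) = (m : ℂ) * da + dr := by
    rw [← h1, he]
    simp [h2, hdr]
  have e' : du = m * da + dr := by exact_mod_cast e
  have hda : da ≠ 0 := by
    intro h0
    exact degree_pos ha (by rw [h2, h0, Nat.cast_zero])
  have h3 : da ≤ m * da := Nat.le_mul_of_pos_left _ (Nat.pos_of_ne_zero hm0)
  have hm1 : m = 1 := by
    have h4 : m * da ≤ 1 * da := by omega
    have := Nat.le_of_mul_le_mul_right h4 (Nat.pos_of_ne_zero hda)
    omega
  have hr0 : r = 0 := eq_zero_of_apply_one_eq_zero hr (by rw [hdr]; norm_cast; omega)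
  rw [he, hm1, hr0, one_smul, add_zero]

/-- An irreducible constituent has at most the degree of the character. -/
theorem degree_le {u : G → ℂ} (hu : Cfsg.IsCharacter G u) {a : G → ℂ}
    (ha : Cfsg.IsIrrCharacter G a) (h : Cfsg.classInner u a ≠ 0) {du da : ℕ} (h1 : u 1 = du)
    (h2 : a 1 = da) : da ≤ du := by
  obtain ⟨m, r, hr, hm, -, he⟩ := exists_eq_nsmul_add hu ⟨a, ha⟩
  obtain ⟨dr, hdr⟩ := exists_degree hr
  have hm0 : m ≠ 0 := fun h0 => h (by rw [hm, h0, Nat.cast_zero])
  have e : (du : ℂ) = (m : ℂ) * da + dr := by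
    rw [← h1, he]
    simp [h2, hdr]
  have e' : du = m * da + dr := by exact_mod_cast e
  have h3 : da ≤ m * da := Nat.le_mul_of_pos_left _ (Nat.pos_of_ne_zero hm0)
  omega

/-- A common constituent, seen through a homomorphism. -/
theorem exists_comp {H : Type v} [Group H] [Fintype H] (f : H →* G) {u : G → ℂ}
    (hu : Cfsg.IsCharacter G u) {v : H → ℂ} (h : Cfsg.classInner (u ∘ f) v ≠ 0) :
    ∃ a : Cfsg.IrrCharacter G, Cfsg.classInner u a ≠ 0 ∧
      Cfsg.classInner ((a : G → ℂ) ∘ f) v ≠ 0 := by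
  classical
  haveI : Fintype (Cfsg.IrrCharacter G) := Fintype.ofFinite _
  by_contra hcon
  push Not at hcon
  apply h
  have e : u ∘ f = ∑ a : Cfsg.IrrCharacter G, Cfsg.classInner u a • ((a : G → ℂ) ∘ f) := by
    funext x
    conv_lhs => rw [Function.comp_apply, character_eq_finsum hu, finsum_eq_sum_of_fintype]
    simp [Finset.sum_apply]
  rw [e, classInner_sum_left, Finset.sum_eq_zero]
  intro a _
  rw [classInner_smul_left]
  by_cases ha : Cfsg.classInner u a = 0
  · rw [ha, zero_mul]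
  · rw [hcon a ha, mul_zero]

/-- A summand of a character that is trivial on an element is trivial on it. -/
theorem trivial_of_add {u w : G → ℂ} (hu : Cfsg.IsCharacter G u) (hw : Cfsg.IsCharacter G w)
    {g : G} (h : u g + w g = u 1 + w 1) : u g = u 1 := by
  obtain ⟨du, hdu⟩ := exists_degree hu
  obtain ⟨dw, hdw⟩ := exists_degree hw
  have h1 : ‖u g‖ ≤ (du : ℝ) := (norm_apply_le hu g).trans_eq (by rw [hdu, Complex.norm_natCast])
  have h2 : ‖w g‖ ≤ (dw : ℝ) := (norm_apply_le hw g).trans_eq (by rw [hdw, Complex.norm_natCast])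
  have h3 : (u g).re + (w g).re = (du : ℝ) + dw := by
    have := congrArg Complex.re h
    rw [hdu, hdw] at this
    simpa using this
  have h4 : (u g).re = (du : ℝ) := by
    linarith [Complex.re_le_norm (u g), Complex.re_le_norm (w g)]
  have h6 : ‖u g‖ = (du : ℝ) := le_antisymm h1 (h4 ▸ Complex.re_le_norm (u g))
  have h7 : (u g).im = 0 := by
    have := Complex.re_add_im (u g)
    have h8 : ‖u g‖ ^ 2 = (u g).re ^ 2 + (u g).im ^ 2 := by
      rw [Complex.sq_norm, Complex.normSq_apply]; ring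
    rw [h6, h4] at h8
    exact pow_eq_zero_iff two_ne_zero |>.1 (by linarith)
  rw [hdu]
  exact Complex.ext (by simpa using h4) (by simpa using h7)

/-- An irreducible constituent of a character trivial on an element is trivial on it. -/
theorem trivial_of_constituent {u : G → ℂ} (hu : Cfsg.IsCharacter G u) (a : Cfsg.IrrCharacter G)
    (ha : Cfsg.classInner u a ≠ 0) {g : G} (h : u g = u 1) : (a : G → ℂ) g = (a : G → ℂ) 1 := by
  obtain ⟨m, r, hr, hm, -, he⟩ := exists_eq_nsmul_add hu a
  obtain ⟨k, rfl⟩ := Nat.exists_eq_succ_of_ne_zero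
    (fun h0 : m = 0 => ha (by rw [hm, h0, Nat.cast_zero]))
  refine trivial_of_add (isCharacter_irr a)
    (w := k • (a : G → ℂ) + r) (isCharacter_add (isCharacter_nsmul (isCharacter_irr a) k) hr) ?_
  have e : u = (a : G → ℂ) + (k • (a : G → ℂ) + r) := by rw [he, succ_nsmul]; abel
  rw [e] at h
  exact h

/-- Two characters adding up to a multiple of an irreducible one are multiples of it. -/
theorem eq_smul_of_add {X Y : G → ℂ} (hX : Cfsg.IsCharacter G X) (hY : Cfsg.IsCharacter G Y)
    {φ : G → ℂ} (hφ : Cfsg.IsIrrCharacter G φ) {s : ℕ} (h : X + Y = (s : ℂ) • φ) :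
    ∃ m : ℕ, m ≤ s ∧ X = (m : ℂ) • φ := by
  obtain ⟨m, r, hr, hm, hr0, he⟩ := exists_eq_nsmul_add hX ⟨φ, hφ⟩
  obtain ⟨m', r', hr', hm', hr0', he'⟩ := exists_eq_nsmul_add hY ⟨φ, hφ⟩
  have hs : s = m + m' := by
    have := congrArg (fun f => Cfsg.classInner f φ) h
    simp only [classInner_add_left, hm, hm', classInner_smul_left,
      show Cfsg.classInner φ φ = 1 from classInner_self_irr ⟨φ, hφ⟩, mul_one] at this
    exact_mod_cast this.symm
  have hz : r + r' = 0 := by
    have h1 : (m • φ + r) + (m' • φ + r') = (s : ℂ) • φ := by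
      rw [← h, he, he']
    rw [hs, Nat.cast_smul_eq_nsmul, add_nsmul] at h1
    funext x
    have := congrFun h1 x
    simp only [Pi.add_apply, Pi.zero_apply] at this ⊢
    linear_combination this
  obtain ⟨d, hd⟩ := exists_degree hr
  obtain ⟨d', hd'⟩ := exists_degree hr'
  have hd0 : d + d' = 0 := by
    have := congrFun hz 1
    rw [Pi.add_apply, hd, hd', Pi.zero_apply] at this
    exact_mod_cast this
  refine ⟨m, by omega, ?_⟩
  rw [he, eq_zero_of_apply_one_eq_zero hr (by rw [hd]; norm_cast; omega), add_zero,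
    Nat.cast_smul_eq_nsmul]

/-- The conjugate of an induced function. -/
theorem conj_indFun (H : Subgroup G) (θ : H → ℂ) :
    (fun g => conj (Cfsg.indFun H θ g)) = Cfsg.indFun H (fun h => conj (θ h)) :=
  funext fun g => indFun_conj_fun H θ g

/-- Summing a function invariant on the right cosets of a subgroup along a factorisation. -/
theorem sum_factor (S A B : Subgroup G) [Fintype S] [Fintype B] (hA : A ≤ S) (hB : B ≤ S)
    (hfac : ∀ s ∈ S, ∃ a ∈ A, ∃ b ∈ B, s = a * b) (F : G → ℂ)
    (hF : ∀ a ∈ A, ∀ b ∈ B, F (a * b) = F b) :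
    (Nat.card (A ⊓ B : Subgroup G) : ℂ) * ∑ s : S, F s = (Nat.card A : ℂ) * ∑ b : B, F b := by
  classical
  haveI : Fintype A := Fintype.ofFinite _
  let f : A × B → S := fun x => ⟨x.1 * x.2, S.mul_mem (hA x.1.2) (hB x.2.2)⟩
  have hfib : ∀ s : S, (Finset.univ.filter fun x => f x = s).card
      = Nat.card (A ⊓ B : Subgroup G) := by
    intro s
    obtain ⟨a, ha, b, hb, hs⟩ := hfac s s.2
    rw [← Fintype.card_subtype, ← Nat.card_eq_fintype_card]
    refine Nat.card_congr
      { toFun := fun x => ⟨a⁻¹ * x.1.1, A.mul_mem (A.inv_mem ha) x.1.1.2, ?_⟩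
        invFun := fun c => ⟨(⟨a * c, A.mul_mem ha c.2.1⟩,
          ⟨(c : G)⁻¹ * b, B.mul_mem (B.inv_mem c.2.2) hb⟩), ?_⟩
        left_inv := ?_
        right_inv := ?_ }
    · have e : (x.1.1 : G) * x.1.2 = a * b := (congrArg Subtype.val x.2).trans hs
      have e2 : a⁻¹ * (x.1.1 : G) = b * (x.1.2 : G)⁻¹ := by
        rw [eq_mul_inv_iff_mul_eq, mul_assoc, e, inv_mul_cancel_left]
      rw [SetLike.mem_coe, e2]
      exact B.mul_mem hb (B.inv_mem x.1.2.2)
    · apply Subtype.ext
      show a * (c : G) * ((c : G)⁻¹ * b) = s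
      rw [mul_assoc, mul_inv_cancel_left, hs]
    · rintro ⟨⟨x, y⟩, hxy⟩
      have e : (x : G) * y = a * b := (congrArg Subtype.val hxy).trans hs
      refine Subtype.ext (Prod.ext (Subtype.ext ?_) (Subtype.ext ?_))
      · show a * (a⁻¹ * (x : G)) = x
        rw [mul_inv_cancel_left]
      · show (a⁻¹ * (x : G))⁻¹ * b = y
        rw [mul_inv_rev, inv_inv, mul_assoc, ← e, inv_mul_cancel_left]
    · intro c
      apply Subtype.ext
      show a⁻¹ * (a * (c : G)) = c
      rw [inv_mul_cancel_left]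
  have h1 : ∑ x : A × B, F (f x : G) = (Nat.card A : ℂ) * ∑ b : B, F b := by
    rw [Fintype.sum_prod_type, Nat.card_eq_fintype_card, ← nsmul_eq_mul, ← Finset.card_univ,
      ← Finset.sum_const]
    exact Finset.sum_congr rfl fun a _ => Finset.sum_congr rfl fun b _ => hF a a.2 b b.2
  rw [← h1, ← Finset.sum_fiberwise Finset.univ f, Finset.mul_sum]
  refine Finset.sum_congr rfl fun s _ => ?_
  rw [Finset.sum_congr rfl (fun x hx => by rw [(Finset.mem_filter.1 hx).2] :
    ∀ x ∈ Finset.univ.filter (fun x => f x = s), F (f x : G) = F s),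
    Finset.sum_const, nsmul_eq_mul, hfib]

/-- An irreducible character trivial on `D` restricts irreducibly to a supplement of `D`. -/
theorem isIrr_restrict_supplement (S A B : Subgroup G) [Fintype S] [Fintype B] (hA : A ≤ S)
    (hB : B ≤ S) (hfac : ∀ s ∈ S, ∃ a ∈ A, ∃ b ∈ B, s = a * b) {χ : S → ℂ}
    (hχ : Cfsg.IsIrrCharacter S χ) (htriv : ∀ a (ha : a ∈ A), χ ⟨a, hA ha⟩ = χ 1) :
    Cfsg.IsIrrCharacter B (fun b : B => χ ⟨b, hB b.2⟩) := by
  classical
  have hc := IsCharacter_of_isIrrCharacter hχ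
  refine isIrrCharacter_of_classInner_self (isCharacter_comp (Subgroup.inclusion hB) hc) ?_
  let F : G → ℂ := fun g => if h : g ∈ S then χ ⟨g, h⟩ * conj (χ ⟨g, h⟩) else 0
  have hcoe : ∀ s : S, F s = χ s * conj (χ s) := fun s => dif_pos s.2
  have hcoeB : ∀ b : B, F b = χ ⟨b, hB b.2⟩ * conj (χ ⟨b, hB b.2⟩) := fun b => dif_pos (hB b.2)
  have h := sum_factor S A B hA hB hfac F (fun a ha b hb => by
    have e : (⟨a * b, S.mul_mem (hA ha) (hB hb)⟩ : S) = ⟨a, hA ha⟩ * ⟨b, hB hb⟩ := rfl
    simp only [F, dif_pos (S.mul_mem (hA ha) (hB hb)), dif_pos (hB hb), e,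
      (Kernel.apply_mul_of_apply_eq_one hc (htriv a ha) _).1])
  have hone := sum_factor S A B hA hB hfac (fun _ => 1) (fun _ _ _ _ => rfl)
  simp only [Finset.sum_const, Finset.card_univ, nsmul_eq_mul, mul_one,
    Fintype.card_eq_nat_card] at hone
  simp only [hcoe, hcoeB] at h
  have hS : ∑ s : S, χ s * conj (χ s) = (Nat.card S : ℂ) := by
    have h2 := classInner_self_irr (⟨χ, hχ⟩ : Cfsg.IrrCharacter S)
    rw [Cfsg.classInner, inv_mul_eq_one₀ natCard_ne_zero] at h2
    exact h2.symm
  rw [hS, hone] at h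
  rw [Cfsg.classInner, inv_mul_eq_one₀ (subgroup_card_ne_zero B)]
  exact mul_left_cancel₀ (subgroup_card_ne_zero A) h

/-- Inner products are unchanged by inflation. -/
theorem classInner_comp_surj {H : Type v} [Group H] [Fintype H] (f : H →* G)
    (hf : Function.Surjective f) (u w : G → ℂ) :
    Cfsg.classInner (u ∘ f) (w ∘ f) = Cfsg.classInner u w := by
  classical
  have hfib : ∀ g : G, (Finset.univ.filter fun h => f h = g).card = Nat.card f.ker := by
    intro g
    obtain ⟨h0, rfl⟩ := hf g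
    rw [← Fintype.card_subtype, ← Nat.card_eq_fintype_card]
    refine Nat.card_congr ((Equiv.mulLeft h0⁻¹).subtypeEquiv fun h => ?_)
    show f h = f h0 ↔ h0⁻¹ * h ∈ f.ker
    rw [MonoidHom.mem_ker, map_mul, map_inv, inv_mul_eq_one, eq_comm]
  have hcard : Nat.card H = Nat.card f.ker * Nat.card G := by
    rw [← f.ker.card_mul_index, Subgroup.index_ker, MonoidHom.range_eq_top.2 hf, Subgroup.card_top]
  simp only [Cfsg.classInner, Function.comp_apply]
  rw [← Finset.sum_fiberwise Finset.univ f]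
  have : ∀ g ∈ (Finset.univ : Finset G), (∑ h ∈ Finset.univ.filter (fun h => f h = g),
      u (f h) * conj (w (f h))) = (Nat.card f.ker : ℂ) * (u g * conj (w g)) := by
    intro g _
    rw [Finset.sum_congr rfl (fun x hx => by rw [(Finset.mem_filter.1 hx).2] :
      ∀ x ∈ Finset.univ.filter (fun h => f h = g), u (f x) * conj (w (f x)) = u g * conj (w g)),
      Finset.sum_const, nsmul_eq_mul, hfib]
  rw [Finset.sum_congr rfl this, ← Finset.mul_sum, hcard, Nat.cast_mul, mul_inv, ← mul_assoc]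
  congr 1
  rw [mul_assoc, mul_comm ((Nat.card G : ℂ)⁻¹), ← mul_assoc,
    inv_mul_cancel₀ (Nat.cast_ne_zero.2 Nat.card_pos.ne'), one_mul]

end Cfsg.Agent.Lib.Brauer.CharTools
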