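import Cfsg.Agent.Lib.Brauer.ProjExt

/-!
Extension criteria at the level of `Cfsg` characters.
-/

set_option autoImplicit false

namespace Cfsg.Agent.Lib.Brauer.ExtensionChar

open Cfsg.Agent.Lib.Clifford

universe u

variable {G : Type u} [Group G] [Finite G] (N : Subgroup G) [hN : N.Normal]

/-- From an extension on the space of `ρ` to an irreducible character. -/
theorem char_of_extension {k : ℕ} (ρ : Representation ℂ N (Fin k → ℂ)) [ρ.IsIrreducible]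
    (h : ∃ σ : Representation ℂ G (Fin k → ℂ), ∀ n : N, σ n = ρ n) :
    ∃ χ : G → ℂ, Cfsg.IsIrrCharacter G χ ∧ ∀ n : N, χ n = ρ.character n := by
  obtain ⟨σ, hσ⟩ := h
  haveI := Extension.isIrreducible_of_restrict N ρ σ hσ
  refine ⟨σ.character, ⟨k, σ, this, rfl⟩, fun n => ?_⟩
  show LinearMap.trace ℂ _ (σ n) = LinearMap.trace ℂ _ (ρ n)
  rw [hσ]

/-- An invariant irreducible character extends over a cyclic quotient. -/
theorem exists_extension_cyclic [IsCyclic (G ⧸ N)] {ϑ : N → ℂ} (hϑ : Cfsg.IsIrrCharacter N ϑ)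
    (hinv : ∀ (g : G) (n : N), ϑ ⟨g * n * g⁻¹, hN.conj_mem (n : G) n.2 g⟩ = ϑ n) :
    ∃ χ : G → ℂ, Cfsg.IsIrrCharacter G χ ∧ ∀ n : N, χ n = ϑ n := by
  obtain ⟨k, ρ, hρ, rfl⟩ := hϑ
  exact char_of_extension N ρ
    (ProjExt.exists_extension_of_cyclic N ρ (fun g => funext fun n => hinv g n))

/-- An invariant irreducible character extends as soon as it extends over every Sylow subgroup
of the quotient. -/
theorem exists_extension_sylow {ϑ : N → ℂ} (hϑ : Cfsg.IsIrrCharacter N ϑ)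
    (hinv : ∀ (g : G) (n : N), ϑ ⟨g * n * g⁻¹, hN.conj_mem (n : G) n.2 g⟩ = ϑ n)
    (hsyl : ∀ p : ℕ, p.Prime → ∃ (P : Subgroup G) (hNP : N ≤ P) (η : P → ℂ),
      Nat.Coprime P.index p ∧ Cfsg.IsCharacter P η ∧ ∀ n : N, η ⟨(n : G), hNP n.2⟩ = ϑ n) :
    ∃ χ : G → ℂ, Cfsg.IsIrrCharacter G χ ∧ ∀ n : N, χ n = ϑ n := by
  obtain ⟨k, ρ, hρ, rfl⟩ := hϑ
  refine char_of_extension N ρ
    (ProjExt.exists_extension_of_sylow N ρ (fun g => funext fun n => hinv g n) fun p hp => ?_)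
  obtain ⟨P, hNP, η, hcop, ⟨m, τ, rfl⟩, hη⟩ := hsyl p hp
  obtain ⟨σ, hσ⟩ := ProjExt.exists_same_space N ρ hNP τ hη
  exact ⟨P, hNP, σ, hcop, hσ⟩

end Cfsg.Agent.Lib.Brauer.ExtensionChar
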