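import Cfsg.Agent.Lib.Brauer.Elementary
import Cfsg.Agent.Lib.Brauer.Monomial
import Cfsg.Agent.Lib.Brauer.ExtensionChar
import Cfsg.Agent.Lib.Characters.Linear
import Cfsg.Agent.Lib.Clifford.Basic

/-!
Dade's lemma: detection of an invariant character by an elementary subgroup, and the extension
criterion that follows from it.
-/

set_option autoImplicit false

namespace Cfsg.Agent.Lib.Brauer.Dade

open scoped ComplexConjugate
open Cfsg.Agent.Lib.Induced.Basic Cfsg.Agent.Lib.Characters.Basic Cfsg.Agent.Lib.Characters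
open Cfsg.Agent.Lib.Brauer

universe u v

/-- An invariant function has, modulo `p`, its sum carried by the fixed points. -/
theorem exists_fixed {P : Type u} [Group P] {α : Type v} [MulAction P α] [Fintype α] [Finite P]
    {p : ℕ} [Fact p.Prime] (hP : IsPGroup p P) (F : α → ℕ) (hF : ∀ (g : P) a, F (g • a) = F a)
    (h : ¬ p ∣ ∑ a, F a) : ∃ a, (∀ g : P, g • a = a) ∧ ¬ p ∣ F a := by
  classical
  by_contra hcon
  apply h
  rw [← Finset.sum_fiberwise_of_maps_to (t := Finset.univ.image F)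
    (fun a _ => Finset.mem_image_of_mem F (Finset.mem_univ a))]
  refine Finset.dvd_sum fun v _ => ?_
  rw [Finset.sum_congr rfl (fun a ha => (Finset.mem_filter.1 ha).2), Finset.sum_const, smul_eq_mul]
  by_cases hv : p ∣ v
  · exact hv.mul_left _
  refine Dvd.dvd.mul_right ?_ v
  letI : MulAction P {a : α // F a = v} :=
    { smul := fun g a => ⟨g • a.1, (hF g a.1).trans a.2⟩
      one_smul := fun a => Subtype.ext (one_smul P a.1)
      mul_smul := fun g g' a => Subtype.ext (mul_smul g g' a.1) }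
  have hmod := hP.card_modEq_card_fixedPoints {a : α // F a = v}
  haveI : IsEmpty (MulAction.fixedPoints P {a : α // F a = v}) := by
    refine ⟨fun a => hcon ⟨a.1.1, fun g => congrArg Subtype.val (a.2 g), ?_⟩⟩
    rw [a.1.2]; exact hv
  have h0 : Nat.card (MulAction.fixedPoints P {a : α // F a = v}) = 0 := Nat.card_of_isEmpty
  rw [h0, Nat.card_eq_fintype_card, Fintype.card_subtype] at hmod
  exact Nat.modEq_zero_iff_dvd.1 hmod

variable {G : Type u} [Group G]

/-- A finite abelian subgroup: linear characters extend along injective homomorphisms. -/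
theorem exists_extend {A : Type u} [Group A] [Finite A] {B : Type v} [Group B] [Finite B]
    (hB : ∀ x y : B, x * y = y * x) (ι : A →* B) (hι : Function.Injective ι) (l : A →* ℂˣ) :
    ∃ L : B →* ℂˣ, ∀ a, L (ι a) = l a := by
  letI : CommGroup B := { (inferInstance : Group B) with mul_comm := hB }
  haveI : NeZero (Monoid.exponent B) := ⟨(Monoid.exponent_pos.2 Monoid.ExponentExists.of_finite).ne'⟩
  obtain ⟨L, hL⟩ := MonoidHom.domRestrict_surjective ℂ ι.range
    (l.comp (MonoidHom.ofInjective hι).symm.toMonoidHom)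
  refine ⟨L, fun a => ?_⟩
  have h := DFunLike.congr_fun hL (MonoidHom.ofInjective hι a)
  refine h.trans ?_
  show l ((MonoidHom.ofInjective hι).symm (MonoidHom.ofInjective hι a)) = l a
  rw [MulEquiv.symm_apply_apply]

variable [Fintype G]

/-- Dade's lemma. -/
theorem detect (p : ℕ) [Fact p.Prime] (N : Subgroup G) [hN : N.Normal]
    (hind : ∃ k : ℕ, N.index = p ^ k) {ϑ : N → ℂ} (hϑ : Cfsg.IsIrrCharacter N ϑ)
    (hinv : ∀ (g : G) (n : N), ϑ ⟨g * n * g⁻¹, hN.conj_mem (n : G) n.2 g⟩ = ϑ n) :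
    ∃ E : Subgroup G, Cfsg.IsElementary p E ∧ E ⊔ N = ⊤ ∧
      ∃ (_ : Fintype ↥(E ⊓ N)) (φ : Cfsg.IrrCharacter ↥(E ⊓ N)),
        (∀ (g : G) (hg : g ∈ E) (x : ↥(E ⊓ N)), (φ : ↥(E ⊓ N) → ℂ)
          ⟨g * x * g⁻¹, ⟨(E.mul_mem (E.mul_mem hg x.2.1) (E.inv_mem hg)),
            hN.conj_mem (x : G) x.2.2 g⟩⟩ = (φ : ↥(E ⊓ N) → ℂ) x) ∧
        ∃ m : ℕ, ¬ p ∣ m ∧
          Cfsg.classInner (fun x : ↥(E ⊓ N) => ϑ ⟨(x : G), x.2.2⟩) φ = (m : ℂ) := by
  classical
  have hp : p.Prime := Fact.out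
  obtain ⟨k, hk⟩ := hind
  obtain ⟨m0, hm0, hmem⟩ := Elementary.brauer_local (G := G) p hp
  haveI : Fintype N := Fintype.ofFinite _
  let F : G → ℂ := fun g => if h : g ∈ N then ϑ ⟨g, h⟩ * conj (ϑ ⟨g, h⟩) else 0
  have hFconj : ∀ g x : G, F (x⁻¹ * g * x) = F g := by
    intro g x
    by_cases hg : g ∈ N
    · have hg' : x⁻¹ * g * x ∈ N := by simpa using hN.conj_mem g hg x⁻¹
      have e : ϑ ⟨x⁻¹ * g * x, hg'⟩ = ϑ ⟨g, hg⟩ := by
        rw [← hinv x⁻¹ ⟨g, hg⟩]
        congr 1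
        exact Subtype.ext (by simp)
      simp only [F, dif_pos hg, dif_pos hg', e]
    · have hg' : x⁻¹ * g * x ∉ N := fun h => hg (by simpa [mul_assoc] using hN.conj_mem _ h x)
      simp only [F, dif_neg hg, dif_neg hg']
  -- the functional
  let T : (G → ℂ) → ℂ := fun f => (Nat.card N : ℂ)⁻¹ * ∑ g : G, f g * F g
  have hTm : T (fun _ => (m0 : ℂ)) = (m0 : ℂ) := by
    have h1 := classInner_self_irr (⟨ϑ, hϑ⟩ : Cfsg.IrrCharacter N)
    rw [Cfsg.classInner] at h1
    simp only [T, ← Finset.mul_sum]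
    rw [mul_left_comm]
    have h2 : ∑ g : G, F g = ∑ n : N, ϑ n * conj (ϑ n) := by
      symm
      refine Finset.sum_of_injOn (fun n : N => (n : G)) Subtype.val_injective.injOn
        (fun _ _ => Finset.mem_univ _) (fun g _ hg => ?_) (fun n _ => ?_)
      · exact dif_neg fun h => hg ⟨⟨g, h⟩, Finset.mem_univ _, rfl⟩
      · simp only [F, dif_pos n.2]
    rw [h2, h1, mul_one]
  -- the contribution of one monomial function
  have hT : ∀ (E : Subgroup G) (l : E →* ℂ) [Fintype ↥(E ⊓ N)],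
      T (Cfsg.indFun E l) = ((E ⊔ N).index : ℂ) * Cfsg.classInner
        (fun x : ↥(E ⊓ N) => l ⟨(x : G), x.2.1⟩ * ϑ ⟨(x : G), x.2.2⟩)
        (fun x : ↥(E ⊓ N) => ϑ ⟨(x : G), x.2.2⟩) := by
    intro E l _
    have h1 : ∀ x : G, ∑ g : G, Cfsg.extendByZero E l (x⁻¹ * g * x) * F g =
        ∑ y : ↥(E ⊓ N), l ⟨(y : G), y.2.1⟩ * ϑ ⟨(y : G), y.2.2⟩ * conj (ϑ ⟨(y : G), y.2.2⟩) := by
      intro x
      rw [Fintype.sum_equiv (MulAut.conj x⁻¹).toEquiv
        (fun g => Cfsg.extendByZero E l (x⁻¹ * g * x) * F g)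
        (fun g => Cfsg.extendByZero E l g * F g) (fun g => by simp [hFconj])]
      symm
      refine Finset.sum_of_injOn (fun y : ↥(E ⊓ N) => (y : G)) Subtype.val_injective.injOn
        (fun _ _ => Finset.mem_univ _) (fun g _ hg => ?_) (fun y _ => ?_)
      · by_cases hgE : g ∈ E
        · have hgN : g ∉ N := fun h => hg ⟨⟨g, hgE, h⟩, Finset.mem_univ _, rfl⟩
          simp only [F, dif_neg hgN, mul_zero]
        · rw [extendByZero_of_not_mem E l hgE, zero_mul]
      · rw [extendByZero_of_mem E l y.2.1, mul_assoc]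
        congr 1
        simp only [F]
        rw [dif_pos (show (y : G) ∈ N from y.2.2)]
    have h2 : ∑ g : G, Cfsg.indFun E l g * F g =
        (Nat.card E : ℂ)⁻¹ * ∑ x : G, ∑ g : G, Cfsg.extendByZero E l (x⁻¹ * g * x) * F g := by
      rw [Finset.sum_comm, Finset.mul_sum]
      refine Finset.sum_congr rfl fun g _ => ?_
      rw [← Finset.sum_mul, ← mul_assoc]
      rfl
    simp only [T]
    rw [h2, Finset.sum_congr rfl fun x _ => h1 x, Finset.sum_const, Finset.card_univ,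
      nsmul_eq_mul, Fintype.card_eq_nat_card, Cfsg.classInner]
    simp only [mul_assoc]
    rw [← mul_assoc ((Nat.card E : ℂ)⁻¹), ← mul_assoc ((Nat.card N : ℂ)⁻¹),
      ← mul_assoc ((E ⊔ N).index : ℂ)]
    congr 1
    have h3 : Nat.card E = Nat.card ↥(E ⊓ N) * N.relIndex E := by
      rw [← (N.subgroupOf E).card_mul_index]
      congr 1
      exact Nat.card_congr
        { toFun := fun y => ⟨y.1.1, y.1.2, y.2⟩
          invFun := fun y => ⟨⟨y.1, y.2.1⟩, y.2.2⟩
          left_inv := fun _ => rfl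
          right_inv := fun _ => rfl }
    have h4 : Nat.card G = Nat.card N * (N.relIndex E * (E ⊔ N).index) := by
      rw [← Subgroup.relIndex_sup_right, Subgroup.relIndex_mul_index le_sup_right, N.card_mul_index]
    have hne : (N.relIndex E : ℂ) ≠ 0 := Nat.cast_ne_zero.2 fun h0 => by
      rw [h0, mul_zero] at h3
      exact Nat.card_pos.ne' h3
    rw [h3, h4]
    push_cast
    have := subgroup_card_ne_zero N
    have := subgroup_card_ne_zero (E ⊓ N)
    field_simp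
  -- some elementary subgroup survives modulo `p`
  obtain ⟨E, hE, hEN, l, u, hu, hup⟩ : ∃ E : Subgroup G, Cfsg.IsElementary p E ∧ E ⊔ N = ⊤ ∧
      ∃ (l : E →* ℂ) (u : ℕ), Cfsg.classInner
        (fun x : ↥(E ⊓ N) => l ⟨(x : G), x.2.1⟩ * ϑ ⟨(x : G), x.2.2⟩)
        (fun x : ↥(E ⊓ N) => ϑ ⟨(x : G), x.2.2⟩) = (u : ℂ) ∧ ¬ p ∣ u := by
    by_contra hcon
    apply hm0
    suffices h : ∀ f ∈ Submodule.span ℤ
        (Elementary.monoSet (fun H : Subgroup G => Cfsg.IsElementary p H)),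
        ∃ z : ℤ, T f = ((p : ℤ) * z : ℤ) by
      obtain ⟨z, hz⟩ := h _ hmem
      rw [hTm] at hz
      exact ⟨z, by exact_mod_cast hz⟩
    intro f hf
    induction hf using Submodule.span_induction with
    | zero => exact ⟨0, by simp [T]⟩
    | add a b _ _ iha ihb =>
      obtain ⟨z, hz⟩ := iha
      obtain ⟨z', hz'⟩ := ihb
      refine ⟨z + z', ?_⟩
      rw [mul_add, Int.cast_add, ← hz, ← hz']
      simp only [T, Pi.add_apply, add_mul, Finset.sum_add_distrib, mul_add]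
    | smul c a _ iha =>
      obtain ⟨z, hz⟩ := iha
      refine ⟨c * z, ?_⟩
      rw [show ((p : ℤ) * (c * z) : ℤ) = c * ((p : ℤ) * z) by ring, Int.cast_mul, ← hz]
      simp only [T, zsmul_eq_mul, Pi.mul_apply, Pi.intCast_apply, mul_assoc, ← Finset.mul_sum]
      ring
    | mem a ha =>
      obtain ⟨E, hE, l, rfl⟩ := ha
      have hl1 : l 1 = 1 := map_one l
      have hlc : Cfsg.IsCharacter E (l : E → ℂ) := by
        have := Induced.Character.isCharacter_hom (l.toHomUnits)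
        exact this
      obtain ⟨u, hu⟩ := exists_classInner_nat
        (isCharacter_mul (isCharacter_comp (Subgroup.inclusion (inf_le_left : E ⊓ N ≤ E)) hlc)
          (isCharacter_comp (Subgroup.inclusion (inf_le_right : E ⊓ N ≤ N))
            (IsCharacter_of_isIrrCharacter hϑ)))
        (isCharacter_comp (Subgroup.inclusion (inf_le_right : E ⊓ N ≤ N))
            (IsCharacter_of_isIrrCharacter hϑ))
      rw [hT E l]
      by_cases htop : E ⊔ N = ⊤
      · obtain ⟨u', rfl⟩ : p ∣ u := not_not.1 fun h => hcon ⟨E, hE, htop, l, u, hu, h⟩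
        refine ⟨u', ?_⟩
        rw [htop, Subgroup.index_top, Nat.cast_one, one_mul]
        refine hu.trans ?_
        push_cast
        ring
      · obtain ⟨j, -, hj⟩ := (Nat.dvd_prime_pow hp).1
          (hk ▸ Subgroup.index_dvd_of_le (le_sup_right : N ≤ E ⊔ N))
        obtain ⟨j', rfl⟩ := Nat.exists_eq_succ_of_ne_zero
          (fun h0 : j = 0 => htop (Subgroup.index_eq_one.1 (by rw [hj, h0, pow_zero])))
        refine ⟨(p ^ j' * u : ℕ), ?_⟩
        rw [hj]
        refine (congrArg _ hu).trans ?_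
        rw [pow_succ']
        push_cast
        ring
  -- a fixed constituent
  set D := E ⊓ N with hD
  let a : D → ℂ := fun x => ϑ ⟨(x : G), x.2.2⟩
  let b : D → ℂ := fun x => l ⟨(x : G), x.2.1⟩ * ϑ ⟨(x : G), x.2.2⟩
  have hac : Cfsg.IsCharacter D a := isCharacter_comp (Subgroup.inclusion inf_le_right)
    (IsCharacter_of_isIrrCharacter hϑ)
  have hbc : Cfsg.IsCharacter D b := isCharacter_mul
    (isCharacter_comp (Subgroup.inclusion (inf_le_left : E ⊓ N ≤ E))
      (show Cfsg.IsCharacter E (l : E → ℂ) from Induced.Character.isCharacter_hom l.toHomUnits)) hac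
  choose na hna using fun φ : Cfsg.IrrCharacter D => exists_classInner_nat hac (isCharacter_irr φ)
  choose nb hnb using fun φ : Cfsg.IrrCharacter D => exists_classInner_nat hbc (isCharacter_irr φ)
  haveI : Fintype (Cfsg.IrrCharacter D) := Fintype.ofFinite _
  have hsum : u = ∑ φ : Cfsg.IrrCharacter D, nb φ * na φ := by
    have h1 : Cfsg.classInner b a = (u : ℂ) := hu
    conv_lhs at h1 => rw [character_eq_finsum hbc, finsum_eq_sum_of_fintype, classInner_sum_left]
    simp only [classInner_smul_left, hnb] at h1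
    have h2 : ∀ φ : Cfsg.IrrCharacter D, Cfsg.classInner (φ : D → ℂ) a = (na φ : ℂ) := fun φ => by
      rw [← classInner_conj_symm, hna, map_natCast]
    simp only [h2] at h1
    exact_mod_cast h1.symm
  have hDn : ∀ g ∈ E, ∀ x : D, g * (x : G) * g⁻¹ ∈ D := fun g hg x =>
    ⟨E.mul_mem (E.mul_mem hg x.2.1) (E.inv_mem hg), hN.conj_mem (x : G) x.2.2 g⟩
  let cg : E → D →* D := fun g =>
    { toFun := fun x => ⟨(g : G)⁻¹ * x * g,
        by simpa using hDn _ (E.inv_mem g.2) x⟩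
      map_one' := Subtype.ext (by simp)
      map_mul' := fun x y => Subtype.ext (by simp [mul_assoc]) }
  have hcgmul : ∀ g h x, cg (g * h) x = cg h (cg g x) := fun g h x =>
    Subtype.ext (by simp [cg, mul_assoc])
  have hcgsurj : ∀ g, Function.Surjective (cg g) := fun g x =>
    ⟨cg g⁻¹ x, by rw [← hcgmul, inv_mul_cancel]; exact Subtype.ext (by simp [cg])⟩
  letI : MulAction E (Cfsg.IrrCharacter D) :=
    { smul := fun g φ => ⟨(φ : D → ℂ) ∘ cg g, isIrrCharacter_comp (cg g) (hcgsurj g) φ.2⟩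
      one_smul := fun φ => Subtype.ext (funext fun x =>
        congrArg (φ : D → ℂ) (Subtype.ext (by simp [cg])))
      mul_smul := fun g h φ => Subtype.ext (funext fun x => congrArg (φ : D → ℂ) (hcgmul g h x)) }
  have hsmul : ∀ (g : E) (φ : Cfsg.IrrCharacter D), ((g • φ : Cfsg.IrrCharacter D) : D → ℂ)
      = (φ : D → ℂ) ∘ cg g := fun g φ => rfl
  have hinvf : ∀ (c : D → ℂ), (∀ g x, c (cg g x) = c x) → ∀ (g : E) (φ : Cfsg.IrrCharacter D),
      Cfsg.classInner c (g • φ : Cfsg.IrrCharacter D) = Cfsg.classInner c φ := by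
    intro c hc g φ
    simp only [Cfsg.classInner, hsmul, Function.comp_apply]
    congr 1
    refine Fintype.sum_bijective (cg g)
      ⟨(Finite.injective_iff_surjective).2 (hcgsurj g), hcgsurj g⟩ _ _ fun x => ?_
    rw [hc]
  have hainv : ∀ g x, a (cg g x) = a x := fun g x => by
    show ϑ ⟨(g : G)⁻¹ * x * g, _⟩ = ϑ ⟨(x : G), _⟩
    rw [← hinv (g : G)⁻¹ ⟨(x : G), x.2.2⟩]
    congr 1
    exact Subtype.ext (by simp)
  have hbinv : ∀ g x, b (cg g x) = b x := fun g x => by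
    show l ⟨(g : G)⁻¹ * x * g, _⟩ * a (cg g x) = l ⟨(x : G), _⟩ * a x
    rw [hainv]
    congr 1
    have e : (⟨(g : G)⁻¹ * x * g, (cg g x).2.1⟩ : E) = g⁻¹ * ⟨(x : G), x.2.1⟩ * g := rfl
    rw [e, map_mul, map_mul, mul_comm (l g⁻¹), mul_assoc, ← map_mul, inv_mul_cancel, map_one, mul_one]
  set P : Sylow p E := default
  obtain ⟨φ, hfix, hφ⟩ := exists_fixed P.isPGroup' (fun φ => nb φ * na φ) (fun g φ => by
    have e1 : nb (g • φ) = nb φ := by
      exact_mod_cast ((hnb _).symm.trans (hinvf b hbinv (g : E) φ)).trans (hnb φ)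
    have e2 : na (g • φ) = na φ := by
      exact_mod_cast ((hna _).symm.trans (hinvf a hainv (g : E) φ)).trans (hna φ)
    rw [e1, e2]) (hsum ▸ hup)
  refine ⟨E, hE, hEN, inferInstance, φ, ?_, na φ, fun h => hφ (h.mul_left _), hna φ⟩
  -- the stabilizer contains the Sylow subgroup and `D`
  have hall : ∀ g : E, g • φ = φ := by
    have hDst : N.subgroupOf E ≤ MulAction.stabilizer E φ := by
      intro g hg
      refine Subtype.ext (funext fun x => ?_)
      rw [hsmul, Function.comp_apply]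
      have e : cg g x = (⟨(g : G), g.2, hg⟩ : D)⁻¹ * x * ⟨(g : G), g.2, hg⟩ := rfl
      have := isClassFunction_irr φ x (⟨(g : G), g.2, hg⟩ : D)⁻¹
      rw [inv_inv] at this
      rw [e]
      exact this
    have hPst : (P : Subgroup E) ≤ MulAction.stabilizer E φ := fun g hg => hfix ⟨g, hg⟩
    have hjoin : N.subgroupOf E ⊔ (P : Subgroup E) = ⊤ := by
      rw [← Subgroup.index_eq_one]
      refine Nat.eq_one_of_dvd_coprimes (a := (N.subgroupOf E).index) (b := (P : Subgroup E).index) ?_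
        (Subgroup.index_dvd_of_le le_sup_left) (Subgroup.index_dvd_of_le (le_sup_right))
      have h1 : N.relIndex E = p ^ k := by
        rw [← Subgroup.relIndex_sup_right, hEN, Subgroup.relIndex_top_right, hk]
      show Nat.Coprime (N.relIndex E) (P : Subgroup E).index
      rw [h1]
      exact Nat.Coprime.pow_left _ ((hp.coprime_iff_not_dvd).2 P.not_dvd_index)
    intro g
    have : g ∈ MulAction.stabilizer E φ := (sup_le hDst hPst) (hjoin ▸ Subgroup.mem_top g)
    exact this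
  intro g hg x
  have := congrArg (fun χ : Cfsg.IrrCharacter D => (χ : D → ℂ) x) (hall ⟨g⁻¹, E.inv_mem hg⟩)
  exact (congrArg (φ : D → ℂ)
    (show _ = cg ⟨g⁻¹, E.inv_mem hg⟩ x from Subtype.ext (by simp [cg]))).trans this

/-- A scalar on the range of an idempotent and `1` on its kernel: the determinant. -/
theorem det_scalar_idem {V : Type v} [AddCommGroup V] [Module ℂ V] [FiniteDimensional ℂ V]
    {e : Module.End ℂ V} (he : e * e = e) {m : ℕ} (hm : LinearMap.trace ℂ V e = (m : ℂ)) (c : ℂ) :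
    LinearMap.det (c • e + (1 - e)) = c ^ m := by
  have hproj : LinearMap.IsProj (LinearMap.range e) e :=
    ⟨fun x => ⟨x, rfl⟩, fun _ ⟨y, hy⟩ => by
      rw [← hy]; exact congrArg (fun T : Module.End ℂ V => T y) he⟩
  have hm' : Module.finrank ℂ (LinearMap.range e) = m := by
    rw [hproj.trace] at hm
    exact_mod_cast hm
  have hconj := hproj.eq_conj_prodMap
  set q := Submodule.prodEquivOfIsCompl _ _ hproj.isCompl with hq
  have key : c • e + (1 - e) =
      q.toLinearMap ∘ₗ ((c • LinearMap.id).prodMap LinearMap.id) ∘ₗ q.symm.toLinearMap := by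
    refine LinearMap.ext fun v => ?_
    obtain ⟨⟨x, y⟩, rfl⟩ := q.surjective v
    have hev : e (q (x, y)) = x := by
      rw [hq, Submodule.coe_prodEquivOfIsCompl', map_add, hproj.map_id _ x.2,
        LinearMap.mem_ker.1 y.2, add_zero]
    simp only [LinearMap.add_apply, LinearMap.smul_apply, LinearMap.sub_apply, Module.End.one_apply,
      hev, LinearMap.comp_apply, LinearEquiv.coe_coe, LinearEquiv.symm_apply_apply,
      LinearMap.prodMap_apply, LinearMap.id_apply]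
    rw [hq, Submodule.coe_prodEquivOfIsCompl', Submodule.coe_prodEquivOfIsCompl', Submodule.coe_smul]
    abel
  rw [key, LinearMap.det_conj, LinearMap.det_prodMap, LinearMap.det_smul, LinearMap.det_id,
    LinearMap.det_id, hm', mul_one, mul_one]

/-- Extension criterion: a central intersection with an elementary subgroup on which linear
characters extend. -/
theorem exists_extension_of_detect (p : ℕ) [hp : Fact p.Prime] (N : Subgroup G) [hN : N.Normal]
    (hind : ∃ k : ℕ, N.index = p ^ k) {d : ℕ} (ρ : Representation ℂ N (Fin d → ℂ)) [ρ.IsIrreducible]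
    (hinv : ∀ (g : G), (Clifford.Extension.conjRep N ρ g).character = ρ.character)
    (E : Subgroup G) (hEN : E ⊔ N = ⊤) [Fintype ↥(E ⊓ N)] (φ : ↥(E ⊓ N) →* ℂˣ) (η : E →* ℂˣ)
    (hη : ∀ x : ↥(E ⊓ N), η ⟨(x : G), x.2.1⟩ = φ x) (m : ℕ) (hm : ¬ p ∣ m)
    (hmult : Cfsg.classInner (fun x : ↥(E ⊓ N) => ρ.character ⟨(x : G), x.2.2⟩)
      (fun x => (φ x : ℂ)) = (m : ℂ)) :
    ∃ σ : Representation ℂ G (Fin d → ℂ), ∀ n : N, σ n = ρ n := by
  classical
  haveI := ProjExt.finite_Gam N ρ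
  haveI : Fintype (ProjExt.Gam N ρ) := Fintype.ofFinite _
  set π := ProjExt.proj N ρ with hπdef
  have hπ : Function.Surjective π := ProjExt.proj_surjective N ρ hinv
  set E' := E.comap π with hE'
  set N' := ProjExt.pre N ρ N with hN'
  -- the projection onto the eigenspace
  set e : Module.End ℂ (Fin d → ℂ) :=
    (Nat.card ↥(E ⊓ N) : ℂ)⁻¹ • ∑ x : ↥(E ⊓ N), ((φ x)⁻¹ : ℂˣ).val • ρ ⟨(x : G), x.2.2⟩ with he
  have hρe : ∀ x : ↥(E ⊓ N), ρ ⟨(x : G), x.2.2⟩ * e = (φ x : ℂ) • e := by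
    intro x
    simp only [he, mul_smul_comm, Finset.mul_sum, Finset.smul_sum, smul_smul]
    refine Fintype.sum_equiv (Equiv.mulLeft x) _ _ fun y => ?_
    rw [← map_mul, Equiv.coe_mulLeft, map_mul φ, mul_inv_rev, Units.val_mul]
    congr 1
    rw [mul_comm (((φ y)⁻¹ : ℂˣ) : ℂ), mul_left_comm (φ x : ℂ), ← mul_assoc (φ x : ℂ), Units.mul_inv,
      one_mul]
  have hee : e * e = e := by
    conv_lhs => arg 1; rw [he]
    rw [smul_mul_assoc, Finset.sum_mul]
    have h1 : ∀ x : ↥(E ⊓ N), (((φ x)⁻¹ : ℂˣ).val • ρ ⟨(x : G), x.2.2⟩) * e = e := by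
      intro x
      rw [smul_mul_assoc, hρe, smul_smul, Units.inv_mul, one_smul]
    rw [Finset.sum_congr rfl fun x _ => h1 x, Finset.sum_const, Finset.card_univ,
      ← Nat.cast_smul_eq_nsmul ℂ, smul_smul, ← Nat.card_eq_fintype_card,
      inv_mul_cancel₀ (Nat.cast_ne_zero.2 Nat.card_pos.ne'), one_smul]
  have hconjφ : ∀ x : ↥(E ⊓ N), conj (φ x : ℂ) = ((φ x)⁻¹ : ℂˣ).val := by
    intro x
    have h : ‖(φ x : ℂ)‖ = 1 := by
      refine Complex.norm_eq_one_of_pow_eq_one (n := Nat.card ↥(E ⊓ N)) ?_ Nat.card_pos.ne'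
      rw [← Units.val_pow_eq_pow_val, ← map_pow, pow_card_eq_one', map_one, Units.val_one]
    rw [Units.val_inv_eq_inv_val, Complex.inv_eq_conj h]
  have htr : LinearMap.trace ℂ _ e = (m : ℂ) := by
    rw [← hmult, he, map_smul, map_sum, smul_eq_mul, Cfsg.classInner]
    congr 1
    refine Finset.sum_congr rfl fun x _ => ?_
    rw [map_smul, smul_eq_mul, hconjφ, mul_comm]
    rfl
  -- the homomorphism on the preimage of `E`
  have hetaπ : ∀ γ : E', (⟨π (γ : ProjExt.Gam N ρ), γ.2⟩ : E) = ⟨π γ.1, γ.2⟩ := fun _ => rfl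
  let fE : E' →* E := (π.comp E'.subtype).codRestrict E fun γ => γ.2
  let R : E' → Module.End ℂ (Fin d → ℂ) := fun γ =>
    ((η (fE γ))⁻¹ : ℂˣ).val • ProjExt.taut N ρ γ.1
  have hRmul : ∀ a b, R (a * b) = R a * R b := by
    intro a b
    simp only [R, map_mul, Subgroup.coe_mul, mul_inv_rev, Units.val_mul, smul_mul_smul_comm]
    congr 1
    ring
  have hRcomm : ∀ γ, R γ * e = e * R γ := by
    intro γ
    have hφinv : ∀ x : ↥(E ⊓ N),
        φ ⟨π γ.1 * (x : G) * (π γ.1)⁻¹, E.mul_mem (E.mul_mem γ.2 x.2.1) (E.inv_mem γ.2),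
          hN.conj_mem (x : G) x.2.2 (π γ.1)⟩ = φ x := by
      intro x
      rw [← hη, ← hη, show (⟨π γ.1 * (x : G) * (π γ.1)⁻¹, _⟩ : E) =
        fE γ * ⟨(x : G), x.2.1⟩ * (fE γ)⁻¹ from rfl, map_mul, map_mul, map_inv,
        mul_comm (η (fE γ)), mul_inv_cancel_right]
    simp only [R, smul_mul_assoc, mul_smul_comm]
    congr 1
    rw [he, mul_smul_comm, smul_mul_assoc, Finset.mul_sum, Finset.sum_mul]
    congr 1
    let c : ↥(E ⊓ N) ≃ ↥(E ⊓ N) :=
      { toFun := fun x => ⟨π γ.1 * (x : G) * (π γ.1)⁻¹, E.mul_mem (E.mul_mem γ.2 x.2.1) (E.inv_mem γ.2),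
          hN.conj_mem (x : G) x.2.2 (π γ.1)⟩
        invFun := fun x => ⟨(π γ.1)⁻¹ * (x : G) * π γ.1, E.mul_mem (E.mul_mem (E.inv_mem γ.2) x.2.1) γ.2,
          by simpa using hN.conj_mem (x : G) x.2.2 (π γ.1)⁻¹⟩
        left_inv := fun x => Subtype.ext (by simp [mul_assoc])
        right_inv := fun x => Subtype.ext (by simp [mul_assoc]) }
    refine Fintype.sum_equiv c _ _ fun x => ?_
    rw [mul_smul_comm, ProjExt.taut_mul, smul_mul_assoc, show φ (c x) = φ x from hφinv x]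
    rfl
  let ν0 : E' →* ℂ :=
    { toFun := fun γ => LinearMap.det (R γ * e + (1 - e))
      map_one' := by
        have : R 1 = 1 := by
          simp only [R, map_one, inv_one, Units.val_one, OneMemClass.coe_one, one_smul]
        rw [this, one_mul, add_sub_cancel, map_one]
      map_mul' := fun a b => by
        rw [← map_mul, hRmul]
        congr 1
        have h1 : R a * e * (R b * e) = R a * R b * e := by
          rw [mul_assoc (R a) e, hRcomm b, ← mul_assoc e e, hee, ← hRcomm b, ← mul_assoc]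
        have h2 : R a * e * (1 - e) = 0 := by rw [mul_sub, mul_one, mul_assoc, hee, sub_self]
        have h3 : (1 - e) * (R b * e) = 0 := by
          rw [hRcomm b, sub_mul, one_mul, ← mul_assoc, hee, sub_self]
        have h4 : (1 - e) * (1 - e) = 1 - e := by
          rw [sub_mul, one_mul, mul_sub, mul_one, hee, sub_self, sub_zero]
        rw [add_mul (R a * e), mul_add, mul_add, h1, h2, h3, h4, add_zero, zero_add] }
  set ν := ν0.toHomUnits with hν
  have hνeq : ∀ (γ : ProjExt.Gam N ρ) (h1 : γ ∈ E') (h2 : γ ∈ N'),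
      (ν ⟨γ, h1⟩ : ℂ) = (ProjExt.lam0 N ρ ⟨γ, h2⟩ : ℂ) ^ m := by
    intro γ h1 h2
    show LinearMap.det (R ⟨γ, h1⟩ * e + (1 - e)) = _
    rw [← det_scalar_idem hee htr (ProjExt.lam0 N ρ ⟨γ, h2⟩ : ℂ)]
    congr 2
    have h3 := ProjExt.lam0_spec N ρ ⟨γ, h2⟩
    simp only [R, smul_mul_assoc]
    rw [h3, smul_mul_assoc, show (⟨π γ, h2⟩ : N) = ⟨((⟨π γ, h1, h2⟩ : ↥(E ⊓ N)) : G), h2⟩ from rfl, hρe,
      show η (fE ⟨γ, h1⟩) = φ ⟨π γ, h1, h2⟩ from hη ⟨π γ, h1, h2⟩, smul_smul, smul_smul]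
    congr 1
    rw [mul_right_comm, Units.inv_mul, one_mul]
  haveI hN'n : N'.Normal := hN.comap π
  have hlaminv : ∀ (g : ProjExt.Gam N ρ) (x : N'),
      ProjExt.lam0 N ρ ⟨g * x * g⁻¹, hN'n.conj_mem (x : ProjExt.Gam N ρ) x.2 g⟩ =
        ProjExt.lam0 N ρ x := fun g x => ProjExt.lam0_inv N ρ g x _
  -- the `m`-th power extends
  have hfac : ∀ g : ProjExt.Gam N ρ, ∃ x : N' × E', (x.1 : ProjExt.Gam N ρ) * x.2 = g := by
    intro g
    have : π g ∈ ((N ⊔ E : Subgroup G) : Set G) := by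
      rw [sup_comm, hEN]; exact Subgroup.mem_top _
    rw [Subgroup.normal_mul, Set.mem_mul] at this
    obtain ⟨n, hn, h, hh, he⟩ := this
    obtain ⟨h', rfl⟩ := hπ h
    refine ⟨⟨⟨g * h'⁻¹, show π (g * h'⁻¹) ∈ N from ?_⟩, ⟨h', hh⟩⟩, inv_mul_cancel_right g h'⟩
    rw [map_mul, map_inv, ← he, mul_inv_cancel_right]
    exact hn
  let val : N' × E' → ℂˣ := fun x => ProjExt.lam0 N ρ x.1 ^ m * ν x.2
  have hwd : ∀ x y : N' × E', (x.1 : ProjExt.Gam N ρ) * x.2 = y.1 * y.2 → val x = val y := by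
    rintro ⟨⟨a, ha⟩, ⟨b, hb⟩⟩ ⟨⟨a', ha'⟩, ⟨b', hb'⟩⟩ heq
    simp only at heq
    have e1 : a'⁻¹ * a = b' * b⁻¹ := by
      rw [eq_mul_inv_iff_mul_eq, mul_assoc, heq, inv_mul_cancel_left]
    have h1 : a'⁻¹ * a ∈ E' := e1 ▸ E'.mul_mem hb' (E'.inv_mem hb)
    have h2 : a'⁻¹ * a ∈ N' := N'.mul_mem (N'.inv_mem ha') ha
    have hk : ν ⟨_, h1⟩ = ProjExt.lam0 N ρ ⟨_, h2⟩ ^ m := by
      apply Units.ext
      rw [hνeq _ h1 h2, Units.val_pow_eq_pow_val]
    have ea : (⟨a, ha⟩ : N') = ⟨a', ha'⟩ * ⟨_, h2⟩ := Subtype.ext (by simp)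
    have eb : (⟨b', hb'⟩ : E') = ⟨_, h1⟩ * ⟨b, hb⟩ := Subtype.ext (by simp [e1])
    simp only [val, ea, eb, map_mul, mul_pow, hk, mul_assoc]
  choose dec hdec using hfac
  obtain ⟨μm, hμm⟩ : ∃ μ : ProjExt.Gam N ρ →* ℂˣ, ∀ x : N', μ x = ProjExt.lam0 N ρ x ^ m := by
    refine ⟨{ toFun := fun g => val (dec g), map_one' := ?_, map_mul' := fun g h => ?_ }, fun x => ?_⟩
    · rw [hwd (dec 1) (1, 1) (by rw [hdec]; simp)]
      simp [val]
    · obtain ⟨a1, b1⟩ := dec g |> fun _ => ((dec g).1, (dec g).2)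
      clear a1 b1
      have hmem : ((dec g).2 : ProjExt.Gam N ρ) * ((dec h).1 : ProjExt.Gam N ρ) *
          ((dec g).2 : ProjExt.Gam N ρ)⁻¹ ∈ N' := hN'n.conj_mem _ (dec h).1.2 _
      rw [hwd (dec (g * h)) ((dec g).1 * ⟨_, hmem⟩, (dec g).2 * (dec h).2) (by
        rw [hdec]
        conv_lhs => rw [← hdec g, ← hdec h]
        simp [mul_assoc])]
      simp only [val, map_mul, mul_pow]
      rw [hlaminv ((dec g).2 : ProjExt.Gam N ρ) (dec h).1]
      rw [mul_mul_mul_comm]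
    · show val (dec x) = _
      rw [hwd (dec x) (x, 1) (by rw [hdec]; simp)]
      simp [val]
  -- so does the power by the index
  obtain ⟨k, hk⟩ := hind
  obtain ⟨μk, hμk⟩ : ∃ μ : ProjExt.Gam N ρ →* ℂˣ, ∀ x : N', μ x = ProjExt.lam0 N ρ x ^ (p ^ k) := by
    refine ⟨(ProjExt.lam0 N ρ).transfer, fun x => ?_⟩
    rw [Clifford.Linear.transfer_restrict N' N' le_rfl (ProjExt.lam0 N ρ) (fun g y => hlaminv g y),
      Subgroup.index_comap_of_surjective N hπ, hk]
  have hcop : Nat.Coprime m (p ^ k) := Nat.Coprime.pow_right _ (hp.out.coprime_iff_not_dvd.2 hm).symm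
  refine ProjExt.exists_extension_of_scalar N ρ hinv
    (μm ^ Nat.gcdA m (p ^ k) * μk ^ Nat.gcdB m (p ^ k)) (fun x => ?_)
  have hone := Nat.gcd_eq_gcd_ab m (p ^ k)
  rw [hcop.gcd_eq_one, Nat.cast_one] at hone
  rw [MonoidHom.mul_apply, MonoidHom.zpow_apply, MonoidHom.zpow_apply, hμm x, hμk x,
    ← zpow_natCast (ProjExt.lam0 N ρ x) m, ← zpow_natCast (ProjExt.lam0 N ρ x) (p ^ k), ← zpow_mul,
    ← zpow_mul, ← zpow_add, ← hone, zpow_one]

/-- Invariant characters extend when the Sylow intersection is central and its linear characters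
extend. -/
theorem exists_extension (p : ℕ) [hp : Fact p.Prime] (N : Subgroup G) [hN : N.Normal]
    (hind : ∃ k : ℕ, N.index = p ^ k) (P : Sylow p G)
    (hcent : ∀ x ∈ (P : Subgroup G) ⊓ N, ∀ y ∈ (P : Subgroup G), x * y = y * x)
    (hlin : ∀ lam : ↥((P : Subgroup G) ⊓ N) → ℂ, Cfsg.IsCharacter ↥((P : Subgroup G) ⊓ N) lam →
      lam 1 = 1 → ∃ μ : ↥(P : Subgroup G) → ℂ, Cfsg.IsCharacter ↥(P : Subgroup G) μ ∧ μ 1 = 1 ∧
        ∀ x : ↥((P : Subgroup G) ⊓ N), μ ⟨(x : G), x.2.1⟩ = lam x)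
    {ϑ : N → ℂ} (hϑ : Cfsg.IsIrrCharacter N ϑ)
    (hinv : ∀ (g : G) (n : N), ϑ ⟨g * n * g⁻¹, hN.conj_mem (n : G) n.2 g⟩ = ϑ n) :
    ∃ χ : G → ℂ, Cfsg.IsIrrCharacter G χ ∧ ∀ n : N, χ n = ϑ n := by
  classical
  obtain ⟨E, hE, hEN, _, φ, hφinv, m, hm, hmult⟩ := detect p N hind hϑ hinv
  obtain ⟨d, ρ, hρ, rfl⟩ := hϑ
  obtain ⟨k, hk⟩ := hind
  obtain ⟨x, hx, hxp, j, hj⟩ := hE
  haveI hC : (Subgroup.zpowers x).Normal := ⟨fun y hy g => by
    obtain ⟨i, rfl⟩ := Subgroup.mem_zpowers_iff.1 hy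
    rw [Subgroup.mem_center_iff.1 (zpow_mem hx i) g, mul_inv_cancel_right]
    exact ⟨i, rfl⟩⟩
  set C := Subgroup.zpowers x with hCdef
  -- `C` lies in `N`
  have hxN : (x : G) ∈ N := by
    rw [← QuotientGroup.eq_one_iff, ← orderOf_eq_one_iff]
    refine Nat.eq_one_of_dvd_coprimes hxp ?_ ?_ |>.symm ▸ rfl
    · exact orderOf_map_dvd ((QuotientGroup.mk' N).comp E.subtype) x
    · have h1 : orderOf ((QuotientGroup.mk' N).comp E.subtype x) ∣ p ^ k :=
        hk ▸ orderOf_dvd_natCard _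
      obtain ⟨i, -, hi⟩ := (Nat.dvd_prime_pow hp.out).1 h1
      rcases Nat.eq_zero_or_pos i with h0 | h0
      · exact ⟨p, by rw [show orderOf ((x : G) : G ⧸ N) = p ^ i from hi, h0, pow_zero, one_mul]⟩
      · exfalso
        have h2 : p ∣ orderOf x := by
          refine dvd_trans ?_ (orderOf_map_dvd ((QuotientGroup.mk' N).comp E.subtype) x)
          rw [hi]; exact dvd_pow_self p h0.ne'
        exact hp.out.not_dvd_one (hxp ▸ Nat.dvd_gcd h2 dvd_rfl)
  have hCN : ∀ y : E, y ∈ C → (y : G) ∈ N := by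
    intro y hy
    obtain ⟨i, rfl⟩ := Subgroup.mem_zpowers_iff.1 hy
    rw [Subgroup.coe_zpow]
    exact zpow_mem hxN i
  -- a `p`-subgroup complementing `C`
  obtain ⟨Q⟩ : Nonempty (Sylow p E) := inferInstance
  have hQ : IsPGroup p (Q : Subgroup E) := Q.isPGroup'
  have hCQcop : Nat.Coprime (Nat.card C) (Nat.card (Q : Subgroup E)) := by
    rw [hCdef, Nat.card_zpowers]
    obtain ⟨i, hi⟩ := IsPGroup.iff_card.1 hQ
    rw [hi]
    exact Nat.Coprime.pow_right _ hxp
  have hCQ : Subgroup.IsComplement' C (Q : Subgroup E) := by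
    refine Subgroup.isComplement'_of_coprime ?_ hCQcop
    refine Nat.dvd_antisymm (Nat.Coprime.mul_dvd_of_dvd_of_dvd hCQcop
      (Subgroup.card_subgroup_dvd_card C) (Subgroup.card_subgroup_dvd_card _)) ?_
    rw [← C.card_mul_index]
    refine mul_dvd_mul_left _ ?_
    rw [hj, Q.card_eq_multiplicity]
    refine Nat.pow_dvd_pow _ ((Nat.Prime.pow_dvd_iff_le_factorization hp.out Nat.card_pos.ne').1 ?_)
    exact hj ▸ Subgroup.index_dvd_card C
  -- conjugate the complement into `P`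
  obtain ⟨R, hR⟩ := ((hQ.map E.subtype)).exists_le_sylow
  obtain ⟨g, hg⟩ := MulAction.exists_smul_eq G R P
  have hgP : ∀ q : E, q ∈ (Q : Subgroup E) → g * (q : G) * g⁻¹ ∈ (P : Subgroup G) := by
    intro q hq
    have h1 : (q : G) ∈ (R : Subgroup G) := hR ⟨q, hq, rfl⟩
    rw [← hg]
    exact ⟨q, h1, rfl⟩
  let cP : (Q : Subgroup E) →* ↥(P : Subgroup G) :=
    (((MulAut.conj g).toMonoidHom.comp E.subtype).comp (Q : Subgroup E).subtype).codRestrict _
      fun q => hgP q q.2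
  have hgPN : ∀ q : (N.subgroupOf E ⊓ (Q : Subgroup E) : Subgroup E),
      g * ((q : E) : G) * g⁻¹ ∈ (P : Subgroup G) ⊓ N := fun q =>
    ⟨hgP q q.2.2, hN.conj_mem _ q.2.1 g⟩
  let ι : (N.subgroupOf E ⊓ (Q : Subgroup E) : Subgroup E) →* ↥((P : Subgroup G) ⊓ N) :=
    (((MulAut.conj g).toMonoidHom.comp E.subtype).comp
      (N.subgroupOf E ⊓ (Q : Subgroup E) : Subgroup E).subtype).codRestrict _ hgPN
  have hι : Function.Injective ι := fun a b h => by
    apply Subtype.ext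
    apply Subtype.ext
    exact (MulAut.conj g).injective (congrArg Subtype.val h)
  -- the intersection is central in `E`
  have hcentQ : ∀ y : E, (y : G) ∈ N → y ∈ (Q : Subgroup E) → ∀ q ∈ (Q : Subgroup E),
      y * q = q * y := by
    intro y hy hyQ q hq
    have h1 := hcent _ (hgPN ⟨y, hy, hyQ⟩) _ (hgP q hq)
    apply Subtype.ext
    apply (MulAut.conj g).injective
    simpa [MulAut.conj_apply, Subgroup.coe_mul] using h1
  have hfacE : ∀ y : E, ∃ c ∈ C, ∃ q ∈ (Q : Subgroup E), y = c * q := fun y => by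
    obtain ⟨⟨⟨c, hc⟩, ⟨q, hq⟩⟩, h⟩ := hCQ.existsUnique y |>.exists
    exact ⟨c, hc, q, hq, h.symm⟩
  have hCcen : ∀ c ∈ C, c ∈ Subgroup.center E := fun c hc => by
    obtain ⟨i, rfl⟩ := Subgroup.mem_zpowers_iff.1 hc
    exact zpow_mem hx i
  have hDcen : ∀ y : E, (y : G) ∈ N → ∀ z : E, y * z = z * y := by
    intro y hy z
    obtain ⟨c, hc, q, hq, rfl⟩ := hfacE y
    obtain ⟨c', hc', q', hq', rfl⟩ := hfacE z
    have hqN : (q : G) ∈ N := by
      have h1 : (q : G) = ((c : E) : G)⁻¹ * ((c * q : E) : G) := by simp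
      rw [h1]
      exact N.mul_mem (N.inv_mem (hCN c hc)) hy
    have hcc : c * q ∈ Subgroup.centralizer ({q'} : Set E) := by
      refine Subgroup.mul_mem _ (Subgroup.mem_centralizer_singleton_iff.2 ?_)
        (Subgroup.mem_centralizer_singleton_iff.2 (hcentQ q hqN hq q' hq'))
      exact (Subgroup.mem_center_iff.1 (hCcen c hc) q').symm
    calc c * q * (c' * q') = c * q * c' * q' := by group
      _ = c' * (c * q) * q' := by rw [Subgroup.mem_center_iff.1 (hCcen c' hc') (c * q)]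
      _ = c' * q' * (c * q) := by
        rw [mul_assoc, Subgroup.mem_centralizer_singleton_iff.1 hcc, ← mul_assoc]
  -- linearity
  have hDab : ∀ a b : ↥(E ⊓ N), a * b = b * a := fun a b => Subtype.ext (by
    have := congrArg Subtype.val (hDcen ⟨a, a.2.1⟩ a.2.2 ⟨b, b.2.1⟩)
    exact this)
  have hφ1 : (φ : ↥(E ⊓ N) → ℂ) 1 = 1 := Linear.degree_eq_one_of_comm hDab φ
  obtain ⟨φh, hφh⟩ := Clifford.Linear.exists_hom (G := ↥(E ⊓ N)) ⟨isCharacter_irr φ, hφ1⟩
  let jD : (N.subgroupOf E ⊓ (Q : Subgroup E) : Subgroup E) →* ↥(E ⊓ N) :=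
    ((E.subtype).comp (N.subgroupOf E ⊓ (Q : Subgroup E) : Subgroup E).subtype).codRestrict _
      fun q => ⟨(q : E).2, q.2.1⟩
  obtain ⟨L, hL⟩ := exists_extend (fun a b => Subtype.ext (hcent a a.2 b b.2.1))
    ι hι (φh.comp jD)
  obtain ⟨μ, hμc, hμ1, hμ⟩ := hlin (fun z => (L z : ℂ)) (Induced.Character.isCharacter_hom L)
    (by simp)
  obtain ⟨μh, hμh⟩ := Clifford.Linear.exists_hom (G := ↥(P : Subgroup G)) ⟨hμc, hμ1⟩
  let μQ : (Q : Subgroup E) →* ℂˣ := μh.comp cP
  let φC : C →* ℂˣ := φh.comp ((E.subtype.comp C.subtype).codRestrict (E ⊓ N)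
    fun c => ⟨(c : E).2, hCN c c.2⟩)
  let mulCQ : C × (Q : Subgroup E) →* E :=
    { toFun := fun z => (z.1 : E) * z.2
      map_one' := by simp
      map_mul' := fun a b => by
        simp only [Prod.fst_mul, Prod.snd_mul, Subgroup.coe_mul]
        calc (a.1 : E) * b.1 * ((a.2 : E) * b.2) = (a.1 : E) * ((b.1 : E) * a.2) * b.2 := by group
          _ = (a.1 : E) * ((a.2 : E) * b.1) * b.2 := by
            rw [Subgroup.mem_center_iff.1 (hCcen _ b.1.2) (a.2 : E)]
          _ = (a.1 : E) * a.2 * ((b.1 : E) * b.2) := by group }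
  let eCQ : C × (Q : Subgroup E) ≃* E := MulEquiv.ofBijective mulCQ hCQ
  let η : E →* ℂˣ := ((φC.coprod μQ)).comp eCQ.symm.toMonoidHom
  refine ExtensionChar.char_of_extension N ρ (exists_extension_of_detect p N ⟨k, hk⟩ ρ
    (fun g => funext fun n => hinv g n) E hEN φh η (fun z => ?_) m hm ?_)
  · obtain ⟨c, hc, q, hq, hcq⟩ := hfacE ⟨(z : G), z.2.1⟩
    have hqN : (q : G) ∈ N := by
      have h1 : (q : G) = ((c : E) : G)⁻¹ * (z : G) := by
        have := congrArg Subtype.val hcq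
        simp only [Subgroup.coe_mul] at this
        rw [this, inv_mul_cancel_left]
      rw [h1]
      exact N.mul_mem (N.inv_mem (hCN c hc)) z.2.2
    show (φC.coprod μQ) (eCQ.symm ⟨(z : G), z.2.1⟩) = _
    have e1 : eCQ.symm ⟨(z : G), z.2.1⟩ = (⟨c, hc⟩, ⟨q, hq⟩) := by
      rw [MulEquiv.symm_apply_eq]
      exact hcq
    rw [e1, MonoidHom.coprod_apply]
    have h2 : μQ ⟨q, hq⟩ = φh ⟨(q : G), q.2, hqN⟩ := by
      apply Units.ext
      have h3 := hμ (ι ⟨q, hqN, hq⟩)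
      have h4 := congrFun hμh (cP ⟨q, hq⟩)
      refine (h4.trans ?_).trans (congrArg Units.val (hL ⟨q, hqN, hq⟩))
      exact h3
    rw [h2]
    show φh _ * φh _ = φh z
    rw [← map_mul]
    congr 1
    apply Subtype.ext
    show ((c : E) : G) * (q : G) = z
    exact (congrArg Subtype.val hcq).symm
  · rw [show (fun z => (φh z : ℂ)) = (φ : ↥(E ⊓ N) → ℂ) from hφh]
    exact hmult

end Cfsg.Agent.Lib.Brauer.Dade
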