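import Cfsg.Prelude.Def_Blocks
import Cfsg.Agent.Lib.Brauer.Characterization
import Cfsg.Agent.Lib.Characters.Basic

/-!
Section indicator functions as combinations of irreducible characters with algebraic-integer
coefficients, and the count of solutions of `x ^ m = 1` for a Hall divisor `m`.
-/

set_option autoImplicit false

namespace Cfsg.Agent.Lib.Brauer.Section

open Cfsg Cfsg.Agent.Lib.Brauer.PermChar Cfsg.Agent.Lib.Brauer.Induction
  Cfsg.Agent.Lib.Brauer.Elementary Cfsg.Agent.Lib.Brauer.Monomial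
  Cfsg.Agent.Lib.Brauer.Characterization

universe u

variable {G : Type u} [Group G] [Fintype G]

omit [Fintype G] in
theorem hom_val_isIntegral [Finite G] (l : G →* ℂ) (g : G) : IsIntegral ℤ (l g) := by
  refine IsIntegral.of_pow (n := orderOf g) (orderOf_pos g) ?_
  rw [← map_pow, pow_orderOf_eq_one, map_one]
  exact isIntegral_one

theorem inflate_memR {Q : Type u} [Group Q] [Fintype Q] (π : G →* Q) (hπ : Function.Surjective π)
    {f : Q → ℂ} (hf : f ∈ Submodule.span AlgInt (monoSet (fun _ : Subgroup Q => True))) :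
    (fun g => f (π g)) ∈ Submodule.span AlgInt (monoSet (fun _ : Subgroup G => True)) := by
  induction hf using Submodule.span_induction with
  | mem x hx => exact int_span_le AlgInt (inflate_mem π hπ (Submodule.subset_span hx))
  | zero => exact zero_mem _
  | add x y _ _ h1 h2 => exact add_mem h1 h2
  | smul r x _ h => exact Submodule.smul_mem _ r h

/-- `|B|` times a class function with algebraic integer values is a combination, with algebraic
integer coefficients, of induced linear characters. -/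
theorem card_smul_classFun_mem (f : G → ℂ) (hcl : IsClassFunction G f)
    (hint : ∀ g, IsIntegral ℤ (f g)) :
    (fun g => (Nat.card G : ℂ) * f g) ∈
      Submodule.span AlgInt (monoSet (fun _ : Subgroup G => True)) := by
  classical
  have key : ∀ b : G, (fun g => ∑ x : G, if x⁻¹ * g * x = b then (1 : ℂ) else 0) ∈
      Submodule.span AlgInt (monoSet (fun _ : Subgroup G => True)) := by
    intro b
    set C := Subgroup.zpowers b with hC
    haveI : Fintype C := Fintype.ofFinite _
    have hab : ∀ a c : C, a * c = c * a := fun a c => mul_comm' a c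
    obtain ⟨instX, hXcard, hXsum⟩ := sum_hom_trivialOn hab (⊥ : Subgroup C)
    rw [Subgroup.index_bot] at hXcard
    set δ : C → ℂ := fun c => ∑ l : {l : C →* ℂ // ∀ z ∈ (⊥ : Subgroup C), l z = 1},
      l.1 (c * ⟨b, Subgroup.mem_zpowers b⟩⁻¹) with hδ
    have hval : ∀ c : C, δ c = (Nat.card C : ℂ) * if (c : G) = b then 1 else 0 := by
      intro c
      rw [hδ]
      refine (hXsum _).trans ?_
      rw [hXcard, Subgroup.mem_bot, mul_inv_eq_one]
      congr 1
      simp only [Subtype.ext_iff]
    have hmem : indFun C δ ∈ Submodule.span AlgInt (monoSet (fun _ : Subgroup G => True)) := by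
      have : δ = ∑ l : {l : C →* ℂ // ∀ z ∈ (⊥ : Subgroup C), l z = 1},
          (l.1 (⟨b, Subgroup.mem_zpowers b⟩ : C)⁻¹) • (l.1 : C → ℂ) := by
        funext c
        simp only [hδ, Finset.sum_apply, Pi.smul_apply, smul_eq_mul, map_mul, mul_comm]
      rw [this]
      have hsum : ∀ (s : Finset {l : C →* ℂ // ∀ z ∈ (⊥ : Subgroup C), l z = 1}) (F : _ → (C → ℂ)),
          indFun C (∑ i ∈ s, F i) = ∑ i ∈ s, indFun C (F i) := by
        intro s F
        induction s using Finset.induction with
        | empty => simp [indFun_zero]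
        | insert a s ha ih => rw [Finset.sum_insert ha, Finset.sum_insert ha, indFun_add, ih]
      rw [hsum]
      refine Submodule.sum_mem _ fun l _ => ?_
      rw [indFun_smul]
      exact Submodule.smul_mem _ (⟨_, hom_val_isIntegral l.1 _⟩ : AlgInt)
        (Submodule.subset_span ⟨C, trivial, l.1, rfl⟩)
    have heq : indFun C δ = fun g => ∑ x : G, if x⁻¹ * g * x = b then (1 : ℂ) else 0 := by
      funext g
      unfold indFun
      rw [Finset.mul_sum]
      refine Finset.sum_congr rfl fun x _ => ?_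
      have h0 : (Nat.card C : ℂ) ≠ 0 := by exact_mod_cast Nat.card_pos.ne'
      by_cases hx : x⁻¹ * g * x ∈ C
      · rw [ext0_mem _ hx, hval, ← mul_assoc, inv_mul_cancel₀ h0, one_mul]
      · rw [ext0_notMem _ hx, if_neg (fun h : x⁻¹ * g * x = b => hx (h.symm ▸ Subgroup.mem_zpowers b)), mul_zero]
    rwa [← heq]
  have : (fun g => (Nat.card G : ℂ) * f g) =
      ∑ b : G, (⟨f b, hint b⟩ : AlgInt) • (fun g => ∑ x : G, if x⁻¹ * g * x = b then (1 : ℂ) else 0) := by
    funext g
    rw [Finset.sum_apply]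
    show _ = ∑ b : G, f b * ∑ x : G, (if x⁻¹ * g * x = b then (1 : ℂ) else 0)
    simp only [Finset.mul_sum]
    rw [Finset.sum_comm]
    simp only [mul_ite, mul_one, mul_zero, Finset.sum_ite_eq, Finset.mem_univ, if_true]
    rw [Finset.sum_congr rfl (fun x _ => (by simpa using hcl g x⁻¹ : f (x⁻¹ * g * x) = f g))]
    rw [Finset.sum_const, Finset.card_univ, nsmul_eq_mul, Nat.card_eq_fintype_card]
  rw [this]
  exact Submodule.sum_mem _ fun b _ => Submodule.smul_mem _ _ (key b)

omit [Fintype G] in
theorem isConj_pow (k : ℕ) {x y : G} (h : IsConj x y) : IsConj (x ^ k) (y ^ k) := by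
  obtain ⟨c, hc⟩ := isConj_iff.1 h
  exact isConj_iff.2 ⟨c, by rw [← hc, conj_pow]⟩

open Classical in
/-- The section indicator: `n` on the elements with `k`-th power conjugate to `g`. -/
theorem section_mem {m n k : ℕ} (hcard : Nat.card G = m * n) (hcop : Nat.Coprime m n)
    (hk0 : k ≡ 0 [MOD m]) (hk1 : k ≡ 1 [MOD n]) (g : G) :
    (fun x => if IsConj (x ^ k) g then (n : ℂ) else 0) ∈
      Submodule.span AlgInt (monoSet (IsElem (G := G))) := by
  refine mem_of_elementary AlgInt ?_ ?_
  · intro x h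
    have hi : IsConj x (h * x * h⁻¹) := isConj_iff.2 ⟨h, rfl⟩
    have : IsConj ((h * x * h⁻¹) ^ k) g ↔ IsConj (x ^ k) g :=
      ⟨fun e => (isConj_pow k hi).trans e, fun e => (isConj_pow k hi).symm.trans e⟩
    simp only [this]
  intro E _ p hp hel
  haveI : Fact p.Prime := ⟨hp⟩
  obtain ⟨z, hz, hzo, a, ha⟩ := hel
  obtain ⟨P⟩ := (inferInstance : Nonempty (Sylow p E))
  obtain ⟨b, hPb⟩ := IsPGroup.iff_card.1 P.isPGroup'
  haveI : (Subgroup.zpowers z).Normal := ⟨fun y hy w => by
    have hy' := (Subgroup.zpowers_le.2 hz) hy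
    rw [Subgroup.mem_center_iff.1 hy' w, mul_inv_cancel_right]; exact hy⟩
  have hTop : Subgroup.zpowers z ⊔ (P : Subgroup E) = ⊤ := by
    apply Subgroup.index_eq_one.1
    exact Nat.eq_one_of_dvd_coprimes
      (((hp.coprime_iff_not_dvd.2 P.not_dvd_index).pow_left a))
      (ha ▸ Subgroup.index_dvd_of_le le_sup_left) (Subgroup.index_dvd_of_le le_sup_right)
  have hdec : ∀ e : E, ∃ i : ℤ, ∃ q ∈ (P : Subgroup E), z ^ i * q = e := by
    intro e
    obtain ⟨c, hc, q, hq, h⟩ := Subgroup.mem_sup_of_normal_left.1 (hTop ▸ Subgroup.mem_top e)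
    obtain ⟨i, rfl⟩ := Subgroup.mem_zpowers_iff.1 hc
    exact ⟨i, q, hq, h⟩
  -- on the Sylow subgroup the power map is trivial or the identity
  have hP : (∀ q ∈ (P : Subgroup E), q ^ k = q) ∨ (∀ q ∈ (P : Subgroup E), q ^ k = 1) := by
    have hord : ∀ q ∈ (P : Subgroup E), orderOf q ∣ p ^ b := fun q hq =>
      hPb ▸ (Subgroup.orderOf_dvd_natCard _ hq)
    by_cases hpm : p ∣ m
    · right
      intro q hq
      have h1 : orderOf q ∣ m := by
        refine Nat.Coprime.dvd_of_dvd_mul_right ?_ (hcard ▸ ?_ : orderOf q ∣ m * n)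
        · exact Nat.Coprime.coprime_dvd_left (hord q hq)
            ((hp.coprime_iff_not_dvd.2 (fun h => hp.ne_one (Nat.eq_one_of_dvd_coprimes hcop hpm h))).pow_left b)
        · rw [← Subgroup.orderOf_coe]; exact orderOf_dvd_natCard _
      exact orderOf_dvd_iff_pow_eq_one.1 (h1.trans (Nat.modEq_zero_iff_dvd.1 hk0))
    · left
      intro q hq
      have h1 : orderOf q ∣ n := by
        refine Nat.Coprime.dvd_of_dvd_mul_left ?_ (hcard ▸ ?_ : orderOf q ∣ m * n)
        · exact Nat.Coprime.coprime_dvd_left (hord q hq) ((hp.coprime_iff_not_dvd.2 hpm).pow_left b)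
        · rw [← Subgroup.orderOf_coe]; exact orderOf_dvd_natCard _
      conv_rhs => rw [← pow_one q]
      rw [pow_eq_pow_iff_modEq]
      exact hk1.of_dvd h1
  have hzc : ∀ (i : ℤ) (e : E), Commute (z ^ i) e := fun i e =>
    Commute.zpow_left (Subgroup.mem_center_iff.1 hz e).symm i
  let s : E →* E :=
    { toFun := fun e => e ^ k
      map_one' := one_pow k
      map_mul' := by
        intro x y
        obtain ⟨i, q, hq, rfl⟩ := hdec x
        obtain ⟨j, r, hr, rfl⟩ := hdec y
        have e1 : z ^ i * q * (z ^ j * r) = z ^ i * z ^ j * (q * r) := by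
          rw [mul_assoc (z ^ i), ← mul_assoc q, ← (hzc j q).eq]; simp only [mul_assoc]
        have e2 : (q * r) ^ k = q ^ k * r ^ k := by
          rcases hP with h | h
          · rw [h q hq, h r hr, h _ ((P : Subgroup E).mul_mem hq hr)]
          · rw [h q hq, h r hr, h _ ((P : Subgroup E).mul_mem hq hr), one_mul]
        have e3 : (z ^ i) ^ k * q ^ k * ((z ^ j) ^ k * r ^ k) = (z ^ i) ^ k * (z ^ j) ^ k * (q ^ k * r ^ k) := by
          rw [mul_assoc ((z ^ i) ^ k), ← mul_assoc (q ^ k),
            ← ((hzc j (q ^ k)).pow_left k).eq]; simp only [mul_assoc]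
        rw [e1, (hzc i q).mul_pow, (hzc j r).mul_pow, e3,
          ← e2, ← (hzc i (z ^ j)).mul_pow]
        exact Commute.mul_pow ((hzc i (q * r)).mul_left (hzc j (q * r))) k }
  let B : Subgroup E := s.range
  haveI : Fintype B := Fintype.ofFinite _
  have hBn : Nat.card B ∣ n := by
    refine Nat.Coprime.dvd_of_dvd_mul_left ?_ (hcard ▸ ?_ : Nat.card B ∣ m * n)
    · rw [Nat.coprime_comm]
      refine Nat.coprime_of_dvd' fun q hq hqm hqB => ?_
      exfalso
      haveI : Fact q.Prime := ⟨hq⟩
      obtain ⟨y, hy⟩ := exists_prime_orderOf_dvd_card' (G := B) q hqB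
      obtain ⟨e, he⟩ := y.2
      have h1 : (y : E) ^ n = 1 := by
        rw [← he]
        show (e ^ k) ^ n = 1
        rw [← pow_mul, ← orderOf_dvd_iff_pow_eq_one]
        have h2 : orderOf e ∣ m * n := by
          rw [← hcard, ← Subgroup.orderOf_coe]; exact orderOf_dvd_natCard _
        exact h2.trans (mul_dvd_mul_right (Nat.modEq_zero_iff_dvd.1 hk0) n)
      have h3 : q ∣ n := by
        rw [← hy, ← Subgroup.orderOf_coe]
        exact orderOf_dvd_of_pow_eq_one h1
      exact hq.ne_one (Nat.eq_one_of_dvd_coprimes hcop hqm h3)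
    · exact (Subgroup.card_subgroup_dvd_card B).trans (Subgroup.card_subgroup_dvd_card E)
  have h1 := card_smul_classFun_mem (G := B) (fun y => if IsConj ((y : E) : G) g then (1 : ℂ) else 0)
    (fun y h => by
      have hi : IsConj ((y : E) : G) (((h * y * h⁻¹ : B) : E) : G) :=
        isConj_iff.2 ⟨((h : E) : G), by simp⟩
      have : IsConj (((h * y * h⁻¹ : B) : E) : G) g ↔ IsConj ((y : E) : G) g :=
        ⟨fun e => hi.trans e, fun e => hi.symm.trans e⟩
      simp only [this])
    (fun y => by split_ifs; exacts [isIntegral_one, isIntegral_zero])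
  have h2 := inflate_memR (G := E) s.rangeRestrict s.rangeRestrict_surjective h1
  obtain ⟨c, hc⟩ := hBn
  have h3 := Submodule.smul_of_tower_mem _ c h2
  convert h3 using 1
  funext e
  show (if IsConj ((e : G) ^ k) g then (n : ℂ) else 0) =
    c • ((Nat.card B : ℂ) * if IsConj (((s.rangeRestrict e : B) : E) : G) g then (1 : ℂ) else 0)
  have he : (((s.rangeRestrict e : B) : E) : G) = (e : G) ^ k := by
    show ((e ^ k : E) : G) = _
    simp
  rw [he, hc]
  split_ifs <;> simp [mul_comm]

/-- Expansion in irreducible characters. -/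
theorem exists_coeff {P : Subgroup G → Prop} {f : G → ℂ}
    (hf : f ∈ Submodule.span AlgInt (monoSet P)) :
    ∃ c : IrrCharacter G → ℂ, (∀ χ, c χ ∈ AlgInt) ∧
      f = ∑ᶠ χ : IrrCharacter G, c χ • (χ : G → ℂ) := by
  haveI : Fintype (IrrCharacter G) := Fintype.ofFinite _
  simp only [finsum_eq_sum_of_fintype]
  induction hf using Submodule.span_induction with
  | mem x hx =>
    have hx' := isCharacter_monomial hx
    refine ⟨fun χ => classInner x χ, fun χ => ?_, ?_⟩
    · obtain ⟨k, hk⟩ := Cfsg.Agent.Lib.Characters.Basic.exists_classInner_nat hx'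
        (Cfsg.Agent.Lib.Characters.Basic.isCharacter_irr χ)
      show classInner x χ ∈ AlgInt
      rw [hk]; exact natCast_mem _ k
    · conv_lhs => rw [Cfsg.Agent.Lib.Characters.Basic.character_eq_finsum hx', finsum_eq_sum_of_fintype]
  | zero => exact ⟨fun _ => 0, fun _ => zero_mem _, by simp⟩
  | add x y _ _ h1 h2 =>
    obtain ⟨c, hc, rfl⟩ := h1
    obtain ⟨d, hd, rfl⟩ := h2
    exact ⟨fun χ => c χ + d χ, fun χ => add_mem (hc χ) (hd χ), by
      simp only [add_smul, Finset.sum_add_distrib]⟩
  | smul r x _ h =>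
    obtain ⟨c, hc, rfl⟩ := h
    refine ⟨fun χ => (r : ℂ) * c χ, fun χ => mul_mem r.2 (hc χ), ?_⟩
    rw [Finset.smul_sum]
    exact Finset.sum_congr rfl fun χ _ => (smul_smul (r : ℂ) (c χ) _)

/-- The inner product with the principal character of a combination is an algebraic integer. -/
theorem classInner_one_isIntegral {P : Subgroup G → Prop} {f : G → ℂ}
    (hf : f ∈ Submodule.span AlgInt (monoSet P)) :
    IsIntegral ℤ ((Nat.card G : ℂ)⁻¹ * ∑ g : G, f g) := by
  induction hf using Submodule.span_induction with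
  | mem x hx =>
    obtain ⟨k, hk⟩ := Cfsg.Agent.Lib.Characters.Basic.exists_classInner_nat (isCharacter_monomial hx)
      (Cfsg.Agent.Lib.Characters.Basic.isCharacter_one (G := G))
    have : (Nat.card G : ℂ)⁻¹ * ∑ g : G, x g = k := by
      rw [← hk]; simp [classInner]
    rw [this]
    exact isIntegral_algebraMap (R := ℤ) (A := ℂ) (x := (k : ℤ))
  | zero => simp [isIntegral_zero]
  | add x y _ _ h1 h2 =>
    simp only [Pi.add_apply, Finset.sum_add_distrib, mul_add]; exact h1.add h2
  | smul r x _ h =>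
    have : (Nat.card G : ℂ)⁻¹ * ∑ g : G, (r • x) g = (r : ℂ) * ((Nat.card G : ℂ)⁻¹ * ∑ g : G, x g) := by
      rw [mul_left_comm]
      congr 1
      rw [Finset.mul_sum]
      rfl
    rw [this]; exact IsIntegral.mul r.2 h

/-- Frobenius: for coprime `m`, `n` with `|G| = m * n`, `m` divides `#{x | x ^ m = 1}`. -/
theorem dvd_card_pow_eq_one {m n : ℕ} (hcard : Nat.card G = m * n) (hcop : Nat.Coprime m n) :
    m ∣ Nat.card {x : G // x ^ m = 1} := by
  classical
  obtain ⟨k, hk1, hk0⟩ := exists_split_exp hcop.symm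
  have h := classInner_one_isIntegral (section_mem hcard hcop hk0 hk1 (1 : G))
  have hiff : ∀ x : G, IsConj (x ^ k) 1 ↔ x ^ m = 1 := by
    intro x
    rw [isConj_one_left]
    have hx : orderOf x ∣ m * n := hcard ▸ orderOf_dvd_natCard x
    constructor
    · intro h1
      have h2 : orderOf x ∣ k := orderOf_dvd_of_pow_eq_one h1
      refine orderOf_dvd_iff_pow_eq_one.1 (Nat.Coprime.dvd_of_dvd_mul_right ?_ hx)
      refine Nat.coprime_of_dvd' fun q hq hq1 hq2 => ?_
      exfalso
      have h3 : q ∣ k := hq1.trans h2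
      have := (hk1.of_dvd hq2).symm.trans (Nat.modEq_zero_iff_dvd.2 h3)
      exact hq.not_dvd_one (Nat.modEq_zero_iff_dvd.1 this)
    · intro h1
      exact orderOf_dvd_iff_pow_eq_one.1
        ((orderOf_dvd_of_pow_eq_one h1).trans (Nat.modEq_zero_iff_dvd.1 hk0))
  simp only [hiff] at h
  set N := Nat.card {x : G // x ^ m = 1} with hN
  have hsum : (∑ x : G, if x ^ m = 1 then (n : ℂ) else 0) = (N : ℂ) * n := by
    rw [← Finset.sum_filter, Finset.sum_const, nsmul_eq_mul, hN, Nat.card_eq_fintype_card,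
      Fintype.card_subtype]
  rw [hsum, hcard] at h
  have hm : m ≠ 0 := by rintro rfl; simp at hcard
  have hn : n ≠ 0 := by rintro rfl; simp at hcard
  have h' : IsIntegral ℤ ((N : ℂ) / (m : ℂ)) := by
    convert h using 1
    push_cast
    field_simp
  have hQ : IsIntegral ℤ ((N : ℚ) / m) := by
    rw [← isIntegral_algebraMap_iff (B := ℂ) (algebraMap ℚ ℂ).injective]
    simpa using h'
  obtain ⟨z, hz⟩ := IsIntegrallyClosed.isIntegral_iff.1 hQ
  have h4 : (N : ℤ) = z * m := by
    have : (z : ℚ) * m = N := by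
      rw [eq_intCast] at hz
      rw [hz, div_mul_cancel₀]; exact_mod_cast hm
    exact_mod_cast this.symm
  exact Int.natCast_dvd_natCast.1 ⟨z, by rw [h4, mul_comm]⟩

end Cfsg.Agent.Lib.Brauer.Section
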