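import Cfsg.Agent.Lib.Blocks.Vanishing
import Cfsg.Agent.Lib.Brauer.Section
import Cfsg.Agent.Lib.Characters.Complete
import Mathlib.LinearAlgebra.Matrix.ToLin
import Mathlib.LinearAlgebra.Dimension.Constructions

/-!
Blocks with a given defect group from classes with that defect group whose quotients avoid the
`p`-elements.
-/

set_option autoImplicit false
set_option linter.unusedSectionVars false

namespace Cfsg.Agent.Lib.Brauer.DefectClasses

open MonoidAlgebra
open Cfsg.Agent.Lib Cfsg.Agent.Lib.Blocks Cfsg.Agent.Lib.BrauerMap.ClassSum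
open Cfsg.Agent.Lib.Characters.Basic

universe u

variable {G : Type u} [Group G] [Finite G] {p : ℕ}

theorem classSum_eq_sum [Fintype G] (g : G) [DecidablePred (IsConj g)] :
    classSum ℂ g = ∑ h ∈ Finset.univ.filter (IsConj g), MonoidAlgebra.single h (1 : ℂ) := by
  classical
  ext y
  rw [coeff_classSum, coeff_sum, Finsupp.finsetSum_apply]
  simp only [coeff_single, Finsupp.single_apply, Finset.sum_ite_eq', Finset.mem_filter,
    Finset.mem_univ, true_and]
  split_ifs <;> rfl

/-- The sum of a character over products from two classes. -/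
theorem sum_mul_classes [Fintype G] (χ : Cfsg.IrrCharacter G) (g g' : G)
    [DecidablePred (IsConj g)] [DecidablePred (IsConj g')] :
    ∑ a ∈ Finset.univ.filter (IsConj g), ∑ b ∈ Finset.univ.filter (IsConj g'),
      (χ : G → ℂ) (a * b) =
    Cfsg.centralChar (χ : G → ℂ) g * Cfsg.centralChar (χ : G → ℂ) g' * (χ : G → ℂ) 1 := by
  have h1 : omega χ (classSumC ℂ g) = Cfsg.centralChar (χ : G → ℂ) g := omega_classSumC χ g
  have h2 : omega χ (classSumC ℂ g') = Cfsg.centralChar (χ : G → ℂ) g' := omega_classSumC χ g'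
  have h := lin_center_mul χ (classSum_mem_center (k := ℂ) g) (classSum ℂ g')
  rw [omega_apply] at h1 h2
  rw [show lin (χ : G → ℂ) (classSum ℂ g) / (χ : G → ℂ) 1 = _ from h1,
    show lin (χ : G → ℂ) (classSum ℂ g') = Cfsg.centralChar (χ : G → ℂ) g' * (χ : G → ℂ) 1 from
      (div_eq_iff (char_one_ne_zero χ)).1 h2, ← mul_assoc] at h
  rw [← h, classSum_eq_sum, classSum_eq_sum, Finset.sum_mul, map_sum]
  refine Finset.sum_congr rfl fun a _ => ?_
  rw [Finset.mul_sum, map_sum]
  refine Finset.sum_congr rfl fun b _ => ?_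
  rw [single_mul_single, one_mul, lin_single, one_mul]

/-- A natural number is the `p`-part times a number prime to `p`. -/
theorem exists_split (hp : p.Prime) {n : ℕ} (hn : n ≠ 0) :
    ∃ u : ℕ, ¬ p ∣ u ∧ n = p ^ n.factorization p * u :=
  ⟨_, Nat.not_dvd_ordCompl hp hn, (Nat.ordProj_mul_ordCompl_eq_self n p).symm⟩

/-- The indicator of the `p`-elements as a combination of characters with locally integral
coefficients. -/
theorem exists_indicator {M : Ideal Cfsg.AlgInt} [M.IsMaximal] (hM : Cfsg.IsPModular p M)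
    [Fintype (Cfsg.IrrCharacter G)] :
    ∃ s : Cfsg.IrrCharacter G → ℂ, (∀ χ, s χ ∈ localRing M) ∧
      ∀ g : G, ((∃ k : ℕ, g ^ p ^ k = 1) → ∑ χ, s χ * (χ : G → ℂ) g = 1) ∧
        ((¬ ∃ k : ℕ, g ^ p ^ k = 1) → ∑ χ, s χ * (χ : G → ℂ) g = 0) := by
  classical
  haveI := Fintype.ofFinite G
  have hp := hM.1
  obtain ⟨n, hn, hcard⟩ := exists_split hp (Nat.card_pos (α := G)).ne'
  set a := (Nat.card G).factorization p
  have hcop : Nat.Coprime (p ^ a) n := Nat.Coprime.pow_left _ (hp.coprime_iff_not_dvd.2 hn)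
  obtain ⟨k, hk1, hk0⟩ := Brauer.Induction.exists_split_exp hcop.symm
  obtain ⟨c, hc, hf⟩ := Section.exists_coeff (Section.section_mem hcard hcop hk0 hk1 (1 : G))
  have hn0 : (n : ℂ) ≠ 0 := Nat.cast_ne_zero.2 fun h => hn (h ▸ dvd_zero p)
  refine ⟨fun χ => (n : ℂ)⁻¹ * c χ, fun χ => mul_mem (natCast_inv_mem_localRing hM hn)
    (mem_localRing_of_isIntegral (hc χ)), fun g => ?_⟩
  have hval : (n : ℂ) * ∑ χ, (n : ℂ)⁻¹ * c χ * (χ : G → ℂ) g =
      if IsConj (g ^ k) 1 then (n : ℂ) else 0 := by
    have h := congrFun hf g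
    rw [finsum_eq_sum_of_fintype] at h
    simp only [Finset.sum_apply, Pi.smul_apply, smul_eq_mul] at h
    rw [h, Finset.mul_sum]
    exact Finset.sum_congr rfl fun χ _ => by rw [← mul_assoc, ← mul_assoc, mul_inv_cancel₀ hn0, one_mul]
  have hiff : IsConj (g ^ k) 1 ↔ ∃ i : ℕ, g ^ p ^ i = 1 := by
    rw [isConj_one_left]
    constructor
    · intro hgk
      refine ⟨a, ?_⟩
      rw [← orderOf_dvd_iff_pow_eq_one]
      have hdk : orderOf g ∣ k := orderOf_dvd_of_pow_eq_one hgk
      have hdn : Nat.Coprime (orderOf g) n := by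
        refine Nat.Coprime.coprime_dvd_left hdk ?_
        rw [Nat.Coprime, hk1.gcd_eq]
        exact Nat.gcd_one_left n
      exact hdn.dvd_of_dvd_mul_right (hcard ▸ orderOf_dvd_natCard g)
    · rintro ⟨i, hi⟩
      rw [← orderOf_dvd_iff_pow_eq_one] at hi ⊢
      refine dvd_trans ?_ (Nat.modEq_zero_iff_dvd.1 hk0)
      exact (Nat.Coprime.coprime_dvd_left hi (Nat.Coprime.pow_left _
        (hp.coprime_iff_not_dvd.2 hn))).dvd_of_dvd_mul_right (hcard ▸ orderOf_dvd_natCard g)
  refine ⟨fun h => ?_, fun h => ?_⟩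
  · rw [if_pos (hiff.2 h)] at hval
    exact mul_left_cancel₀ hn0 (hval.trans (mul_one _).symm)
  · rw [if_neg (fun h' => h (hiff.1 h'))] at hval
    exact (mul_eq_zero.1 hval).resolve_left hn0

variable {M : Ideal Cfsg.AlgInt} [M.IsMaximal]

theorem residue_natCast_ne_zero (hM : Cfsg.IsPModular p M) {n : ℕ} (hn : ¬ p ∣ n) :
    residue M (n : localRing M) ≠ 0 := by
  intro h
  rw [residue_eq_zero_iff] at h
  exact hn ((memLocalIdeal_natCast_iff hM n).1 (by simpa using h))

theorem residue_natCast_prime (hM : Cfsg.IsPModular p M) : residue M (p : localRing M) = 0 := by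
  rw [residue_eq_zero_iff]
  simpa using natCast_prime_mem_localIdeal hM

theorem centralizer_inv_eq (g : G) :
    Subgroup.centralizer ({g⁻¹} : Set G) = Subgroup.centralizer ({g} : Set G) := by
  ext y
  simp only [Subgroup.mem_centralizer_singleton_iff]
  exact ⟨fun h => (Commute.inv_right_iff.1 h), fun h => (Commute.inv_right_iff.2 h)⟩

/-- Data: elements with a common defect group and separated classes. -/
structure Data (p : ℕ) (D : Subgroup G) {r : ℕ} (x : Fin r → G) : Prop where
  conj : ∀ i j : Fin r, IsConj (x i) (x j) → i = j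
  sylow : ∀ i : Fin r, ∃ S : Sylow p ↥(Subgroup.centralizer ({x i} : Set G)),
    (S : Subgroup ↥(Subgroup.centralizer ({x i} : Set G))).map
      (Subgroup.centralizer ({x i} : Set G)).subtype = D
  sep : ∀ i j : Fin r, ∀ g h : G, IsConj (x i) g → IsConj (x j) h →
    ∀ k : ℕ, 0 < k → orderOf (g * h⁻¹) ≠ p ^ k

variable {D : Subgroup G} {r : ℕ} {x : Fin r → G}

theorem index_factorization [Fact p.Prime] (hd : Data p D x) (i : Fin r) :
    (Subgroup.centralizer ({x i} : Set G)).index.factorization p = D.index.factorization p := by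
  obtain ⟨S, hS⟩ := hd.sylow i
  have h := not_dvd_relIndex_sylow S
  rw [hS] at h
  have hle : D ≤ Subgroup.centralizer ({x i} : Set G) := hS ▸ Subgroup.map_subtype_le _
  rw [← Subgroup.relIndex_mul_index hle,
    Nat.factorization_mul (fun h0 => h (by rw [h0]; exact dvd_zero p)) Subgroup.index_ne_zero_of_finite,
    Finsupp.add_apply, Nat.factorization_eq_zero_of_not_dvd h, zero_add]

/-- The counting identity. -/
theorem sum_eq_delta (hd : Data p D x) (hM : Cfsg.IsPModular p M)
    [Fintype (Cfsg.IrrCharacter G)] :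
    ∃ s : Cfsg.IrrCharacter G → ℂ, (∀ χ, s χ ∈ localRing M) ∧ ∀ i j : Fin r,
      ∑ χ : Cfsg.IrrCharacter G, s χ * (χ : G → ℂ) 1 * Cfsg.centralChar (χ : G → ℂ) (x i) *
        Cfsg.centralChar (χ : G → ℂ) (x j)⁻¹ =
      if i = j then ((Subgroup.centralizer ({x i} : Set G)).index : ℂ) else 0 := by
  classical
  haveI := Fintype.ofFinite G
  have hp := hM.1
  obtain ⟨s, hs, hind⟩ := exists_indicator (G := G) hM
  refine ⟨s, hs, fun i j => ?_⟩
  have h1 : ∑ χ : Cfsg.IrrCharacter G, s χ * (χ : G → ℂ) 1 *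
      Cfsg.centralChar (χ : G → ℂ) (x i) * Cfsg.centralChar (χ : G → ℂ) (x j)⁻¹ =
      ∑ a ∈ Finset.univ.filter (IsConj (x i)), ∑ b ∈ Finset.univ.filter (IsConj (x j)⁻¹),
        ∑ χ : Cfsg.IrrCharacter G, s χ * (χ : G → ℂ) (a * b) := by
    conv_rhs => arg 2; ext a; rw [Finset.sum_comm]
    rw [Finset.sum_comm]
    refine Finset.sum_congr rfl fun χ _ => ?_
    simp only [← Finset.mul_sum]
    rw [sum_mul_classes]
    ring
  rw [h1]
  have hkey : ∀ a b : G, IsConj (x i) a → IsConj (x j)⁻¹ b →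
      ∑ χ : Cfsg.IrrCharacter G, s χ * (χ : G → ℂ) (a * b) = if b = a⁻¹ then 1 else 0 := by
    intro a b ha hb
    split_ifs with hab
    · exact (hind _).1 ⟨0, by rw [hab, mul_inv_cancel, one_pow]⟩
    · refine (hind _).2 fun ⟨k, hk⟩ => hab ?_
      obtain ⟨k', -, hk'⟩ := (Nat.dvd_prime_pow hp).1 (orderOf_dvd_of_pow_eq_one hk)
      have hb' : IsConj (x j) b⁻¹ := by
        obtain ⟨c, hc⟩ := isConj_iff.1 hb
        exact isConj_iff.2 ⟨c, by rw [← hc, conj_inv, inv_inv]⟩
      rcases Nat.eq_zero_or_pos k' with h0 | h0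
      · rw [h0, pow_zero, orderOf_eq_one_iff] at hk'
        exact eq_inv_of_mul_eq_one_right hk'
      · exact absurd (by rwa [inv_inv]) (hd.sep i j a b⁻¹ ha hb' k' h0)
  have hinv : ∀ a : G, IsConj (x i) a → (IsConj (x j)⁻¹ a⁻¹ ↔ i = j) := by
    intro a ha
    obtain ⟨c, hc⟩ := isConj_iff.1 ha
    constructor
    · intro h
      obtain ⟨e, he⟩ := isConj_iff.1 h
      refine (hd.conj j i (IsConj.trans ?_ ha.symm)).symm
      exact isConj_iff.2 ⟨e, by rw [← inv_inj, ← he, conj_inv]⟩
    · rintro rfl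
      exact isConj_iff.2 ⟨c, by rw [← hc, conj_inv]⟩
  rw [Finset.sum_congr rfl (fun a ha => Finset.sum_congr rfl (fun b hb =>
    hkey a b (Finset.mem_filter.1 ha).2 (Finset.mem_filter.1 hb).2))]
  simp only [Finset.sum_ite_eq', Finset.mem_filter, Finset.mem_univ, true_and]
  rw [Finset.sum_congr rfl (fun a ha => if_congr (hinv a (Finset.mem_filter.1 ha).2) rfl rfl)]
  split_ifs with hij
  · rw [Finset.sum_const, nsmul_one, ← card_isConj, Nat.card_eq_fintype_card, Fintype.card_subtype]
  · simp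

/-- The residues of the central characters of height `D`-characters span. -/
theorem span_rows (hd : Data p D x) (hM : Cfsg.IsPModular p M) :
    Submodule.span (Cfsg.AlgInt ⧸ M) (Set.range fun χ : {χ : Cfsg.IrrCharacter G //
        (Cfsg.charDegree (χ : G → ℂ)).factorization p = D.index.factorization p} =>
      fun i : Fin r => residue M (ccR M χ.1 (x i))) = ⊤ := by
  classical
  letI := Ideal.Quotient.field M
  haveI := Fact.mk hM.1
  haveI := Fintype.ofFinite (Cfsg.IrrCharacter G)
  set q := D.index.factorization p with hq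
  obtain ⟨s, hs, hsum⟩ := sum_eq_delta hd hM
  choose c hc hdeg using fun χ : Cfsg.IrrCharacter G => exists_split hM.1 (charDegree_pos χ).ne'
  choose v hv hidx using fun i : Fin r => exists_split hM.1
    (Subgroup.index_ne_zero_of_finite (H := Subgroup.centralizer ({x i} : Set G)))
  simp only [index_factorization hd, ← hq] at hidx
  set sR : Cfsg.IrrCharacter G → localRing M := fun χ => ⟨s χ, hs χ⟩ with hsR
  -- each term is `p ^ q` times a local integer
  have hterm : ∀ (χ : Cfsg.IrrCharacter G) (i j : Fin r), ∃ z : localRing M,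
      s χ * (χ : G → ℂ) 1 * Cfsg.centralChar (χ : G → ℂ) (x i) *
        Cfsg.centralChar (χ : G → ℂ) (x j)⁻¹ = (p : ℂ) ^ q * (z : ℂ) ∧
      residue M z = if (Cfsg.charDegree (χ : G → ℂ)).factorization p = q then
        residue M (sR χ * (c χ : localRing M) * ccR M χ (x j)⁻¹) * residue M (ccR M χ (x i))
        else 0 := by
    intro χ i j
    set f := (Cfsg.charDegree (χ : G → ℂ)).factorization p with hf
    have hχ1 : (χ : G → ℂ) 1 = (p : ℂ) ^ f * (c χ : ℂ) := by
      rw [char_one_eq_degree]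
      conv_lhs => rw [hdeg χ]
      push_cast
      rw [← hf]
    rcases lt_trichotomy f q with hlt | heq | hgt
    · have hcinv := natCast_inv_mem_localRing hM (hc χ)
      have hcc : ∀ y : G, ∀ w : ℕ, (Subgroup.centralizer ({y} : Set G)).index = p ^ q * w →
          Cfsg.centralChar (χ : G → ℂ) y =
            (p : ℂ) ^ (q - f) * ((w : ℂ) * (c χ : ℂ)⁻¹ * (χ : G → ℂ) y) := by
        intro y w hy
        rw [Cfsg.centralChar, hy, hχ1]
        have hp0 : (p : ℂ) ^ f ≠ 0 := pow_ne_zero _ (Nat.cast_ne_zero.2 hM.1.ne_zero)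
        have hc0 : (c χ : ℂ) ≠ 0 := Nat.cast_ne_zero.2 fun h => hc χ (h ▸ dvd_zero p)
        field_simp
        push_cast
        conv_lhs => rw [← Nat.add_sub_cancel' hlt.le, pow_add]
        ring
      let w : localRing M := ⟨s χ * (c χ : ℂ) * ((v i : ℂ) * (c χ : ℂ)⁻¹ * (χ : G → ℂ) (x i)) *
        ((v j : ℂ) * (c χ : ℂ)⁻¹ * (χ : G → ℂ) (x j)⁻¹),
        mul_mem (mul_mem (mul_mem (hs χ) (natCast_mem _ _))
          (mul_mem (mul_mem (natCast_mem _ _) hcinv) (char_mem_localRing χ _)))
          (mul_mem (mul_mem (natCast_mem _ _) hcinv) (char_mem_localRing χ _))⟩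
      refine ⟨(p : localRing M) ^ (q - f) * w, ?_, ?_⟩
      · rw [hcc _ _ (hidx i), hcc _ (v j) (by rw [centralizer_inv_eq]; exact hidx j), hχ1]
        simp only [w, Subring.coe_mul, SubmonoidClass.coe_pow, Subring.coe_natCast]
        rw [show (p : ℂ) ^ q = (p : ℂ) ^ f * (p : ℂ) ^ (q - f) by
          rw [← pow_add, Nat.add_sub_cancel' hlt.le]]
        ring
      · rw [if_neg hlt.ne, map_mul, map_pow, residue_natCast_prime hM,
          zero_pow (Nat.sub_ne_zero_of_lt hlt), zero_mul]
    · refine ⟨sR χ * (c χ : localRing M) * ccR M χ (x j)⁻¹ * ccR M χ (x i), ?_, ?_⟩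
      · rw [hχ1, heq]
        simp only [hsR, Subring.coe_mul, Subring.coe_natCast, coe_ccR]
        ring
      · rw [if_pos heq, map_mul]
    · refine ⟨(p : localRing M) ^ (f - q) *
        (sR χ * (c χ : localRing M) * ccR M χ (x j)⁻¹ * ccR M χ (x i)), ?_, ?_⟩
      · rw [hχ1]
        simp only [hsR, Subring.coe_mul, SubmonoidClass.coe_pow, Subring.coe_natCast, coe_ccR]
        have : f = q + (f - q) := (Nat.add_sub_cancel' hgt.le).symm
        conv_lhs => rw [this, pow_add]
        ring
      · rw [if_neg hgt.ne', map_mul, map_pow, residue_natCast_prime hM,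
          zero_pow (Nat.sub_ne_zero_of_lt hgt), zero_mul]
  choose z hz hzres using hterm
  rw [eq_top_iff, ← (Pi.basisFun (Cfsg.AlgInt ⧸ M) (Fin r)).span_eq, Submodule.span_le]
  rintro _ ⟨j, rfl⟩
  have hmain : ∀ i : Fin r, (if i = j then residue M (v j : localRing M) else 0) =
      ∑ χ : Cfsg.IrrCharacter G, residue M (z χ i j) := by
    intro i
    have h := hsum i j
    simp only [hz, ← Finset.mul_sum] at h
    have hp0 : (p : ℂ) ^ q ≠ 0 := pow_ne_zero _ (Nat.cast_ne_zero.2 hM.1.ne_zero)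
    have he : ∑ χ : Cfsg.IrrCharacter G, z χ i j = if i = j then (v j : localRing M) else 0 := by
      apply Subtype.ext
      refine mul_left_cancel₀ hp0 ?_
      push_cast
      rw [h]
      split_ifs with hij
      · subst hij
        rw [hidx i]
        push_cast
        rfl
      · simp
    rw [← map_sum, he, apply_ite (residue M), map_zero]
  have hvec : Pi.basisFun (Cfsg.AlgInt ⧸ M) (Fin r) j = (residue M (v j : localRing M))⁻¹ •
      fun i => ∑ χ : Cfsg.IrrCharacter G, residue M (z χ i j) := by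
    funext i
    rw [Pi.basisFun_apply, Pi.smul_apply, smul_eq_mul, ← hmain]
    rcases eq_or_ne i j with rfl | hij
    · rw [Pi.single_eq_same, if_pos rfl, inv_mul_cancel₀ (residue_natCast_ne_zero hM (hv i))]
    · rw [Pi.single_eq_of_ne hij, if_neg hij, mul_zero]
  rw [SetLike.mem_coe, hvec]
  refine Submodule.smul_mem _ _ ?_
  rw [show (fun i => ∑ χ : Cfsg.IrrCharacter G, residue M (z χ i j)) =
    ∑ χ : Cfsg.IrrCharacter G, fun i => residue M (z χ i j) from funext fun i => by simp]
  refine Submodule.sum_mem _ fun χ _ => ?_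
  by_cases hfq : (Cfsg.charDegree (χ : G → ℂ)).factorization p = q
  · rw [show (fun i => residue M (z χ i j)) =
      residue M (sR χ * (c χ : localRing M) * ccR M χ (x j)⁻¹) •
        fun i => residue M (ccR M χ (x i)) from funext fun i => by rw [hzres, if_pos hfq]; rfl]
    exact Submodule.smul_mem _ _ (Submodule.subset_span ⟨⟨χ, hfq⟩, rfl⟩)
  · rw [show (fun i => residue M (z χ i j)) = 0 from funext fun i => by rw [hzres, if_neg hfq]; rfl]
    exact Submodule.zero_mem _

/-- A character of the degree of `D` with a nonzero residue lies in a block with defect group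
`D`. -/
theorem isDefectGroup_blockOf (hd : Data p D x) (hM : Cfsg.IsPModular p M)
    {χ : Cfsg.IrrCharacter G}
    (hf : (Cfsg.charDegree (χ : G → ℂ)).factorization p = D.index.factorization p) {i : Fin r}
    (hi : residue M (ccR M χ (x i)) ≠ 0) :
    Cfsg.IsDefectGroup p M (Cfsg.blockOf M (χ : G → ℂ)) D := by
  haveI := Fact.mk hM.1
  have hB : Cfsg.IsPBlock M (Cfsg.blockOf M (χ : G → ℂ)) := isPBlock_blockOf χ
  have hχ := mem_blockOf_self (M := M) χ
  obtain ⟨D', hD'⟩ := exists_isDefectGroup (p := p) hB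
  have hD'' := hD'
  obtain ⟨g0, hg0, P0, hP0⟩ := hD'
  obtain ⟨S, hS⟩ := hd.sylow i
  obtain ⟨y, hy⟩ := exists_conj_le_of_blockCoeff hM hB (g := x i)
    ⟨χ, hχ, fun h => hi ((memLocalIdeal_centralChar_iff χ _).1 h)⟩ S hg0.2.1 (Q := D')
    (hP0 ▸ P0.2.map _) (hP0 ▸ Subgroup.map_subtype_le _)
  rw [hS] at hy
  have hle : D'.index.factorization p ≤ (Cfsg.charDegree (χ : G → ℂ)).factorization p :=
    (hM.1.pow_dvd_iff_le_factorization (charDegree_pos χ).ne').1 (pow_dvd_charDegree hM hB hD'' hχ)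
  obtain ⟨d, hdd⟩ := IsPGroup.iff_card.1 (show IsPGroup p D from hS ▸ S.2.map _)
  obtain ⟨d', hdd'⟩ := IsPGroup.iff_card.1 (isPGroup_isDefectGroup hD'')
  have hfac : ∀ (E : Subgroup G) (e : ℕ), Nat.card E = p ^ e →
      E.index.factorization p + e = (Nat.card G).factorization p := by
    intro E e he
    rw [← Subgroup.index_mul_card E, he, Nat.factorization_mul Subgroup.index_ne_zero_of_finite
      (pow_ne_zero _ hM.1.ne_zero), Finsupp.add_apply, hM.1.factorization_pow, Finsupp.single_eq_same]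
  have hcard : d' ≤ d := by
    have h := Subgroup.card_le_of_le hy
    rw [card_map_conj, hdd, hdd'] at h
    exact (Nat.pow_le_pow_iff_right hM.1.one_lt).1 h
  have h1 := hfac D d hdd
  have h2 := hfac D' d' hdd'
  have hdeq : d' = d := by omega
  have he : D'.map (MulAut.conj y).toMonoidHom = D :=
    Subgroup.eq_of_le_of_card_ge hy (by rw [card_map_conj, hdd, hdd', hdeq])
  exact he ▸ isDefectGroup_map_conj hM hD'' y

theorem main (hd : Data p D x) (hM : Cfsg.IsPModular p M) :
    ∃ B : Fin r → Set (Cfsg.IrrCharacter G), Function.Injective B ∧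
      (∀ i : Fin r, Cfsg.IsPBlock M (B i) ∧ Cfsg.IsDefectGroup p M (B i) D) ∧
      ∀ χ : Fin r → Cfsg.IrrCharacter G,
        (∀ i : Fin r, χ i ∈ B i ∧ Cfsg.blockHeight p (B i) (χ i : G → ℂ) = 0) →
        ¬ Cfsg.MemLocalIdeal M (Matrix.det (Matrix.of fun i j : Fin r =>
          (χ i : G → ℂ) (x j))) := by
  classical
  letI := Ideal.Quotient.field M
  haveI := Fact.mk hM.1
  obtain ⟨κ, e, he, hspan, hli⟩ := exists_linearIndependent' (K := Cfsg.AlgInt ⧸ M)
    (fun χ : {χ : Cfsg.IrrCharacter G //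
        (Cfsg.charDegree (χ : G → ℂ)).factorization p = D.index.factorization p} =>
      fun i : Fin r => residue M (ccR M χ.1 (x i)))
  rw [span_rows hd hM] at hspan
  haveI : Finite κ := Finite.of_injective e he
  haveI := Fintype.ofFinite κ
  have hcard : Fintype.card κ = r := by
    rw [← Module.finrank_eq_card_basis (Module.Basis.mk hli (le_of_eq hspan.symm)),
      Module.finrank_fin_fun]
  let σ : Fin r ≃ κ := (finCongr hcard.symm).trans (Fintype.equivFin κ).symm
  set ξ : Fin r → Cfsg.IrrCharacter G := fun i => (e (σ i)).1 with hξ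
  set W : Matrix (Fin r) (Fin r) (Cfsg.AlgInt ⧸ M) :=
    Matrix.of fun i j => residue M (ccR M (ξ i) (x j)) with hW
  have hWli : LinearIndependent (Cfsg.AlgInt ⧸ M) W.row := hli.comp σ σ.injective
  have hdefect : ∀ i, Cfsg.IsDefectGroup p M (Cfsg.blockOf M (ξ i : G → ℂ)) D := by
    intro i
    have hne := hWli.ne_zero i
    obtain ⟨j, hj⟩ := Function.ne_iff.1 hne
    exact isDefectGroup_blockOf hd hM (e (σ i)).2 hj
  refine ⟨fun i => Cfsg.blockOf M (ξ i : G → ℂ), fun i j hij => ?_, fun i =>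
    ⟨isPBlock_blockOf _, hdefect i⟩, fun χ hχ hmem => ?_⟩
  · exact hWli.injective (funext fun k => residue_ccR_eq_of_mem (isPBlock_blockOf (ξ j))
      ((show Cfsg.blockOf M (ξ i : G → ℂ) = Cfsg.blockOf M (ξ j : G → ℂ) from hij) ▸
        mem_blockOf_self _) (mem_blockOf_self _) (x k))
  set q := D.index.factorization p with hq
  have hdeg0 : ∀ i, (Cfsg.charDegree (χ i : G → ℂ)).factorization p = q := by
    intro i
    have h := (hχ i).2
    rw [blockHeight_eq hM (isPBlock_blockOf _) (hdefect i)] at h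
    have h' := (hM.1.pow_dvd_iff_le_factorization (charDegree_pos (χ i)).ne').1
      (pow_dvd_charDegree hM (isPBlock_blockOf _) (hdefect i) (hχ i).1)
    omega
  choose c hc hdeg using fun i : Fin r => exists_split hM.1 (charDegree_pos (χ i)).ne'
  choose v hv hidx using fun i : Fin r => exists_split hM.1
    (Subgroup.index_ne_zero_of_finite (H := Subgroup.centralizer ({x i} : Set G)))
  simp only [index_factorization hd, ← hq] at hidx
  simp only [hdeg0] at hdeg
  set vinv : Fin r → localRing M := fun j => ⟨(v j : ℂ)⁻¹, natCast_inv_mem_localRing hM (hv j)⟩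
    with hvinv
  set A : Matrix (Fin r) (Fin r) (localRing M) :=
    Matrix.of fun i j => (c i : localRing M) * (vinv j * ccR M (χ i) (x j)) with hA
  have hAval : (Matrix.of fun i j : Fin r => (χ i : G → ℂ) (x j)) =
      A.map (localRing M).subtype := by
    ext i j
    simp only [hA, hvinv, Matrix.of_apply, Matrix.map_apply, Subring.coe_subtype, Subring.coe_mul,
      Subring.coe_natCast, coe_ccR]
    rw [Cfsg.centralChar, hidx j, char_one_eq_degree, hdeg i]
    have hp0 : (p : ℂ) ^ q ≠ 0 := pow_ne_zero _ (Nat.cast_ne_zero.2 hM.1.ne_zero)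
    have hc0 : (c i : ℂ) ≠ 0 := Nat.cast_ne_zero.2 fun h => hc i (h ▸ dvd_zero p)
    have hv0 : (v j : ℂ) ≠ 0 := Nat.cast_ne_zero.2 fun h => hv j (h ▸ dvd_zero p)
    push_cast
    field_simp
  have hdet : Matrix.det (Matrix.of fun i j : Fin r => (χ i : G → ℂ) (x j)) = (A.det : ℂ) := by
    rw [hAval]
    exact (RingHom.map_det (localRing M).subtype A).symm
  rw [hdet, ← residue_eq_zero_iff, RingHom.map_det] at hmem
  have hres : (residue M).mapMatrix A = Matrix.of fun i j => residue M (c i : localRing M) *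
      (Matrix.of fun i j => residue M (vinv j) * W i j) i j := by
    ext i j
    simp only [RingHom.mapMatrix_apply, Matrix.map_apply, hA, Matrix.of_apply, map_mul, hW]
    rw [residue_ccR_eq_of_mem (isPBlock_blockOf (ξ i)) (hχ i).1 (mem_blockOf_self _)]
  rw [hres, Matrix.det_mul_column, Matrix.det_mul_row] at hmem
  have hWdet : W.det ≠ 0 :=
    ((Matrix.isUnit_iff_isUnit_det W).1 (Matrix.linearIndependent_rows_iff_isUnit.1 hWli)).ne_zero
  rcases mul_eq_zero.1 hmem with h | h
  · obtain ⟨i, -, hi⟩ := Finset.prod_eq_zero_iff.1 h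
    exact residue_natCast_ne_zero hM (hc i) hi
  · rcases mul_eq_zero.1 h with h | h
    · obtain ⟨j, -, hj⟩ := Finset.prod_eq_zero_iff.1 h
      have hv0 : (v j : ℂ) ≠ 0 := Nat.cast_ne_zero.2 fun h => hv j (h ▸ dvd_zero p)
      have h1 : vinv j * (v j : localRing M) = 1 := Subtype.ext <| by
        simp [hvinv, hv0]
      have h2 := congrArg (residue M) h1
      rw [map_mul, hj, zero_mul, map_one] at h2
      exact zero_ne_one h2
    · exact hWdet h

end Cfsg.Agent.Lib.Brauer.DefectClasses
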