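import Cfsg.Prelude.Def_Transfer
import Cfsg.Agent.Lib.Characters.Complete
import Cfsg.Agent.Lib.Characters.Linear
import Cfsg.Agent.Lib.Clifford.Monomial

/-!
Irreducible characters of extraspecial groups.
-/

set_option autoImplicit false

namespace Cfsg.Agent.Lib.Brauer.ExtraspecialChar

open Cfsg.Agent.Lib
open scoped ComplexConjugate commutatorElement

universe u

variable {P : Type u} [Group P] [Fintype P] {p : ℕ} [hp : Fact p.Prime]

omit [Fintype P] in
/-- A non-trivial central element generates the centre. -/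
theorem center_le_zpowers (hP : Cfsg.IsExtraspecial p P) {z : P} (hz : z ∈ Subgroup.center P)
    (hz1 : z ≠ 1) : Subgroup.center P ≤ Subgroup.zpowers z := by
  intro y hy
  haveI : Finite (Subgroup.center P) := Nat.finite_of_card_ne_zero (by
    rw [hP.2]; exact hp.out.ne_zero)
  have hgen : ∀ w : Subgroup.center P, w ∈ Subgroup.zpowers (⟨z, hz⟩ : Subgroup.center P) := fun w =>
    mem_zpowers_of_prime_card hP.2 (fun h => hz1 (congrArg Subtype.val h))
  obtain ⟨i, hi⟩ := Subgroup.mem_zpowers_iff.1 (hgen ⟨y, hy⟩)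
  exact ⟨i, by simpa using congrArg Subtype.val hi⟩

/-- A non-central element is conjugate to all its translates by central elements. -/
theorem isConj_mul_center (hP : Cfsg.IsExtraspecial p P) {x : P} (hx : x ∉ Subgroup.center P)
    {z : P} (hz : z ∈ Subgroup.center P) : IsConj x (x * z) := by
  obtain ⟨y, hy⟩ : ∃ y, y * x ≠ x * y := by
    by_contra h
    exact hx (Subgroup.mem_center_iff.2 fun g => not_not.1 fun hg => h ⟨g, hg⟩)
  set w : P := x⁻¹ * (y * x * y⁻¹) with hw
  have hwc : w ∈ Subgroup.center P := by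
    have h1 : ⁅x⁻¹, y⁆ ∈ commutator P :=
      Subgroup.commutator_mem_commutator (Subgroup.mem_top _) (Subgroup.mem_top _)
    rw [hP.1.2.2] at h1
    have : w = ⁅x⁻¹, y⁆ := by simp [hw, commutatorElement_def, mul_assoc]
    rwa [this]
  have hw1 : w ≠ 1 := by
    intro h
    apply hy
    rw [hw, inv_mul_eq_one] at h
    calc y * x = y * x * y⁻¹ * y := by rw [inv_mul_cancel_right]
      _ = x * y := by rw [← h]
  have hpow : ∀ i : ℕ, y ^ i * x * (y ^ i)⁻¹ = x * w ^ i := by
    intro i
    induction i with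
    | zero => simp
    | succ i ih =>
      have hc : y * w ^ i = w ^ i * y := Subgroup.mem_center_iff.1 (pow_mem hwc i) y
      calc y ^ (i + 1) * x * (y ^ (i + 1))⁻¹ = y * (y ^ i * x * (y ^ i)⁻¹) * y⁻¹ := by
            rw [pow_succ']; group
        _ = y * x * w ^ i * y⁻¹ := by rw [ih]; group
        _ = y * x * y⁻¹ * w ^ i := by
          have hc2 : w ^ i * y⁻¹ = y⁻¹ * w ^ i :=
            (Subgroup.mem_center_iff.1 (pow_mem hwc i) y⁻¹).symm
          rw [mul_assoc (y * x), hc2, ← mul_assoc]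
        _ = x * w ^ (i + 1) := by
          rw [pow_succ', ← mul_assoc x w, show x * w = y * x * y⁻¹ by rw [hw, mul_inv_cancel_left]]
  have hmem : z ∈ Submonoid.powers w := mem_powers_iff_mem_zpowers.2 (center_le_zpowers hP hwc hw1 hz)
  obtain ⟨i, rfl⟩ := hmem
  exact isConj_iff.2 ⟨y ^ i, hpow i⟩

/-- A class function with a non-trivial central character vanishes off the centre. -/
theorem vanish_of_translate (hP : Cfsg.IsExtraspecial p P) {χ : P → ℂ}
    (hcl : Cfsg.IsClassFunction P χ) {z : P} (hz : z ∈ Subgroup.center P) {c : ℂ} (hc : c ≠ 1)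
    (hmul : ∀ x, χ (x * z) = c * χ x) {x : P} (hx : x ∉ Subgroup.center P) : χ x = 0 := by
  have h : χ x = χ (x * z) :=
    Characters.Basic.classFunction_apply_of_isConj hcl (isConj_mul_center hP hx hz)
  rw [hmul] at h
  by_contra h0
  exact hc (mul_eq_right₀ h0 |>.1 h.symm)

omit [Fintype P] in
theorem pos_of_extraspecial [Finite P] (hP : Cfsg.IsExtraspecial p P) {n : ℕ}
    (hcard : Nat.card P = p ^ (2 * n + 1)) : 0 < n := by
  by_contra hn
  have hn0 : n = 0 := by omega
  subst hn0
  have hZ : Subgroup.center P = ⊤ := Subgroup.eq_top_of_le_card _ (by rw [hP.2, hcard]; simp)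
  have h1 : commutator P = ⊥ := by
    rw [commutator_def, eq_bot_iff, Subgroup.commutator_le]
    intro a _ b _
    rw [Subgroup.mem_bot, commutatorElement_eq_one_iff_mul_comm]
    exact Subgroup.mem_center_iff.1 (hZ ▸ Subgroup.mem_top b) a
  rw [hP.1.2.2, hZ] at h1
  have h2 := congrArg (fun H : Subgroup P => Nat.card H) h1
  simp only [Subgroup.card_top, Subgroup.card_bot, hcard] at h2
  exact hp.out.one_lt.ne' (by simpa using h2)

/-- An irreducible character non-trivial on the centre has degree `p ^ n` and vanishes off it. -/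
theorem degree_cases (hP : Cfsg.IsExtraspecial p P) {n : ℕ} (hcard : Nat.card P = p ^ (2 * n + 1))
    (χ : Cfsg.IrrCharacter P) :
    (χ : P → ℂ) 1 = 1 ∨ ((χ : P → ℂ) 1 = (p : ℂ) ^ n ∧
      ∀ x, x ∉ Subgroup.center P → (χ : P → ℂ) x = 0) := by
  classical
  obtain ⟨d, ρ, hρ, hχ⟩ := Characters.Basic.exists_rep χ
  have hscal : ∀ z ∈ Subgroup.center P, ∃ c : ℂ, ρ z = c • (1 : Module.End ℂ _) := fun z hz =>
    Clifford.Rep.schur ρ (ρ z) (fun g => by rw [← map_mul, ← map_mul, Subgroup.mem_center_iff.1 hz g])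
  by_cases htriv : ∀ z ∈ Subgroup.center P, ρ z = 1
  · left
    have h : ∀ a b, ρ a * ρ b = ρ b * ρ a := by
      intro a b
      have hmem : ⁅a, b⁆ ∈ Subgroup.center P := by
        rw [← hP.1.2.2]
        exact Subgroup.commutator_mem_commutator (Subgroup.mem_top _) (Subgroup.mem_top _)
      have e : a * b = ⁅a, b⁆ * (b * a) := by simp [commutatorElement_def, mul_assoc]
      rw [← map_mul, ← map_mul, e, map_mul, htriv _ hmem, one_mul]
    rw [← hχ, Representation.char_one, Clifford.Monomial.finrank_eq_one_of_commute ρ h, Nat.cast_one]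
  · right
    obtain ⟨z, hz, hzne⟩ : ∃ z ∈ Subgroup.center P, ρ z ≠ 1 := by
      by_contra h
      exact htriv fun z hz => not_not.1 fun hh => h ⟨z, hz, hh⟩
    obtain ⟨c, hc⟩ := hscal z hz
    have hc1 : c ≠ 1 := fun h => hzne (by rw [hc, h, one_smul])
    have hmul : ∀ x, (χ : P → ℂ) (x * z) = c * (χ : P → ℂ) x := by
      intro x
      rw [← hχ]
      show LinearMap.trace ℂ _ (ρ (x * z)) = c * LinearMap.trace ℂ _ (ρ x)
      rw [map_mul, hc, mul_smul_comm, mul_one, map_smul, smul_eq_mul]
    have hvan : ∀ x, x ∉ Subgroup.center P → (χ : P → ℂ) x = 0 := fun x hx =>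
      vanish_of_translate hP (Characters.Basic.isClassFunction_irr χ) hz hc1 hmul hx
    refine ⟨?_, hvan⟩
    obtain ⟨m, hm0, hm⟩ := Characters.Basic.exists_degree_pos χ
    have hnorm := Characters.Basic.classInner_self_irr χ
    rw [Cfsg.classInner, inv_mul_eq_one₀ (by exact_mod_cast Nat.card_pos.ne')] at hnorm
    have hval : ∀ w ∈ Subgroup.center P,
        (χ : P → ℂ) w * conj ((χ : P → ℂ) w) = ((m ^ 2 : ℕ) : ℂ) := by
      intro w hw
      obtain ⟨a, ha⟩ := hscal w hw
      obtain ⟨b, hb⟩ := hscal w⁻¹ ((Subgroup.center P).inv_mem hw)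
      have hd : (d : ℂ) = (m : ℂ) := by
        rw [← hm, ← hχ, Representation.char_one, Module.finrank_fin_fun]
      have hab : a * b * (d : ℂ) = (d : ℂ) := by
        have := congrArg (LinearMap.trace ℂ _) (show ρ w * ρ w⁻¹ = 1 by rw [← map_mul, mul_inv_cancel, map_one])
        rw [ha, hb, smul_mul_smul_comm, mul_one, map_smul, LinearMap.trace_one, Module.finrank_fin_fun,
          smul_eq_mul] at this
        exact this
      have e1 : (χ : P → ℂ) w = a * d := by
        rw [← hχ]
        show LinearMap.trace ℂ _ (ρ w) = _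
        rw [ha, map_smul, LinearMap.trace_one, Module.finrank_fin_fun, smul_eq_mul]
      have e2 : conj ((χ : P → ℂ) w) = b * d := by
        rw [← Characters.Basic.apply_inv (Characters.Basic.isCharacter_irr χ), ← hχ]
        show LinearMap.trace ℂ _ (ρ w⁻¹) = _
        rw [hb, map_smul, LinearMap.trace_one, Module.finrank_fin_fun, smul_eq_mul]
      rw [e2, e1]
      push_cast
      rw [← hd]
      linear_combination (d : ℂ) * hab
    have hsum : ∑ x : P, (χ : P → ℂ) x * conj ((χ : P → ℂ) x) = ((p * m ^ 2 : ℕ) : ℂ) := by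
      rw [← Finset.sum_filter_add_sum_filter_not Finset.univ (· ∈ Subgroup.center P),
        Finset.sum_eq_zero (s := Finset.univ.filter fun x => x ∉ Subgroup.center P)
          (fun x hx => by rw [hvan x (Finset.mem_filter.1 hx).2, zero_mul]), add_zero,
        Finset.sum_congr rfl (fun x hx => hval x (Finset.mem_filter.1 hx).2), Finset.sum_const,
        nsmul_eq_mul, ← Fintype.card_subtype, ← Nat.card_eq_fintype_card]
      rw [show Nat.card {x : P // x ∈ Subgroup.center P} = p from hP.2]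
      push_cast
      rfl
    rw [hsum] at hnorm
    have h2 : p ^ (2 * n + 1) = p * m ^ 2 := by
      rw [← hcard]; exact_mod_cast hnorm
    rw [pow_succ', Nat.mul_left_cancel_iff hp.out.pos, mul_comm 2 n, pow_mul] at h2
    have h3 : p ^ n = m := Nat.pow_left_injective two_ne_zero h2
    rw [hm, ← h3, Nat.cast_pow]

/-- The number of characters of the large degree. -/
theorem card_degree_eq (hP : Cfsg.IsExtraspecial p P) {n : ℕ} (hcard : Nat.card P = p ^ (2 * n + 1)) :
    Nat.card {χ : Cfsg.IrrCharacter P // (χ : P → ℂ) 1 = (p : ℂ) ^ n} = p - 1 := by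
  classical
  haveI : Fintype (Cfsg.IrrCharacter P) := Fintype.ofFinite _
  set a := Nat.card {χ : Cfsg.IrrCharacter P // (χ : P → ℂ) 1 = 1} with ha
  set b := Nat.card {χ : Cfsg.IrrCharacter P // (χ : P → ℂ) 1 = (p : ℂ) ^ n} with hb
  have hn := pos_of_extraspecial hP hcard
  have hne : (p : ℂ) ^ n ≠ 1 := by
    have : p ^ n ≠ 1 := by
      intro h
      rcases Nat.pow_eq_one.1 h with h | h
      · exact hp.out.ne_one h
      · omega
    exact_mod_cast this
  have ha2 : a * p = p ^ (2 * n + 1) := by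
    rw [ha, Characters.Linear.card_linear, hP.1.2.2, ← hcard, ← (Subgroup.center P).card_mul_index,
      hP.2, mul_comm]
  have hsum : ∑ χ : Cfsg.IrrCharacter P, (χ : P → ℂ) 1 ^ 2 = (Nat.card P : ℂ) := by
    rw [← Characters.Complete.finsum_degree_sq, finsum_eq_sum_of_fintype]
  have h1 : ∀ χ : Cfsg.IrrCharacter P, (χ : P → ℂ) 1 ^ 2 =
      (if (χ : P → ℂ) 1 = 1 then 1 else 0) +
        ((p : ℂ) ^ n) ^ 2 * (if (χ : P → ℂ) 1 = (p : ℂ) ^ n then 1 else 0) := by
    intro χ
    rcases degree_cases hP hcard χ with h | ⟨h, -⟩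
    · rw [h, if_pos rfl, if_neg (Ne.symm hne)]; simp
    · rw [h, if_neg hne, if_pos rfl]; simp
  rw [Finset.sum_congr rfl (fun χ _ => h1 χ), Finset.sum_add_distrib, ← Finset.mul_sum,
    Finset.sum_boole, Finset.sum_boole] at hsum
  rw [← Fintype.card_subtype, ← Fintype.card_subtype, ← Nat.card_eq_fintype_card,
    ← Nat.card_eq_fintype_card, ← ha, ← hb, hcard] at hsum
  have h2 : a + (p ^ n) ^ 2 * b = p ^ (2 * n + 1) := by exact_mod_cast hsum
  have h3 : a = (p ^ n) ^ 2 := by
    apply Nat.eq_of_mul_eq_mul_right hp.out.pos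
    rw [ha2, ← pow_mul, ← pow_succ, mul_comm 2 n]
  have hpp : p ^ (2 * n + 1) = (p ^ n) ^ 2 * p := by rw [← pow_mul, ← pow_succ, mul_comm 2 n]
  rw [h3, hpp] at h2
  have h4 : 1 + b = p := by
    apply Nat.eq_of_mul_eq_mul_left (show 0 < (p ^ n) ^ 2 from pow_pos (pow_pos hp.out.pos n) 2)
    rw [mul_add, mul_one, h2]
  omega

end Cfsg.Agent.Lib.Brauer.ExtraspecialChar
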