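import Cfsg.Agent.Lib.Brauer.PrimitiveDescent
import Cfsg.Agent.Lib.Cores.MinNormal
import Cfsg.Agent.Lib.PGroups.Omega

/-!
Berger's theorem: a character whose restrictions to the normal subgroups above `L` are homogeneous,
with `G / L` solvable, is not induced from a proper subgroup containing `L`.
-/

set_option autoImplicit false

namespace Cfsg.Agent.Lib.Brauer.Primitive

open scoped ComplexConjugate
open Cfsg.Agent.Lib.Induced.Basic Cfsg.Agent.Lib.Characters.Basic Cfsg.Agent.Lib.Characters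
open Cfsg.Agent.Lib.Clifford Cfsg.Agent.Lib.Clifford.Basic
open Cfsg.Agent.Lib.Brauer

universe u

/-- The shape of a solvable group with a core-free maximal subgroup. -/
theorem chief_data {X : Type u} [Group X] [Finite X] [Group.IsSolvable X] (M : Subgroup X)
    (hM : IsCoatom M) (hcore : ∀ N : Subgroup X, N.Normal → N ≤ M → N = ⊥) :
    ∃ N : Subgroup X, N.Normal ∧ N ≠ ⊥ ∧ Subgroup.IsComplement' N M ∧
      ∃ p : ℕ, p.Prime ∧ IsPGroup p N ∧ (M = ⊥ ∨
        ∃ Q : Subgroup X, Q ≤ M ∧ (∀ m ∈ M, ∀ z ∈ Q, m * z * m⁻¹ ∈ Q) ∧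
          ∃ q : ℕ, q.Prime ∧ q ≠ p ∧ IsPGroup q Q ∧
            ∃ x ∈ Q, ∃ k ∈ N, x * k * x⁻¹ * k⁻¹ ≠ 1) := by
  haveI : Nontrivial X := by
    by_contra h
    rw [not_nontrivial_iff_subsingleton] at h
    exact hM.1 ((Subgroup.eq_top_iff' _).2 fun x => Subsingleton.elim 1 x ▸ M.one_mem)
  obtain ⟨N, hN, hNne, hmin⟩ := Cores.MinNormal.exists_minimal (G := X)
  haveI := hN
  obtain ⟨hcomm, p, hp, hpN⟩ := Cores.MinNormal.elementary_of_solvable hNne hmin
  haveI := hcomm
  have hNp : IsPGroup p N := Cores.MinNormal.isPGroup_of_pow_eq_one hpN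
  have hnle : ¬ N ≤ M := fun h => hNne (hcore N hN h)
  have hcompl := Cores.MinNormal.isComplement'_of_not_le hM hmin hnle
  refine ⟨N, hN, hNne, hcompl, p, hp, hNp, ?_⟩
  by_cases hMbot : M = ⊥
  · exact Or.inl hMbot
  right
  have hsup : N ⊔ M = ⊤ := hcompl.sup_eq_top
  haveI : Nontrivial M := (Subgroup.nontrivial_iff_ne_bot M).2 hMbot
  obtain ⟨Q0, hQ0, hQ0ne, hQ0min⟩ := Cores.MinNormal.exists_minimal (G := M)
  haveI := hQ0
  obtain ⟨-, q, hq, hqQ⟩ := Cores.MinNormal.elementary_of_solvable hQ0ne hQ0min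
  set Q := Q0.map M.subtype with hQ
  have hQM : Q ≤ M := Subgroup.map_subtype_le Q0
  have hQne : Q ≠ ⊥ := fun h => hQ0ne ((Subgroup.map_eq_bot_iff_of_injective _ M.subtype_injective).1 h)
  have hQn : ∀ m ∈ M, ∀ z ∈ Q, m * z * m⁻¹ ∈ Q := by
    rintro m hm _ ⟨z, hz, rfl⟩
    exact ⟨⟨m, hm⟩ * z * ⟨m, hm⟩⁻¹, hQ0.conj_mem z hz _, rfl⟩
  have hQq : IsPGroup q Q := (Cores.MinNormal.isPGroup_of_pow_eq_one hqQ).map M.subtype
  have hnc : ¬ ∀ x ∈ Q, ∀ k ∈ N, x * k = k * x := by
    intro hall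
    refine hQne (hcore Q ?_ hQM)
    rw [← Subgroup.normalizer_eq_top_iff, ← top_le_iff, ← hsup]
    refine sup_le (Subgroup.le_normalizer_iff.2 fun n hn z hz => ?_)
      (Subgroup.le_normalizer_iff.2 fun m hm z hz => hQn m hm z hz)
    rw [← hall z hz n hn, mul_inv_cancel_right]
    exact hz
  push Not at hnc
  obtain ⟨x, hx, k, hk, hxk⟩ := hnc
  refine ⟨Q, hQM, hQn, q, hq, ?_, hQq, x, hx, k, hk, fun h => hxk ?_⟩
  · intro hqp
    subst hqp
    haveI : Fact q.Prime := ⟨hp⟩
    have hS : IsPGroup q (Q ⊔ N : Subgroup X) := hQq.to_sup_of_normal_right hNp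
    have hNS : N.subgroupOf (Q ⊔ N) ≠ ⊥ := fun h => hNne (by
      rw [Subgroup.subgroupOf_eq_bot] at h
      exact h.eq_bot_of_le le_sup_right)
    have hne := PGroups.normal_inf_center_ne_bot hS _ hNS
    set F := N ⊓ Subgroup.centralizer (Q : Set X) with hF
    have hFne : F ≠ ⊥ := by
      intro hbot
      apply hne
      rw [Subgroup.eq_bot_iff_forall]
      intro z hz
      have hzF : (z : X) ∈ F := ⟨hz.1, Subgroup.mem_centralizer_iff.2 fun w hw =>
        congrArg Subtype.val (Subgroup.mem_center_iff.1 hz.2 ⟨w, Subgroup.mem_sup_left hw⟩)⟩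
      rw [hbot, Subgroup.mem_bot] at hzF
      exact Subtype.ext hzF
    have hFn : F.Normal := by
      rw [← Subgroup.normalizer_eq_top_iff, ← top_le_iff, ← hsup]
      refine sup_le (Subgroup.le_normalizer_iff.2 fun n hn z hz => ?_)
        (Subgroup.le_normalizer_iff.2 fun m hm z hz => ⟨hN.conj_mem z hz.1 m, ?_⟩)
      · have h1 : n * z = z * n := congrArg Subtype.val (mul_comm' (⟨n, hn⟩ : N) ⟨z, hz.1⟩)
        rwa [h1, mul_inv_cancel_right]
      · refine Subgroup.mem_centralizer_iff.2 fun w hw => ?_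
        have h2 : m⁻¹ * w * m ∈ Q := by simpa using hQn m⁻¹ (M.inv_mem hm) w hw
        have h3 := Subgroup.mem_centralizer_iff.1 hz.2 _ h2
        calc w * (m * z * m⁻¹) = m * ((m⁻¹ * w * m) * z) * m⁻¹ := by group
          _ = m * (z * (m⁻¹ * w * m)) * m⁻¹ := by rw [h3]
          _ = m * z * m⁻¹ * w := by group
    have hFN : F = N := (hmin F hFn inf_le_left).resolve_left hFne
    rw [← hFN] at hk
    exact hxk (Subgroup.mem_centralizer_iff.1 hk.2 x hx)
  · calc x * k = x * k * x⁻¹ * k⁻¹ * k * x := by group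
      _ = k * x := by rw [h, one_mul]

variable {G : Type u} [Group G] [Fintype G]

/-- Induced characters from a maximal subgroup, by induction on the codimension of its core. -/
theorem not_induced_coatom {χ : G → ℂ} (hχ : Cfsg.IsIrrCharacter G χ) (L : Subgroup G) [L.Normal]
    (hsolv : Group.IsSolvable (G ⧸ L))
    (hom : ∀ M : Subgroup G, M.Normal → L ≤ M → ∃ (φ : M → ℂ) (e : ℕ),
      Cfsg.IsIrrCharacter M φ ∧ (fun m : M => χ m) = (e : ℂ) • φ) :
    ∀ (m : ℕ) (H : Subgroup G), Nat.card G - Nat.card H.normalCore = m → IsCoatom H → L ≤ H →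
      ∀ δ : H → ℂ, Cfsg.IsCharacter H δ → Cfsg.indFun H δ ≠ χ := by
  classical
  intro m
  induction m using Nat.strong_induction_on with
  | _ m ih => ?_
  intro H hcard hH hLH δ hδc hind
  haveI : Fintype H := Fintype.ofFinite _
  have hδ : Cfsg.IsIrrCharacter H δ := Clifford.Monomial.isIrr_of_indFun_irr H hδc (hind ▸ hχ)
  have hcl := isClassFunction_irr (⟨χ, hχ⟩ : Cfsg.IrrCharacter G)
  have hχH : Cfsg.classInner (fun h : H => χ h) δ ≠ 0 := by
    rw [← frobenius_reciprocity' H δ hcl, hind,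
      show Cfsg.classInner χ χ = 1 from classInner_self_irr ⟨χ, hχ⟩]
    exact one_ne_zero
  set C := H.normalCore with hC
  have hCH : C ≤ H := Subgroup.normalCore_le H
  have hLC : L ≤ C := Subgroup.normal_le_normalCore.2 hLH
  haveI : Fintype C := Fintype.ofFinite _
  obtain ⟨φ, e, hφ, he⟩ := hom C inferInstance hLC
  -- the restriction of the inducing character to the core
  obtain ⟨a, -, hδC⟩ : ∃ a : ℕ, a ≤ e ∧ δ ∘ (Subgroup.inclusion hCH) = (a : ℂ) • φ := by
    obtain ⟨M, r, hr, hM, -, hdec⟩ := exists_eq_nsmul_add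
      (isCharacter_comp H.subtype (IsCharacter_of_isIrrCharacter hχ)) ⟨δ, hδ⟩
    obtain ⟨M', rfl⟩ := Nat.exists_eq_succ_of_ne_zero
      (fun h0 : M = 0 => hχH (hM.trans (by rw [h0, Nat.cast_zero])))
    refine CharTools.eq_smul_of_add (isCharacter_comp _ hδc)
      (isCharacter_comp (Subgroup.inclusion hCH) (isCharacter_add (isCharacter_nsmul hδc M') hr)) hφ (funext fun c => ?_)
    rw [← congrFun he c]
    have := congrFun hdec (Subgroup.inclusion hCH c)
    rw [succ_nsmul] at this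
    refine Eq.trans ?_ this.symm
    simp only [Pi.add_apply, Function.comp_apply]
    ring
  have hφ1 : φ 1 ≠ 0 := Clifford.Basic.degree_pos hφ
  have hδ1 : δ 1 = (a : ℂ) * φ 1 := by
    have := congrFun hδC 1
    rwa [Function.comp_apply, map_one] at this
  have ha : a ≠ 0 := fun h0 => Clifford.Basic.degree_pos hδ (by rw [hδ1, h0, Nat.cast_zero, zero_mul])
  have he' : e = H.index * a := by
    have h1 := congrFun he 1
    rw [OneMemClass.coe_one, ← hind, indFun_one, hδ1, Pi.smul_apply, smul_eq_mul, ← mul_assoc] at h1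
    exact_mod_cast (mul_right_cancel₀ hφ1 h1).symm
  -- the quotient by the core
  set π := QuotientGroup.mk' C with hπdef
  have hπ : Function.Surjective π := QuotientGroup.mk'_surjective C
  haveI : Group.IsSolvable (G ⧸ C) := by
    haveI := hsolv
    refine solvable_of_surjective (f := QuotientGroup.map L C (MonoidHom.id G) hLC) ?_
    intro x
    obtain ⟨g, rfl⟩ := hπ x
    exact ⟨(g : G ⧸ L), rfl⟩
  set Hb := H.map π with hHb
  have hcm : Hb.comap π = H := by
    rw [hHb, Subgroup.comap_map_eq, QuotientGroup.ker_mk', sup_eq_left]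
    exact hCH
  have hHbC : IsCoatom Hb := by
    refine ⟨fun h => hH.1 (by rw [← hcm, h, Subgroup.comap_top]), fun S hS => ?_⟩
    have h1 : H < S.comap π := by
      exact hcm.symm.trans_lt ((Subgroup.comap_lt_comap_of_surjective hπ).2 hS)
    have h2 := hH.2 _ h1
    rw [← Subgroup.map_comap_eq_self_of_surjective hπ S, h2, ← MonoidHom.range_eq_map,
      MonoidHom.range_eq_top.2 hπ]
  have hcore : ∀ N : Subgroup (G ⧸ C), N.Normal → N ≤ Hb → N = ⊥ := by
    intro N hN hle
    have h1 : N.comap π ≤ C := by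
      haveI := hN
      exact Subgroup.normal_le_normalCore.2 ((Subgroup.comap_mono hle).trans hcm.le)
    rw [← Subgroup.map_comap_eq_self_of_surjective hπ N, Subgroup.map_eq_bot_iff, QuotientGroup.ker_mk']
    exact h1
  obtain ⟨N, hN, hNne, hcompl, p, hp, hNp, hM⟩ := chief_data Hb hHbC hcore
  set K := N.comap π with hK
  haveI : K.Normal := hN.comap π
  haveI : Fintype K := Fintype.ofFinite _
  have hCK : C ≤ K := fun c hc => show π c ∈ N by
    rw [show π c = 1 from (QuotientGroup.eq_one_iff c).2 hc]; exact N.one_mem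
  have hKH : K ⊓ H ≤ C := by
    rintro g ⟨hg1, hg2⟩
    have : π g ∈ N ⊓ Hb := ⟨hg1, ⟨g, hg2, rfl⟩⟩
    rw [disjoint_iff.1 hcompl.disjoint, Subgroup.mem_bot] at this
    exact (QuotientGroup.eq_one_iff g).1 this
  have hfac : ∀ g : G, ∃ k ∈ K, ∃ h ∈ H, g = k * h := by
    intro g
    obtain ⟨⟨⟨k', hk'⟩, ⟨h', hh'⟩⟩, hkh⟩ := hcompl.existsUnique (π g) |>.exists
    obtain ⟨h, hh, rfl⟩ := hh'
    refine ⟨g * h⁻¹, ?_, h, hh, by rw [inv_mul_cancel_right]⟩
    show π (g * h⁻¹) ∈ N
    have e1 : π g = k' * π h := hkh.symm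
    rw [map_mul, e1, map_inv, mul_inv_cancel_right]
    exact hk'
  have hn : H.index = Nat.card N := by
    exact (congrArg Subgroup.index hcm).symm.trans
      ((Subgroup.index_comap_of_surjective _ hπ).trans hcompl.index_eq_card)
  have hKcard : Nat.card K = Nat.card C * H.index := by
    have h1 : C.relIndex K = Nat.card N := by
      conv_lhs => rw [show C = (⊥ : Subgroup (G ⧸ C)).comap π from by
        rw [MonoidHom.comap_bot, QuotientGroup.ker_mk']]
      rw [Subgroup.relIndex_comap, hK, Subgroup.map_comap_eq_self_of_surjective hπ,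
        Subgroup.relIndex_bot_left]
    rw [hn, ← h1, ← (C.subgroupOf K).card_mul_index,
      Nat.card_congr (Subgroup.subgroupOfEquivOfLe hCK).toEquiv]
    rfl
  -- the restriction to the chief factor
  obtain ⟨ψ, f, hψ, hf⟩ := hom K inferInstance (hLC.trans hCK)
  have hχv : ∀ g : G, g ∈ K → g ∉ C → χ g = 0 := by
    intro g hgK hgC
    rw [← hind]
    refine indFun_eq_zero_of_forall_not_mem H δ fun x hx => hgC ?_
    have h1 : x⁻¹ * g * x ∈ C := hKH ⟨by simpa using (inferInstance : K.Normal).conj_mem g hgK x⁻¹, hx⟩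
    simpa [mul_assoc] using (inferInstance : C.Normal).conj_mem _ h1 x
  have hf2 : f ^ 2 = H.index * a ^ 2 := by
    have h1 := classInner_self_irr (⟨ψ, hψ⟩ : Cfsg.IrrCharacter K)
    have h2 : Cfsg.classInner φ φ = 1 := classInner_self_irr ⟨φ, hφ⟩
    rw [Cfsg.classInner, inv_mul_eq_one₀ natCard_ne_zero] at h1 h2
    have h3 : ∑ k : K, χ k * conj (χ k) = ((f : ℂ) ^ 2) * Nat.card K := by
      rw [h1, Finset.mul_sum]
      refine Finset.sum_congr rfl fun k _ => ?_
      rw [congrFun hf k, Pi.smul_apply, smul_eq_mul, map_mul, map_natCast]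
      ring
    have h4 : ∑ k : K, χ k * conj (χ k) = ((e : ℂ) ^ 2) * Nat.card C := by
      rw [h2, Finset.mul_sum]
      refine (Finset.sum_of_injOn (Subgroup.inclusion hCK) (Subgroup.inclusion_injective hCK).injOn
        (fun _ _ => Finset.mem_univ _) (fun k _ hk => ?_) (fun c _ => ?_)).symm
      · rw [hχv k k.2 (fun hkC => hk ⟨⟨k, hkC⟩, Finset.mem_univ _, Subtype.ext rfl⟩), zero_mul]
      · rw [show χ ((Subgroup.inclusion hCK c : K) : G) = (e : ℂ) * φ c from congrFun he c, map_mul,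
          map_natCast]
        ring
    rw [h3, hKcard, he'] at h4
    have h5 : f ^ 2 * (Nat.card C * H.index) = (H.index * a) ^ 2 * Nat.card C := by exact_mod_cast h4
    refine Nat.eq_of_mul_eq_mul_right (Nat.mul_pos (Nat.card_pos (α := C))
      (Nat.pos_of_ne_zero H.index_ne_zero_of_finite)) ?_
    rw [h5]; ring
  obtain ⟨s, hs⟩ : a ∣ f := (Nat.pow_dvd_pow_iff two_ne_zero).1 ⟨H.index, by rw [hf2, mul_comm]⟩
  rw [mul_comm] at hs
  have hsn : s ^ 2 = H.index := by
    apply Nat.eq_of_mul_eq_mul_right (pow_pos (Nat.pos_of_ne_zero ha) 2)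
    rw [← hf2, hs, mul_pow]
  have hs0 : s ≠ 0 := fun h0 => H.index_ne_zero_of_finite (by rw [← hsn, h0]; rfl)
  have hsa : ((s * a : ℕ) : ℂ) ≠ 0 := Nat.cast_ne_zero.2 (mul_ne_zero hs0 ha)
  have hχK : ∀ k : K, χ k = ((s * a : ℕ) : ℂ) * ψ k := fun k => by
    rw [← hs]; exact congrFun hf k
  have hψv : ∀ k : K, (k : G) ∉ C → ψ k = 0 := fun k hk =>
    (mul_eq_zero.1 ((hχK k).symm.trans (hχv k k.2 hk))).resolve_left hsa
  have hψC : ∀ c : C, ψ ⟨(c : G), hCK c.2⟩ = (s : ℂ) * φ c := by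
    intro c
    apply mul_left_cancel₀ hsa
    rw [← hχK, show χ (c : G) = (e : ℂ) * φ c from congrFun he c, he', ← hsn]
    push_cast
    ring
  rcases hM with hbot | ⟨Qb, hQb, hQbn, q, hq, hqp, hQq, x, hx, k, hk, hxk⟩
  · -- the core is the whole of `H`
    have hKtop : K = ⊤ := by
      refine (Subgroup.eq_top_iff' _).2 fun g => ?_
      obtain ⟨k, hk, h, hh, rfl⟩ := hfac g
      have : π h ∈ Hb := ⟨h, hh, rfl⟩
      rw [hbot, Subgroup.mem_bot] at this
      exact K.mul_mem hk (hCK ((QuotientGroup.eq_one_iff h).1 this))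
    haveI : Fintype (⊤ : Subgroup G) := Fintype.ofFinite _
    have hirr : Cfsg.IsIrrCharacter K (fun k : K => χ k) :=
      isIrrCharacter_comp K.subtype (fun g => ⟨⟨g, hKtop ▸ Subgroup.mem_top g⟩, rfl⟩) hχ
    have h1 : Cfsg.classInner (fun k : K => χ k) (fun k : K => χ k) = 1 :=
      classInner_self_irr ⟨_, hirr⟩
    rw [hf, classInner_smul_left, classInner_smul_right, map_natCast,
      show Cfsg.classInner ψ ψ = 1 from classInner_self_irr ⟨ψ, hψ⟩, mul_one] at h1
    have h2 : f * f = 1 := by exact_mod_cast h1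
    rw [← pow_two, hf2] at h2
    exact hH.1 (Subgroup.index_eq_one.1 (Nat.eq_one_of_mul_eq_one_right h2))
  · set Q := Qb.comap π with hQdef
    obtain ⟨x', rfl⟩ := hπ x
    obtain ⟨k', rfl⟩ := hπ k
    obtain ⟨J, hJ, hKJ, δ', hδ', hind'⟩ := PrimitiveDescent.descend hχ H C K Q hCH hCK hKH hfac
      (fun c hc => show π c ∈ Qb by
        rw [show π c = 1 from (QuotientGroup.eq_one_iff c).2 hc]; exact Qb.one_mem)
      ((Subgroup.comap_mono hQb).trans hcm.le)
      (fun h hh z hz => show π (h * z * h⁻¹) ∈ Qb by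
        rw [map_mul, map_mul, map_inv]; exact hQbn _ ⟨h, hh, rfl⟩ _ hz)
      hδ hχH hφ hψ ha hs0 (fun c => congrFun hδC c) hψC hψv hχK (by
        rw [show C = (⊥ : Subgroup (G ⧸ C)).comap π from by
          rw [MonoidHom.comap_bot, QuotientGroup.ker_mk'], Subgroup.relIndex_comap, hQdef,
          Subgroup.map_comap_eq_self_of_surjective hπ, Subgroup.relIndex_bot_left]
        haveI : Fact q.Prime := ⟨hq⟩
        haveI : Fact p.Prime := ⟨hp⟩
        obtain ⟨i, hi⟩ := IsPGroup.iff_card.1 hQq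
        obtain ⟨j, hj⟩ := IsPGroup.iff_card.1 hNp
        rw [hi]
        refine Nat.Coprime.coprime_dvd_right (Dvd.intro s (by rw [← pow_two, hsn, hn, hj])) ?_
        exact Nat.Coprime.pow _ _ ((Nat.coprime_primes hq hp).2 hqp))
      (x := x') (k := k') hx hk (fun hmem => hxk (by
        rw [← map_inv, ← map_inv, ← map_mul, ← map_mul, ← map_mul]
        exact (QuotientGroup.eq_one_iff _).2 hmem))
    obtain ⟨H2, hH2, hJH2⟩ := (eq_top_or_exists_le_coatom J).resolve_left hJ
    haveI : Fintype H2 := Fintype.ofFinite _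
    have hKC2 : K ≤ H2.normalCore := Subgroup.normal_le_normalCore.2 (hKJ.trans hJH2)
    have hlt : C < K := by
      refine lt_of_le_of_ne hCK fun h => hNne ?_
      rw [← Subgroup.map_comap_eq_self_of_surjective hπ N, ← hK, ← h, Subgroup.map_eq_bot_iff,
        QuotientGroup.ker_mk']
    have hcardlt : Nat.card C < Nat.card H2.normalCore :=
      Set.ncard_lt_ncard (s := (C : Set G)) (t := (H2.normalCore : Set G))
        (lt_of_lt_of_le hlt hKC2) (Set.toFinite _)
    have hle : Nat.card H2.normalCore ≤ Nat.card G := Subgroup.card_le_card_group _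
    refine ih _ (by rw [← hcard]; omega) H2 rfl hH2 (hLC.trans (hCK.trans (hKJ.trans hJH2))) _
      (Induced.Character.isCharacter_indFun _ (isCharacter_comp
        (Subgroup.subgroupOfEquivOfLe hJH2).toMonoidHom hδ')) ?_
    exact (indFun_trans J H2 hJH2 δ').trans hind'

/-- Berger's theorem, relative to a normal subgroup with solvable quotient. -/
theorem not_induced {χ : G → ℂ} (hχ : Cfsg.IsIrrCharacter G χ) (L : Subgroup G) [L.Normal]
    (hsolv : Group.IsSolvable (G ⧸ L))
    (hom : ∀ M : Subgroup G, M.Normal → L ≤ M → ∃ (φ : M → ℂ) (e : ℕ),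
      Cfsg.IsIrrCharacter M φ ∧ (fun m : M => χ m) = (e : ℂ) • φ)
    {K : Subgroup G} (hK : K ≠ ⊤) (hLK : L ≤ K) {ψ : K → ℂ} (hψ : Cfsg.IsCharacter K ψ) :
    Cfsg.indFun K ψ ≠ χ := by
  intro hind
  obtain ⟨H, hH, hKH⟩ := (eq_top_or_exists_le_coatom K).resolve_left hK
  haveI : Fintype H := Fintype.ofFinite _
  refine not_induced_coatom hχ L hsolv hom _ H rfl hH (hLK.trans hKH) _
    (Induced.Character.isCharacter_indFun _ (isCharacter_comp
      (Subgroup.subgroupOfEquivOfLe hKH).toMonoidHom hψ)) ?_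
  exact (indFun_trans K H hKH ψ).trans hind

end Cfsg.Agent.Lib.Brauer.Primitive
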