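import Cfsg.Agent.Lib.Brauer.CharTools
import Cfsg.Agent.Lib.Brauer.DegreeRatio
import Cfsg.Agent.Lib.Characters.Linear

/-!
The descent step in Berger's theorem: an imprimitivity subgroup with core `C` yields one whose
core contains the chief factor `K` above `C`.
-/

set_option autoImplicit false

namespace Cfsg.Agent.Lib.Brauer.PrimitiveDescent

open scoped ComplexConjugate
open Cfsg.Agent.Lib.Induced.Basic Cfsg.Agent.Lib.Characters.Basic Cfsg.Agent.Lib.Characters
open Cfsg.Agent.Lib.Clifford Cfsg.Agent.Lib.Clifford.Basic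
open Cfsg.Agent.Lib.Brauer

universe u v

/-- Inner product with the trivial character of a multiple of `|φ|²`, against a constituent. -/
theorem degree_bound {C : Type u} [Group C] [Fintype C] {A : Type v} [Group A] [Fintype A]
    (j : C →* A) {φ : C → ℂ} (hφ : Cfsg.IsIrrCharacter C φ) {Φ : A → ℂ}
    (hΦ : Cfsg.IsCharacter A Φ) (b : Cfsg.IrrCharacter A)
    (hb : ∀ c, (b : A → ℂ) (j c) = (b : A → ℂ) 1) (h : Cfsg.classInner Φ b ≠ 0) {n : ℕ}
    (hn : ∀ c, Φ (j c) = (n : ℂ) * (φ c * conj (φ c))) {d : ℕ} (hd : (b : A → ℂ) 1 = d) : d ≤ n := by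
  obtain ⟨M, r, hr, hM, -, he⟩ := exists_eq_nsmul_add hΦ b
  have hM0 : M ≠ 0 := fun h0 => h (by rw [hM, h0, Nat.cast_zero])
  obtain ⟨k, hk⟩ := exists_classInner_nat (isCharacter_comp j hr) (isCharacter_one (G := C))
  have h1 : Cfsg.classInner (Φ ∘ j) (1 : C → ℂ) = n := by
    have h2 : Cfsg.classInner φ φ = 1 := classInner_self_irr ⟨φ, hφ⟩
    simp only [Cfsg.classInner, Function.comp_apply, Pi.one_apply, map_one, mul_one, hn,
      ← Finset.mul_sum] at h2 ⊢
    rw [mul_left_comm, h2, mul_one]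
  have h3 : Φ ∘ j = (M : ℂ) • (fun _ : C => (d : ℂ)) + r ∘ j := by
    funext c
    rw [Function.comp_apply, he]
    simp [hb c, hd]
  have h4 : Cfsg.classInner (fun _ : C => (d : ℂ)) (1 : C → ℂ) = d := by
    simp only [Cfsg.classInner, Pi.one_apply, map_one, mul_one, Finset.sum_const, nsmul_eq_mul,
      Finset.card_univ, Fintype.card_eq_nat_card]
    rw [← mul_assoc, inv_mul_cancel₀ natCard_ne_zero, one_mul]
  rw [h3, classInner_add_left, classInner_smul_left, h4, hk] at h1
  have h5 : M * d + k = n := by exact_mod_cast h1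
  have : d ≤ M * d := Nat.le_mul_of_pos_left _ (Nat.pos_of_ne_zero hM0)
  omega

/-- An idempotent commuting with a representation splits it. -/
theorem split_mul {A : Type v} [Ring A] (P a b : A) (hPP : P * P = P) (hc : a * P = P * a) :
    (P * a + (1 - P)) * (P * b + (1 - P)) = P * (a * b) + (1 - P) := by
  have h1 : P * a * (P * b) = P * (a * b) := by
    rw [mul_assoc P a, ← mul_assoc a P b, hc, ← mul_assoc, ← mul_assoc, hPP, mul_assoc P]
  have h2 : P * a * (1 - P) = 0 := by
    rw [mul_sub, mul_one, mul_assoc, hc, ← mul_assoc, hPP, sub_self]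
  have h3 : (1 - P) * (P * b) = 0 := by rw [sub_mul, one_mul, ← mul_assoc, hPP, sub_self]
  have h4 : (1 - P) * (1 - P) = 1 - P := by
    rw [sub_mul, one_mul, mul_sub, mul_one, hPP, sub_self, sub_zero]
  rw [add_mul, mul_add, mul_add, h1, h2, h3, h4, add_zero, zero_add]

set_option maxHeartbeats 2000000 in
theorem descend {G : Type u} [Group G] [Fintype G] {χ : G → ℂ} (hχ : Cfsg.IsIrrCharacter G χ)
    (H C K Q : Subgroup G) [hC : C.Normal] [hK : K.Normal] [Fintype H] [Fintype C]
    (hCH : C ≤ H) (hCK : C ≤ K) (hKH : K ⊓ H ≤ C) (hfac : ∀ g : G, ∃ k ∈ K, ∃ h ∈ H, g = k * h)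
    (hCQ : C ≤ Q) (hQH : Q ≤ H) (hQn : ∀ h ∈ H, ∀ q ∈ Q, h * q * h⁻¹ ∈ Q)
    {ϑ : H → ℂ} (hϑ : Cfsg.IsIrrCharacter H ϑ)
    (hχϑ : Cfsg.classInner (fun h : H => χ h) ϑ ≠ 0)
    {φ : C → ℂ} (hφ : Cfsg.IsIrrCharacter C φ) {ψ : K → ℂ} (hψ : Cfsg.IsIrrCharacter K ψ)
    {a s : ℕ} (ha : a ≠ 0) (hs : s ≠ 0)
    (hϑC : ∀ c : C, ϑ ⟨(c : G), hCH c.2⟩ = (a : ℂ) * φ c)
    (hψC : ∀ c : C, ψ ⟨(c : G), hCK c.2⟩ = (s : ℂ) * φ c)
    (hψv : ∀ k : K, (k : G) ∉ C → ψ k = 0)
    (hχK : ∀ k : K, χ k = ((s * a : ℕ) : ℂ) * ψ k)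
    (hcop : Nat.Coprime (C.relIndex Q) s)
    {x k : G} (hx : x ∈ Q) (hk : k ∈ K) (hxk : x * k * x⁻¹ * k⁻¹ ∉ C) :
    ∃ J : Subgroup G, J ≠ ⊤ ∧ K ≤ J ∧
      ∃ δ : J → ℂ, Cfsg.IsCharacter J δ ∧ Cfsg.indFun J δ = χ := by
  classical
  obtain ⟨kψ, ρ, hρ, rfl⟩ := hψ
  have hsa : ((s * a : ℕ) : ℂ) ≠ 0 := Nat.cast_ne_zero.2 (mul_ne_zero hs ha)
  have hinv : ∀ g : G, (Clifford.Extension.conjRep K ρ g).character = ρ.character := by
    intro g
    funext n
    refine mul_left_cancel₀ hsa ?_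
    show ((s * a : ℕ) : ℂ) * ρ.character (ProjExt.cn K g n) = ((s * a : ℕ) : ℂ) * ρ.character n
    rw [← hχK, ← hχK]
    exact isClassFunction_irr ⟨χ, hχ⟩ (n : G) g
  haveI := ProjExt.finite_Gam K ρ
  haveI : Fintype (ProjExt.Gam K ρ) := Fintype.ofFinite _
  haveI : Fintype K := Fintype.ofFinite _
  set π := ProjExt.proj K ρ with hπdef
  have hπ : Function.Surjective π := ProjExt.proj_surjective K ρ hinv
  set e := ProjExt.emb K ρ with hedef
  have hπe : ∀ m : K, π (e m) = (m : G) := fun _ => rfl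
  set t := (ProjExt.taut K ρ).character with ht
  have hte : ∀ m : K, t (e m) = ρ.character m := fun _ => rfl
  have hetaut : ∀ m : K, ProjExt.taut K ρ (e m) = ρ m := fun _ => rfl
  have htc : Cfsg.IsCharacter (ProjExt.Gam K ρ) t := isCharacter_character _
  have hconj : ∀ (γ : ProjExt.Gam K ρ) (m : K), γ * e m * γ⁻¹ = e (ProjExt.cn K (π γ) m) := by
    intro γ m
    apply Subtype.ext
    refine Prod.ext rfl (Units.ext ?_)
    show ProjExt.taut K ρ (γ * e m * γ⁻¹) = ρ (ProjExt.cn K (π γ) m)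
    rw [map_mul, map_mul, hetaut, ProjExt.taut_mul, mul_assoc, ← map_mul (ProjExt.taut K ρ),
      mul_inv_cancel, map_one, mul_one]
  set D := e.range with hD
  haveI hDn : D.Normal := ⟨by rintro _ ⟨m, rfl⟩ γ; exact ⟨_, (hconj γ m).symm⟩⟩
  haveI : Fintype D := Fintype.ofFinite _
  -- factorisation through the tautological representation
  have hπD : ∀ d : D, π (d : ProjExt.Gam K ρ) ∈ K := by
    rintro ⟨_, m, rfl⟩; exact m.2
  let fD : D →* K := (π.comp D.subtype).codRestrict K hπD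
  have hfD : Function.Surjective fD := fun m => ⟨⟨e m, ⟨m, rfl⟩⟩, Subtype.ext (hπe m)⟩
  have htD : (fun d : D => t d) = ρ.character ∘ fD := by
    funext d
    obtain ⟨m, hm⟩ := d.2
    have e1 : fD d = m := Subtype.ext (by show π (d : ProjExt.Gam K ρ) = m; rw [← hm]; rfl)
    rw [Function.comp_apply, e1, ← hm]
    rfl
  have hρirr : Cfsg.IsIrrCharacter K ρ.character := ⟨kψ, ρ, hρ, rfl⟩
  have htDirr : Cfsg.IsIrrCharacter D (fun d : D => t d) :=
    htD ▸ isIrrCharacter_comp fD hfD hρirr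
  have htirr : Cfsg.IsIrrCharacter (ProjExt.Gam K ρ) t :=
    Clifford.Monomial.isIrr_of_comp_irr D.subtype htc htDirr
  set χ' : ProjExt.Gam K ρ → ℂ := χ ∘ π with hχ'
  have hχ'irr : Cfsg.IsIrrCharacter (ProjExt.Gam K ρ) χ' := isIrrCharacter_comp π hπ hχ
  have hχ'D : (fun d : D => χ' d) = ((s * a : ℕ) : ℂ) • fun d : D => t d := by
    funext d
    rw [Pi.smul_apply, congrFun htD d, smul_eq_mul, Function.comp_apply, ← hχK]
    rfl
  obtain ⟨β, hβover, hβeq⟩ : ∃ β : Cfsg.IrrCharacter (ProjExt.Gam K ρ),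
      Cfsg.classInner (Cfsg.indFun D (fun _ => 1)) β ≠ 0 ∧
        χ' = (β : ProjExt.Gam K ρ → ℂ) * t := by
    refine (Gallagher.gallagher D (fun _ => 1) (fun d : D => t d) (oneChar D).2
      (fun g => rfl) (fun g => conjC_restrict D (isClassFunction_of_isCharacter htc) g)
      (by rw [show (fun _ : D => (1 : ℂ)) * (fun d : D => t d) = fun d : D => t d from
            funext fun d => one_mul _]; exact htDirr) htirr (fun _ => rfl)).2.2 ⟨χ', hχ'irr⟩ ?_
    show Cfsg.classInner (Cfsg.indFun D ((fun _ : D => (1 : ℂ)) * fun d : D => t d)) χ' ≠ 0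
    rw [show (fun _ : D => (1 : ℂ)) * (fun d : D => t d) = fun d : D => t d from
      funext fun d => one_mul _, frobenius_reciprocity D _ (isClassFunction_irr ⟨χ', hχ'irr⟩), hχ'D,
      classInner_smul_right, map_natCast,
      show Cfsg.classInner (fun d : D => t d) (fun d : D => t d) = 1 from
        classInner_self_irr ⟨_, htDirr⟩, mul_one]
    exact hsa
  have hβD : ∀ d : D, (β : ProjExt.Gam K ρ → ℂ) d = (β : ProjExt.Gam K ρ → ℂ) 1 := by
    intro d
    have := Gallagher.apply_mul_of_over_one D β hβover d 1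
    rwa [mul_one] at this
  have hψ1 : ρ.character (1 : K) ≠ 0 := Clifford.Basic.degree_pos hρirr
  have ht1 : t 1 = ρ.character (1 : K) := by
    rw [show (1 : ProjExt.Gam K ρ) = e 1 from (map_one e).symm, hte]
  have hβ1 : (β : ProjExt.Gam K ρ → ℂ) 1 = ((s * a : ℕ) : ℂ) := by
    have h := congrFun hβeq 1
    rw [hχ', Function.comp_apply, map_one, Pi.mul_apply, ht1] at h
    have h2 := hχK (1 : K)
    rw [OneMemClass.coe_one] at h2
    rw [h2] at h
    exact (mul_right_cancel₀ hψ1 h).symm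
  -- the preimage of `H`
  set H' := H.comap π with hH'
  haveI : Fintype H' := Fintype.ofFinite _
  let fH : H' →* H := (π.comp H'.subtype).codRestrict H fun γ => γ.2
  have hfH : Function.Surjective fH := fun h => by
    obtain ⟨γ, hγ⟩ := hπ h
    exact ⟨⟨γ, show π γ ∈ H by rw [hγ]; exact h.2⟩, Subtype.ext hγ⟩
  set ϑ' : H' → ℂ := ϑ ∘ fH with hϑ'
  have hϑ'irr : Cfsg.IsIrrCharacter H' ϑ' := isIrrCharacter_comp fH hfH hϑ
  set tH : H' → ℂ := fun h => t h with htH
  have htHc : Cfsg.IsCharacter H' tH := isCharacter_comp H'.subtype htc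
  set bH : H' → ℂ := fun h => (β : ProjExt.Gam K ρ → ℂ) h with hbH
  have hfacD : ∀ γ : ProjExt.Gam K ρ, ∃ d ∈ D, ∃ h ∈ H', γ = d * h := by
    intro γ
    obtain ⟨m, hm, h, hh, hγ⟩ := hfac (π γ)
    refine ⟨e ⟨m, hm⟩, ⟨_, rfl⟩, (e ⟨m, hm⟩)⁻¹ * γ, ?_, (mul_inv_cancel_left _ _).symm⟩
    show π ((e ⟨m, hm⟩)⁻¹ * γ) ∈ H
    rw [map_mul, map_inv, hπe, hγ, inv_mul_cancel_left]
    exact hh
  have hbHirr : Cfsg.IsIrrCharacter H' bH := by
    haveI : Fintype (⊤ : Subgroup (ProjExt.Gam K ρ)) := Fintype.ofFinite _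
    exact CharTools.isIrr_restrict_supplement ⊤ D H' le_top le_top (fun γ _ => hfacD γ)
      (χ := fun γ : (⊤ : Subgroup (ProjExt.Gam K ρ)) => (β : ProjExt.Gam K ρ → ℂ) γ)
      (isIrrCharacter_comp (⊤ : Subgroup (ProjExt.Gam K ρ)).subtype
        (fun γ => ⟨⟨γ, Subgroup.mem_top γ⟩, rfl⟩) β.2)
      (fun d hd => hβD ⟨d, hd⟩)
  let jC : C →* ProjExt.Gam K ρ := e.comp (Subgroup.inclusion hCK)
  have hjCH : ∀ c : C, jC c ∈ H' := fun c => show π (jC c) ∈ H from hCH c.2
  let jH : C →* H' := jC.codRestrict H' hjCH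
  have htj : ∀ c : C, tH (jH c) = (s : ℂ) * φ c := fun c => hψC c
  have hϑj : ∀ c : C, ϑ' (jH c) = (a : ℂ) * φ c := fun c => hϑC c
  have hbj : ∀ c : C, bH (jH c) = bH 1 := fun c => hβD ⟨jC c, ⟨_, rfl⟩⟩
  set Φ : H' → ℂ := fun h => conj (tH h) * ϑ' h with hΦ
  have hΦb : Cfsg.classInner Φ bH ≠ 0 := by
    apply Clifford.Basic.classInner_ne_zero_symm
    have h1 : Cfsg.classInner bH Φ = Cfsg.classInner (fun h : H' => χ' h) ϑ' := by
      simp only [Cfsg.classInner, hΦ, map_mul, Complex.conj_conj]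
      congr 1
      refine Finset.sum_congr rfl fun h _ => ?_
      rw [congrFun hβeq h, Pi.mul_apply]
      ring
    rw [h1, show (fun h : H' => χ' h) = (fun h : H => χ h) ∘ fH from rfl, hϑ',
      CharTools.classInner_comp_surj fH hfH]
    exact hχϑ
  -- the tautological representation is irreducible on the preimage
  have htHirr : Cfsg.IsIrrCharacter H' tH := by
    have hne : tH ≠ 0 := fun h => hψ1 (by rw [← ht1]; exact congrFun h 1)
    obtain ⟨a0, ha0⟩ := Clifford.Basic.exists_constituent htHc hne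
    obtain ⟨M, r, hr, hM, -, he⟩ := exists_eq_nsmul_add htHc a0
    obtain ⟨M', rfl⟩ := Nat.exists_eq_succ_of_ne_zero
      (fun h0 : M = 0 => ha0 (by rw [hM, h0, Nat.cast_zero]))
    set w : H' → ℂ := M' • (a0 : H' → ℂ) + r with hw
    have hwc : Cfsg.IsCharacter H' w :=
      isCharacter_add (isCharacter_nsmul (isCharacter_irr a0) M') hr
    have htw : tH = (a0 : H' → ℂ) + w := by rw [he, hw, succ_nsmul]; abel
    obtain ⟨m0, hm0, hX⟩ := CharTools.eq_smul_of_add (isCharacter_comp jH (isCharacter_irr a0))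
      (isCharacter_comp jH hwc) hφ (s := s)
      (funext fun c => by
        show (a0 : H' → ℂ) (jH c) + w (jH c) = (s : ℂ) * φ c
        rw [← htj c, htw]; rfl)
    have hwj : ∀ c, w (jH c) = ((s - m0 : ℕ) : ℂ) * φ c := by
      intro c
      have h1 : (a0 : H' → ℂ) (jH c) = (m0 : ℂ) * φ c := congrFun hX c
      have h2 := htj c
      rw [htw, Pi.add_apply, h1] at h2
      rw [Nat.cast_sub hm0, sub_mul]
      linear_combination h2
    by_cases hw0 : w = 0
    · rw [htw, hw0, add_zero]; exact a0.2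
    exfalso
    have hm0pos : m0 ≠ 0 := fun h0 => apply_one_ne_zero a0 (by
      have := congrFun hX 1
      simp only [Function.comp_apply, map_one, h0, Nat.cast_zero, zero_smul, Pi.zero_apply] at this
      exact this)
    have hm1pos : s - m0 ≠ 0 := fun h0 => hw0 (eq_zero_of_apply_one_eq_zero hwc (by
      have := hwj 1
      simpa [h0] using this))
    have hsplit : Φ = (fun h => conj ((a0 : H' → ℂ) h) * ϑ' h) + fun h => conj (w h) * ϑ' h := by
      funext h
      simp only [hΦ, Pi.add_apply, ← add_mul, ← map_add]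
      rw [htw]; rfl
    have hbound : ∀ (X : H' → ℂ) (m : ℕ), Cfsg.IsCharacter H' X →
        (∀ c, X (jH c) = (m : ℂ) * φ c) →
        Cfsg.classInner (fun h => conj (X h) * ϑ' h) bH ≠ 0 → s * a ≤ m * a := by
      intro X m hX hXj hne
      refine degree_bound jH hφ (isCharacter_mul (isCharacter_conj hX)
        (IsCharacter_of_isIrrCharacter hϑ'irr)) ⟨bH, hbHirr⟩ hbj hne (fun c => ?_) hβ1
      show conj (X (jH c)) * ϑ' (jH c) = _
      rw [hXj, hϑj, map_mul, map_natCast]
      push_cast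
      ring
    rw [hsplit] at hΦb
    rcases classInner_add_ne_zero hΦb with h | h
    · have := Nat.le_of_mul_le_mul_right (hbound _ m0 (isCharacter_irr a0)
        (fun c => congrFun hX c) h) (Nat.pos_of_ne_zero ha)
      omega
    · have := Nat.le_of_mul_le_mul_right (hbound w (s - m0) hwc hwj h) (Nat.pos_of_ne_zero ha)
      omega
  -- the preimage of `Q`
  set Q' := Q.comap π with hQ'
  have hQ'H : Q' ≤ H' := Subgroup.comap_mono hQH
  set Q1 := Q'.subgroupOf H' with hQ1
  haveI : Q1.Normal := ⟨fun q hq h => by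
    show π ((h : ProjExt.Gam K ρ) * q * (h : ProjExt.Gam K ρ)⁻¹) ∈ Q
    rw [map_mul, map_mul, map_inv]
    exact hQn _ h.2 _ hq⟩
  haveI : Fintype Q1 := Fintype.ofFinite _
  obtain ⟨η, hη⟩ := exists_constituent_restrict (N := Q1) htHirr
  set T := inertia Q1 (η : Q1 → ℂ) with hT
  have hTtop : T ≠ ⊤ := by
    intro hTop
    have hres := restrict_eq_smul Q1 htHirr η hη (fun g =>
      (hTop ▸ Subgroup.mem_top g : g ∈ T))
    obtain ⟨m, hm⟩ := exists_classInner_nat (isCharacter_comp Q1.subtype htHc) (isCharacter_irr η)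
    rw [show Cfsg.classInner (fun n : Q1 => tH n) (η : Q1 → ℂ) = (m : ℂ) from hm] at hres hη
    haveI : Fintype Q' := Fintype.ofFinite _
    let f1 : Q' →* Q1 := (Subgroup.subgroupOfEquivOfLe hQ'H).symm.toMonoidHom
    have hf1 : ∀ q : Q', ((f1 q : H') : ProjExt.Gam K ρ) = q := fun q => rfl
    set η' : Q' → ℂ := (η : Q1 → ℂ) ∘ f1 with hη'
    have hη'irr : Cfsg.IsIrrCharacter Q' η' :=
      isIrrCharacter_comp f1 (Subgroup.subgroupOfEquivOfLe hQ'H).symm.surjective η.2
    have htη : ∀ q : Q', t q = (m : ℂ) * η' q := fun q => congrFun hres (f1 q)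
    -- the restriction to the preimage of `C`
    set C2 := (C.comap π).subgroupOf Q' with hC2
    haveI : C2.Normal := (hC.comap π).subgroupOf Q'
    haveI : Fintype C2 := Fintype.ofFinite _
    let fC : C2 →* C := (π.comp (Q'.subtype.comp C2.subtype)).codRestrict C fun z => z.2
    have hfC : Function.Surjective fC := fun c => by
      obtain ⟨γ, hγ⟩ := hπ c
      exact ⟨⟨⟨γ, show π γ ∈ Q by rw [hγ]; exact hCQ c.2⟩, show π γ ∈ C by rw [hγ]; exact c.2⟩,
        Subtype.ext hγ⟩
    let iC : C2 →* ProjExt.pre K ρ K := (Q'.subtype.comp C2.subtype).codRestrict _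
      fun z => show π ((z : Q') : ProjExt.Gam K ρ) ∈ K from hCK z.2
    let μ : C2 →* ℂˣ := (ProjExt.lam0 K ρ).comp iC
    set φ' : C2 → ℂ := (fun z => (μ z : ℂ)) * (φ ∘ fC) with hφ'
    have hφ'irr : Cfsg.IsIrrCharacter C2 φ' :=
      Linear.isIrrCharacter_linear_mul (Induced.Character.isCharacter_hom μ) (by simp)
        (isIrrCharacter_comp fC hfC hφ)
    have hηC : ∀ z : C2, (m : ℂ) * η' z = (s : ℂ) * φ' z := by
      intro z
      rw [← htη]
      have h := congrArg (LinearMap.trace ℂ (Fin kψ → ℂ)) (ProjExt.lam0_spec K ρ (iC z))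
      rw [map_smul, smul_eq_mul] at h
      refine h.trans ?_
      show (μ z : ℂ) * ρ.character ⟨(fC z : G), hCK (fC z).2⟩ = (s : ℂ) * ((μ z : ℂ) * φ (fC z))
      rw [hψC]
      ring
    have hm0 : (m : ℂ) ≠ 0 := hη
    obtain ⟨r, c1, d1, hc1, hd1, hrd, hrdvd⟩ := DegreeRatio.ratio_dvd C2 hη'irr hφ'irr (by
      have h1 : (m : ℂ) • (fun z : C2 => η' z) = (s : ℂ) • φ' := funext hηC
      have h2 := congrArg (fun f => Cfsg.classInner f φ') h1
      simp only [classInner_smul_left, show Cfsg.classInner φ' φ' = 1 from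
        classInner_self_irr ⟨φ', hφ'irr⟩, mul_one] at h2
      intro h0
      rw [h0, mul_zero, eq_comm, Nat.cast_eq_zero] at h2
      exact hs h2)
    have hd1ne : d1 ≠ 0 := fun h0 => Clifford.Basic.degree_pos hφ'irr (by rw [hd1, h0, Nat.cast_zero])
    have hmr : m * r = s := by
      have h1 := hηC 1
      rw [OneMemClass.coe_one, hc1, hd1, hrd] at h1
      have h2 : m * (r * d1) = s * d1 := by exact_mod_cast h1
      rw [← mul_assoc] at h2
      exact Nat.eq_of_mul_eq_mul_right (Nat.pos_of_ne_zero hd1ne) h2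
    have hr1 : r = 1 := by
      refine Nat.eq_one_of_dvd_coprimes hcop ?_ ⟨m, by rw [mul_comm, hmr]⟩
      rw [show C.relIndex Q = C2.index from ?_]
      · exact hrdvd
      · show C.relIndex Q = (C.comap π).relIndex Q'
        rw [Subgroup.relIndex_comap, hQ', Subgroup.map_comap_eq_self_of_surjective hπ]
    have hms : m = s := by rw [← hmr, hr1, mul_one]
    -- the tautological representation is a multiple of an extension on `Q'`
    let jQ : C →* Q' := jC.codRestrict Q' fun c => show π (jC c) ∈ Q from hCQ c.2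
    have hjQinj : Function.Injective jQ := fun c c' h => Subtype.ext (by
      have := congrArg (fun q : Q' => π (q : ProjExt.Gam K ρ)) h
      exact this)
    have hηj : η' ∘ jQ = φ := by
      funext c
      have h1 := htη (jQ c)
      rw [show t (jQ c : ProjExt.Gam K ρ) = (s : ℂ) * φ c from hψC c, hms] at h1
      exact (mul_left_cancel₀ (Nat.cast_ne_zero.2 hs) h1).symm
    obtain ⟨d, σ, hσ, hσchar⟩ := hη'irr
    haveI : Fintype jQ.range := Fintype.ofFinite _
    haveI : Representation.IsIrreducible (Gallagher.res jQ.range σ) := by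
      rw [isIrreducible_iff_classInner_self]
      have hirr : Cfsg.IsIrrCharacter jQ.range (Gallagher.res jQ.range σ).character :=
        Clifford.Monomial.isIrr_of_comp_irr jQ.rangeRestrict (isCharacter_character _) (by
          rw [show (Gallagher.res jQ.range σ).character ∘ jQ.rangeRestrict = φ from
            funext fun c => (congrFun hσchar (jQ c)).trans (congrFun hηj c)]
          exact hφ)
      exact classInner_self_irr ⟨_, hirr⟩
    set DC := jC.range with hDC
    haveI : Fintype DC := Fintype.ofFinite _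
    have hjCinj : Function.Injective jC := fun c c' h => Subtype.ext (by
      have := congrArg π h
      exact this)
    haveI : DC.Normal := ⟨by
      rintro _ ⟨c, rfl⟩ γ
      refine ⟨⟨_, hC.conj_mem _ c.2 (π γ)⟩, ?_⟩
      show e _ = γ * e _ * γ⁻¹
      rw [hconj]
      rfl⟩
    let L := Representation.linHom (ProjExt.taut K ρ) (ProjExt.taut K ρ)
    set P := Gallagher.proj DC (ProjExt.taut K ρ) (ProjExt.taut K ρ) with hP
    have havg : ∀ g, LinearMap.trace ℂ _ (P * L g) =
        (Nat.card C : ℂ)⁻¹ * ∑ c : C, t (jC c * g) * conj (t (jC c * g)) := by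
      intro g
      rw [hP, Gallagher.coset_average]
      congr 1
      · rw [Nat.card_congr (MonoidHom.ofInjective hjCinj).toEquiv]
      · exact (Fintype.sum_equiv (MonoidHom.ofInjective hjCinj).toEquiv _ _ fun c => rfl).symm
    have hQavg : ∀ q : Q', LinearMap.trace ℂ _ (P * L (q : ProjExt.Gam K ρ)) = (s : ℂ) * s := by
      intro q
      have h1 := Gallagher.average_self jQ.range σ q
      rw [← Fintype.sum_equiv (MonoidHom.ofInjective hjQinj).toEquiv
        (fun c : C => σ.character (jQ c * q) * conj (σ.character (jQ c * q))) _ (fun c => rfl),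
        ← Nat.card_congr (MonoidHom.ofInjective hjQinj).toEquiv] at h1
      rw [havg]
      have h2 : ∀ c : C, t (jC c * (q : ProjExt.Gam K ρ)) * conj (t (jC c * (q : ProjExt.Gam K ρ)))
          = ((s : ℂ) * s) * (σ.character (jQ c * q) * conj (σ.character (jQ c * q))) := by
        intro c
        rw [show t (jC c * (q : ProjExt.Gam K ρ)) = (m : ℂ) * η' (jQ c * q) from htη (jQ c * q), hms,
          ← hσchar, map_mul, map_natCast]
        ring
      rw [Finset.sum_congr rfl fun c _ => h2 c, ← Finset.mul_sum, mul_left_comm, h1, mul_one]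
    have hPn : ∀ n : DC, P * L (n : ProjExt.Gam K ρ) = P := by
      intro n
      rw [hP, Gallagher.proj, smul_mul_assoc, Finset.sum_mul]
      congr 1
      exact Fintype.sum_equiv (Equiv.mulRight n) _ _ fun b => by
        rw [← map_mul]; rfl
    have hPP : P * P = P := by
      nth_rewrite 2 [hP]
      rw [Gallagher.proj, mul_smul_comm, Finset.mul_sum, Finset.sum_congr rfl fun n _ => hPn n,
        Finset.sum_const, Finset.card_univ, ← Nat.cast_smul_eq_nsmul ℂ, smul_smul,
        ← Nat.card_eq_fintype_card, inv_mul_cancel₀ (Nat.cast_ne_zero.2 Nat.card_pos.ne'), one_smul]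
    have hcomm : ∀ g, L g * P = P * L g := by
      intro g
      rw [hP, Gallagher.proj, mul_smul_comm, smul_mul_assoc, Finset.mul_sum, Finset.sum_mul]
      congr 1
      refine Fintype.sum_equiv (MulAut.conjNormal (H := DC) g).toEquiv _ _ fun b => ?_
      rw [← map_mul, ← map_mul]
      congr 1
      show g * (b : ProjExt.Gam K ρ) =
        ((MulAut.conjNormal g b : DC) : ProjExt.Gam K ρ) * g
      rw [MulAut.conjNormal_apply]
      group
    let R : Representation ℂ (ProjExt.Gam K ρ)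
        ((Fin kψ → ℂ) →ₗ[ℂ] (Fin kψ → ℂ)) :=
      { toFun := fun g => P * L g + (1 - P)
        map_one' := by rw [map_one, mul_one]; abel
        map_mul' := fun g h => by
          rw [map_mul]
          exact (split_mul P (L g) (L h) hPP (hcomm g)).symm }
    have hRapp : ∀ g, R g = P * L g + (1 - P) := fun g => rfl
    obtain ⟨x', hx'⟩ := hπ x
    have hxQ : x' ∈ Q' := show π x' ∈ Q by rw [hx']; exact hx
    have hRx : R x' = 1 := by
      rw [Kernel.rep_eq_one_iff R x']
      show LinearMap.trace ℂ _ (R x') = LinearMap.trace ℂ _ (R 1)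
      rw [hRapp, hRapp, map_add, map_add, hQavg ⟨x', hxQ⟩]
      have := hQavg 1
      rw [OneMemClass.coe_one] at this
      rw [this]
    set y := x' * e ⟨k, hk⟩ * x'⁻¹ * (e ⟨k, hk⟩)⁻¹ with hy
    have hRy : R y = 1 := by
      have hRx' : R x'⁻¹ = 1 := by
        have h1 : R (x' * x'⁻¹) = 1 := by rw [mul_inv_cancel, map_one]
        rwa [map_mul, hRx, one_mul] at h1
      rw [hy, map_mul, map_mul, map_mul, hRx, hRx', one_mul, mul_one, ← map_mul, mul_inv_cancel,
        map_one]
    set k' : K := ProjExt.cn K (π x') ⟨k, hk⟩ * (⟨k, hk⟩ : K)⁻¹ with hk'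
    have hyk : y = e k' := by rw [hy, hk', hconj, map_mul, map_inv]
    have h0 : LinearMap.trace ℂ _ (P * L y) = 0 := by
      rw [havg, Finset.sum_eq_zero, mul_zero]
      intro c _
      rw [hyk, show jC c * e k' = e (Subgroup.inclusion hCK c * k') from (map_mul e _ _).symm, hte,
        hψv _ ?_, zero_mul]
      intro hmem
      apply hxk
      have h3 : (k' : G) ∈ C := by
        have := C.mul_mem (C.inv_mem c.2) hmem
        rw [Subgroup.coe_mul] at this
        simpa [Subgroup.coe_inclusion] using this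
      rw [hk', Subgroup.coe_mul, Subgroup.coe_inv] at h3
      rw [← hx']
      exact h3
    have h1 : LinearMap.trace ℂ _ (P * L y) = (s : ℂ) * s := by
      have h2 := congrArg (LinearMap.trace ℂ _) (hRy.trans (map_one R).symm)
      rw [hRapp, hRapp, map_add, map_add, add_left_inj] at h2
      rw [h2]
      have := hQavg 1
      rwa [OneMemClass.coe_one] at this
    rw [h0, eq_comm, mul_self_eq_zero, Nat.cast_eq_zero] at h1
    exact hs h1
  -- the Clifford correspondent
  haveI : Fintype T := Fintype.ofFinite _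
  have hQ1T : Q1 ≤ T := le_inertia Q1 (isClassFunction_irr η)
  obtain ⟨A0, hA0irr, hA0ind, -, hA0con⟩ := exists_correspondent Q1 htHirr η hη T rfl hQ1T
  have hjHQ : ∀ c : C, jH c ∈ Q1 := fun c => show π (jC c) ∈ Q from hCQ c.2
  let jT : C →* T := jH.codRestrict T fun c => hQ1T (hjHQ c)
  obtain ⟨s0, hs0s, hA0j⟩ : ∃ s0 : ℕ, s0 ≤ s ∧ A0 ∘ jT = (s0 : ℂ) • φ := by
    obtain ⟨M, r, hr, hM, -, he⟩ :=
      exists_eq_nsmul_add (isCharacter_comp T.subtype htHc) ⟨A0, hA0irr⟩
    obtain ⟨M', rfl⟩ := Nat.exists_eq_succ_of_ne_zero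
      (fun h0 : M = 0 => hA0con (hM.trans (by rw [h0, Nat.cast_zero])))
    refine CharTools.eq_smul_of_add (isCharacter_comp jT (IsCharacter_of_isIrrCharacter hA0irr))
      (isCharacter_comp jT (isCharacter_add
        (isCharacter_nsmul (IsCharacter_of_isIrrCharacter hA0irr) M') hr)) hφ
      (funext fun c => ?_)
    show A0 (jT c) + (M' • A0 + r) (jT c) = (s : ℂ) * φ c
    rw [← htj c]
    have := congrFun he (jT c)
    rw [succ_nsmul] at this
    refine Eq.trans ?_ this.symm
    simp only [Pi.add_apply]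
    ring
  have hφ1 : φ 1 ≠ 0 := Clifford.Basic.degree_pos hφ
  have hTs : T.index * s0 = s := by
    have h1 := congrFun hA0ind 1
    rw [indFun_one] at h1
    have h2 : A0 1 = (s0 : ℂ) * φ 1 := by
      have := congrFun hA0j 1
      simpa using this
    have h3 : tH 1 = (s : ℂ) * φ 1 := by
      have := htj 1
      rwa [map_one] at this
    rw [h2, h3, ← mul_assoc] at h1
    exact_mod_cast mul_right_cancel₀ hφ1 h1
  set Φ0 : T → ℂ := fun z => conj (A0 z) * ϑ' z with hΦ0
  have hΦ0c : Cfsg.IsCharacter T Φ0 := isCharacter_mul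
    (isCharacter_conj (IsCharacter_of_isIrrCharacter hA0irr))
    (isCharacter_comp T.subtype (IsCharacter_of_isIrrCharacter hϑ'irr))
  have hΦind : Φ = Cfsg.indFun T Φ0 := by
    rw [hΦ0, indFun_mul_restrict T _ (isClassFunction_irr ⟨ϑ', hϑ'irr⟩), ← CharTools.conj_indFun T A0,
      hA0ind]
  have hb0ne : Cfsg.classInner ((fun z : T => bH z) ∘ MonoidHom.id T) Φ0 ≠ 0 := by
    apply Clifford.Basic.classInner_ne_zero_symm
    rw [hΦind, frobenius_reciprocity T _ (isClassFunction_irr ⟨bH, hbHirr⟩)] at hΦb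
    exact hΦb
  have hbTc : Cfsg.IsCharacter T (fun z : T => bH z) :=
    isCharacter_comp T.subtype (IsCharacter_of_isIrrCharacter hbHirr)
  obtain ⟨b0, hb0T, hb0Φ⟩ := CharTools.exists_comp (MonoidHom.id T) hbTc hb0ne
  have hb0triv : ∀ c : C, (b0 : T → ℂ) (jT c) = (b0 : T → ℂ) 1 := fun c =>
    CharTools.trivial_of_constituent hbTc b0 hb0T (hbj c)
  obtain ⟨db0, hdb0⟩ := exists_degree (isCharacter_irr b0)
  have hb0le : db0 ≤ s0 * a := by
    refine degree_bound jT hφ hΦ0c b0 hb0triv (Clifford.Basic.classInner_ne_zero_symm hb0Φ) (fun c => ?_) hdb0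
    have h1 : A0 (jT c) = (s0 : ℂ) * φ c := congrFun hA0j c
    show conj (A0 (jT c)) * ϑ' (jT c) = _
    rw [h1, show ϑ' (jT c) = (a : ℂ) * φ c from hϑj c, map_mul, map_natCast]
    push_cast
    ring
  -- the new subgroup
  set T' := T.map H'.subtype with hT'
  set J := D ⊔ T' with hJ
  haveI : Fintype J := Fintype.ofFinite _
  haveI : Fintype T' := Fintype.ofFinite _
  have hT'J : T' ≤ J := le_sup_right
  have hDJ : D ≤ J := le_sup_left
  have hJfac : ∀ g ∈ J, ∃ d ∈ D, ∃ z ∈ T', g = d * z := by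
    intro g hg
    rw [hJ, ← SetLike.mem_coe, Subgroup.normal_mul, Set.mem_mul] at hg
    obtain ⟨d, hd, z, hz, he⟩ := hg
    exact ⟨d, hd, z, hz, he.symm⟩
  have hDH : D ⊓ T' = D ⊓ H' := by
    apply le_antisymm (inf_le_inf_left D (Subgroup.map_subtype_le T))
    rintro g ⟨⟨m, rfl⟩, hgH⟩
    refine ⟨⟨m, rfl⟩, ⟨⟨e m, hgH⟩, hQ1T ?_, rfl⟩⟩
    show π (e m) ∈ Q
    exact hCQ (hKH ⟨m.2, hgH⟩)
  have hJidx : J.index = T.index := by
    haveI : Fintype (⊤ : Subgroup (ProjExt.Gam K ρ)) := Fintype.ofFinite _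
    have h1 := CharTools.sum_factor J D T' hDJ hT'J hJfac (fun _ => 1) (fun _ _ _ _ => rfl)
    have h2 := CharTools.sum_factor ⊤ D H' le_top le_top (fun γ _ => hfacD γ) (fun _ => 1)
      (fun _ _ _ _ => rfl)
    simp only [Finset.sum_const, Finset.card_univ, nsmul_eq_mul, mul_one,
      Fintype.card_eq_nat_card, Subgroup.card_top] at h1 h2
    have h3 : Nat.card T' = Nat.card T :=
      (Nat.card_congr (T.equivMapOfInjective _ H'.subtype_injective).toEquiv).symm
    have h4 : Nat.card (D ⊓ T' : Subgroup (ProjExt.Gam K ρ)) * Nat.card J = Nat.card D * Nat.card T := by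
      rw [← h3]; exact_mod_cast h1
    have h5 : Nat.card (D ⊓ T' : Subgroup (ProjExt.Gam K ρ)) * (Nat.card J * J.index) =
        Nat.card D * (Nat.card T * T.index) := by
      rw [J.card_mul_index, T.card_mul_index, hDH]; exact_mod_cast h2
    rw [← mul_assoc, ← mul_assoc, h4] at h5
    exact Nat.eq_of_mul_eq_mul_left (Nat.mul_pos Nat.card_pos Nat.card_pos) h5
  let fT : T →* J := (H'.subtype.comp T.subtype).codRestrict J fun z => hT'J ⟨z, z.2, rfl⟩
  have hβJ : Cfsg.IsCharacter J (fun g : J => (β : ProjExt.Gam K ρ → ℂ) g) :=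
    isCharacter_comp J.subtype (isCharacter_irr β)
  obtain ⟨ω0, hω0β, hω0b⟩ := CharTools.exists_comp fT hβJ (v := (b0 : T → ℂ)) hb0T
  have hω0triv : ∀ d (hd : d ∈ D), (ω0 : J → ℂ) ⟨d, hDJ hd⟩ = (ω0 : J → ℂ) 1 := fun d hd =>
    CharTools.trivial_of_constituent hβJ ω0 hω0β (hβD ⟨d, hd⟩)
  have hω01 : (ω0 : J → ℂ) 1 = db0 := by
    have hirr := CharTools.isIrr_restrict_supplement J D T' hDJ hT'J hJfac ω0.2 hω0triv
    have hirr' : Cfsg.IsIrrCharacter T ((ω0 : J → ℂ) ∘ fT) :=
      isIrrCharacter_comp (T.equivMapOfInjective _ H'.subtype_injective).toMonoidHom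
        (T.equivMapOfInjective _ H'.subtype_injective).surjective hirr
    have heq : (⟨_, hirr'⟩ : Cfsg.IrrCharacter T) = b0 := by
      by_contra hne
      exact hω0b (classInner_irr_of_ne hne)
    rw [← hdb0, ← heq]
    show _ = (ω0 : J → ℂ) (fT 1)
    rw [map_one]
  set δ' : J → ℂ := (fun g : J => t g) * (ω0 : J → ℂ) with hδ'
  have hδ'c : Cfsg.IsCharacter J δ' :=
    isCharacter_mul (isCharacter_comp J.subtype htc) (isCharacter_irr ω0)
  have hδ'1 : δ' 1 = ρ.character (1 : K) * db0 := by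
    rw [hδ', Pi.mul_apply, hω01, OneMemClass.coe_one, ht1]
  have hχ'δ : Cfsg.classInner (fun g : J => χ' g) δ' ≠ 0 := by
    obtain ⟨M, r, hr, hM, -, he⟩ := exists_eq_nsmul_add hβJ ω0
    have hM0 : M ≠ 0 := fun h0 => hω0β (by rw [hM, h0, Nat.cast_zero])
    have hsum : (fun g : J => χ' g) = (M : ℂ) • δ' + (fun g : J => t g) * r := by
      funext g
      rw [congrFun hβeq g, Pi.mul_apply, congrFun he g]
      simp [hδ']
      ring
    rw [hsum, classInner_add_left, classInner_smul_left]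
    obtain ⟨n1, hn1⟩ := exists_classInner_nat hδ'c hδ'c
    obtain ⟨n2, hn2⟩ := exists_classInner_nat
      (isCharacter_mul (isCharacter_comp J.subtype htc) hr) hδ'c
    have hn1' : n1 ≠ 0 := fun h0 => Gallagher.classInner_self_ne_zero (φ := δ') (by
      rw [hδ'1]
      refine mul_ne_zero hψ1 (Nat.cast_ne_zero.2 fun h0 => apply_one_ne_zero b0 ?_)
      rw [hdb0, h0, Nat.cast_zero]) (by rw [hn1, h0, Nat.cast_zero])
    rw [hn1, show Cfsg.classInner ((fun g : J => t g) * r) δ' = (n2 : ℂ) from hn2]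
    norm_cast
    have := Nat.mul_pos (Nat.pos_of_ne_zero hM0) (Nat.pos_of_ne_zero hn1')
    omega
  -- descend to `G`
  set J1 := J.map π with hJ1
  have hker : π.ker ≤ J := fun g hg => hT'J ⟨⟨g, show π g ∈ H by rw [hg]; exact H.one_mem⟩,
    hQ1T (show π g ∈ Q by rw [hg]; exact Q.one_mem), rfl⟩
  haveI : Fintype J1 := Fintype.ofFinite _
  let fJ : J →* J1 := π.subgroupMap J
  have hfJ : Function.Surjective fJ := π.subgroupMap_surjective J
  have hχJ1 : Cfsg.IsCharacter J1 (fun g : J1 => χ g) :=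
    isCharacter_comp J1.subtype (IsCharacter_of_isIrrCharacter hχ)
  obtain ⟨δ, hδχ, hδδ'⟩ := CharTools.exists_comp fJ hχJ1 (v := δ') hχ'δ
  obtain ⟨dδ, hdδ⟩ := exists_degree (isCharacter_irr δ)
  have hδle : dδ ≤ kψ * db0 := by
    refine CharTools.degree_le hδ'c (isIrrCharacter_comp fJ hfJ δ.2)
      (Clifford.Basic.classInner_ne_zero_symm hδδ') ?_ (by rw [Function.comp_apply, map_one, hdδ])
    rw [hδ'1, Representation.char_one, Module.finrank_fin_fun, Nat.cast_mul]
  refine ⟨J1, ?_, fun g hg => ⟨e ⟨g, hg⟩, hDJ ⟨_, rfl⟩, rfl⟩, δ, isCharacter_irr δ, ?_⟩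
  · intro htop
    have h1 : J1.index = T.index := by rw [hJ1, Subgroup.index_map_eq _ hπ hker, hJidx]
    rw [htop, Subgroup.index_top, eq_comm, Subgroup.index_eq_one] at h1
    exact hTtop h1
  · refine CharTools.eq_of_degree_le (Induced.Character.isCharacter_indFun J1 (isCharacter_irr δ))
      hχ ?_ (du := T.index * dδ) (da := s * a * kψ) ?_ ?_ ?_
    · rw [frobenius_reciprocity J1 _ (isClassFunction_irr ⟨χ, hχ⟩)]
      exact Clifford.Basic.classInner_ne_zero_symm hδχ
    · rw [indFun_one, hdδ, hJ1, Subgroup.index_map_eq _ hπ hker, hJidx, Nat.cast_mul]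
    · have := hχK (1 : K)
      rw [OneMemClass.coe_one, Representation.char_one, Module.finrank_fin_fun] at this
      rw [this]
      push_cast
      ring
    · calc T.index * dδ ≤ T.index * (kψ * (s0 * a)) :=
            Nat.mul_le_mul_left _ (hδle.trans (Nat.mul_le_mul_left _ hb0le))
        _ = T.index * s0 * a * kψ := by ring
        _ = s * a * kψ := by rw [hTs]

end Cfsg.Agent.Lib.Brauer.PrimitiveDescent
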