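import Cfsg.Agent.Lib.Brauer.TIBound
import Cfsg.Agent.Lib.DegreeBounds.Blichfeldt
import Mathlib.GroupTheory.Sylow

/-!
A group with a faithful character of small degree has a normal Sylow subgroup (Feit–Thompson).
-/

set_option autoImplicit false
set_option linter.unusedSectionVars false

namespace Cfsg.Agent.Lib.Brauer.SmallDegree

open scoped ComplexConjugate commutatorElement
open Cfsg.Agent.Lib.Characters.Basic Cfsg.Agent.Lib.Induced.Basic

universe u

variable {G : Type u} [Group G] [Fintype G]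

/-- A central element acts by a scalar in an irreducible representation. -/
theorem central_operator {m : ℕ} (ρ : Representation ℂ G (Fin m → ℂ)) [ρ.IsIrreducible] {z : G}
    (hz : ∀ g : G, g * z = z * g) : ∃ c : ℂ, ρ z = c • 1 := by
  classical
  let θ : G → ℂ := fun g => if g = z⁻¹ then 1 else 0
  have hθ : Cfsg.IsClassFunction G θ := fun g k => by
    have hz' : k * z⁻¹ * k⁻¹ = z⁻¹ := by
      rw [mul_inv_eq_iff_eq_mul, ← inv_inj]
      simp only [mul_inv_rev, inv_inv]
      exact (hz k⁻¹).symm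
    by_cases hg : g = z⁻¹
    · simp [θ, hg, hz']
    · have : k * g * k⁻¹ ≠ z⁻¹ := fun h' =>
        hg (mul_left_cancel (mul_right_cancel (h'.trans hz'.symm)))
      simp [θ, hg, this]
  obtain ⟨c, hc, -⟩ := Characters.Complete.avg_eq_scalar hθ ρ
  refine ⟨c, ?_⟩
  rw [← hc, Characters.Complete.avg, Finset.sum_eq_single z⁻¹ (fun b _ hb => by simp [θ, hb])
    (fun hb => absurd (Finset.mem_univ _) hb)]
  simp [θ]

/-- An invariant function sums on a subgroup to `p` times its sum on the part inside `N`. -/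
theorem sum_shift (N S : Subgroup G) {u : G} {p : ℕ} (hp : p.Prime) (hu : u ∉ N)
    (hup : u ^ p ∈ N) (hgen : ∀ g : G, ∃ i : ℕ, g * u ^ i ∈ N) (huS : u ∈ S) (f : G → ℝ)
    (hf : ∀ c ∈ S, f (c * u) = f c) [DecidablePred (· ∈ N)] [DecidablePred (· ∈ S)] :
    ∑ c ∈ Finset.univ.filter (· ∈ S), f c =
      (p : ℝ) * ∑ c ∈ (Finset.univ.filter (· ∈ S)).filter (· ∈ N), f c := by
  classical
  have hpow : ∀ (j : ℕ), ∀ c ∈ S, f (c * u ^ j) = f c := by
    intro j
    induction j with
    | zero => simp
    | succ j ih =>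
      intro c hc
      rw [pow_succ, ← mul_assoc, hf _ (S.mul_mem hc (S.pow_mem huS j)), ih c hc]
  have hone : ∀ c : G, ((Finset.range p).filter fun j => c * u ^ j ∈ N).card = 1 := by
    intro c
    obtain ⟨i, hi⟩ := hgen c
    have hi' : c * u ^ (i % p) ∈ N := by
      have h : u ^ i = u ^ (i % p) * (u ^ p) ^ (i / p) := by
        rw [← pow_mul, ← pow_add, Nat.mod_add_div]
      rw [h, ← mul_assoc] at hi
      exact (N.mul_mem_cancel_right (N.pow_mem hup _)).1 hi
    rw [Finset.card_eq_one]
    refine ⟨i % p, Finset.eq_singleton_iff_unique_mem.2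
      ⟨Finset.mem_filter.2 ⟨Finset.mem_range.2 (Nat.mod_lt _ hp.pos), hi'⟩, fun j hj => ?_⟩⟩
    rw [Finset.mem_filter, Finset.mem_range] at hj
    by_contra hne
    apply hu
    -- the difference of the two exponents is prime to `p`
    have hd : u ^ ((j : ℤ) - ((i % p : ℕ) : ℤ)) ∈ N := by
      have h := N.mul_mem (N.inv_mem hi') hj.2
      rw [mul_inv_rev, mul_assoc, inv_mul_cancel_left] at h
      rwa [sub_eq_neg_add, zpow_add, zpow_neg, zpow_natCast, zpow_natCast]
    have hcop : IsCoprime ((j : ℤ) - ((i % p : ℕ) : ℤ)) (p : ℤ) := by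
      refine ((Nat.prime_iff_prime_int.1 hp).coprime_iff_not_dvd.2 fun hdvd => hne ?_).symm
      have hlt1 := hj.1
      have hlt2 := Nat.mod_lt i hp.pos
      have := Int.eq_zero_of_abs_lt_dvd hdvd (abs_lt.2 ⟨by omega, by omega⟩)
      omega
    obtain ⟨a, b, hab⟩ := hcop
    rw [← zpow_one u, ← hab, zpow_add, zpow_mul', zpow_mul', zpow_natCast]
    exact N.mul_mem (N.zpow_mem hd a) (N.zpow_mem hup b)
  calc ∑ c ∈ Finset.univ.filter (· ∈ S), f c
      = ∑ c ∈ Finset.univ.filter (· ∈ S), ∑ j ∈ Finset.range p,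
          if c * u ^ j ∈ N then f c else 0 := Finset.sum_congr rfl fun c _ => by
        rw [← Finset.sum_filter, Finset.sum_const, hone, one_smul]
    _ = ∑ j ∈ Finset.range p, ∑ c ∈ (Finset.univ.filter (· ∈ S)).filter (fun c => c * u ^ j ∈ N),
          f c := by
        rw [Finset.sum_comm]
        exact Finset.sum_congr rfl fun j _ => (Finset.sum_filter _ _).symm
    _ = ∑ _j ∈ Finset.range p, ∑ c ∈ (Finset.univ.filter (· ∈ S)).filter (· ∈ N), f c := by
        refine Finset.sum_congr rfl fun j _ => ?_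
        refine Finset.sum_bij' (fun c _ => c * u ^ j) (fun c _ => c * (u ^ j)⁻¹) (fun c hc => ?_)
          (fun c hc => ?_) (fun c _ => mul_inv_cancel_right c _)
          (fun c _ => inv_mul_cancel_right c _) (fun c hc => ?_)
        · simp only [Finset.mem_filter, Finset.mem_univ, true_and] at hc ⊢
          exact ⟨S.mul_mem hc.1 (S.pow_mem huS j), hc.2⟩
        · simp only [Finset.mem_filter, Finset.mem_univ, true_and] at hc ⊢
          exact ⟨S.mul_mem hc.1 (S.inv_mem (S.pow_mem huS j)), by rw [inv_mul_cancel_right]; exact hc.2⟩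
        · simp only [Finset.mem_filter, Finset.mem_univ, true_and] at hc
          exact (hpow j c hc.1).symm
    _ = (p : ℝ) * _ := by rw [Finset.sum_const, Finset.card_range, nsmul_eq_mul]

/-- The counting argument: `u` acts as a scalar. -/
theorem commute_of_count (N : Subgroup G) [N.Normal] {u : G} {p : ℕ} (hp : p.Prime) (hu : u ∉ N)
    (hup : u ^ p ∈ N) (hgen : ∀ g : G, ∃ i : ℕ, g * u ^ i ∈ N)
    (hex : ∀ g ∉ N, ∃ x : G, Commute g (x * u * x⁻¹))
    (huniq : ∀ g ∉ N, ∀ x y : G, Commute g (x * u * x⁻¹) → Commute g (y * u * y⁻¹) →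
      x * u * x⁻¹ = y * u * y⁻¹)
    {m : ℕ} (ρ : Representation ℂ G (Fin m → ℂ)) [hρ : ρ.IsIrreducible] (hm : m + 1 < p) (g : G) :
    ρ u * ρ g = ρ g * ρ u := by
  classical
  set χ : G → ℂ := ρ.character with hχ
  have hcχ : Cfsg.IsCharacter G χ := isCharacter_character ρ
  have hχ1 : χ 1 = m := by rw [hχ, Representation.char_one]; simp
  set C : Subgroup G := Subgroup.centralizer ({u} : Set G) with hC
  have hmemC : ∀ c, c ∈ C ↔ u * c = c * u := fun c => by
    rw [hC, Subgroup.mem_centralizer_iff]; simp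
  have huC : u ∈ C := (hmemC u).2 rfl
  haveI : Fintype C := Fintype.ofFinite _
  haveI : Fintype N := Fintype.ofFinite _
  have := Fintype.ofFinite (Cfsg.IrrCharacter C)
  set CF : Finset G := Finset.univ.filter (· ∈ C) with hCF
  set MF : Finset G := CF.filter (· ∈ N) with hMF
  -- constituents on the centralizer
  have hcC := isCharacter_comp C.subtype hcχ
  choose a ha using fun ψ : Cfsg.IrrCharacter C => exists_classInner_nat hcC (isCharacter_irr ψ)
  have hexp := Characters.Complete.classFunction_eq_sum (isClassFunction_of_isCharacter hcC)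
  have hval : ∀ c : C, χ c = ∑ ψ, (a ψ : ℂ) * (ψ : C → ℂ) c := fun c => by
    have := congrFun hexp c
    simp only [Finset.sum_apply, Pi.smul_apply, smul_eq_mul, ha, Function.comp_apply] at this
    exact this
  set T : ℕ := ∑ ψ, a ψ with hT
  set Q : ℕ := ∑ ψ, a ψ * a ψ with hQ
  have hself : Cfsg.classInner (χ ∘ C.subtype) (χ ∘ C.subtype) = (Q : ℂ) := by
    conv_lhs => rw [hexp, classInner_sum_left]
    rw [hQ, Nat.cast_sum]
    refine Finset.sum_congr rfl fun ψ _ => ?_
    rw [classInner_smul_left, ← hexp, ← classInner_conj_symm (χ ∘ C.subtype), ha, map_natCast,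
      Nat.cast_mul]
  choose d hd0 hd using fun ψ : Cfsg.IrrCharacter C => exists_degree_pos ψ
  have hTm : T ≤ m := by
    have h : m = ∑ ψ, a ψ * d ψ := by
      have := hval 1
      simp only [OneMemClass.coe_one, hχ1, hd] at this
      exact_mod_cast this
    rw [h]
    exact Finset.sum_le_sum fun ψ _ => Nat.le_mul_of_pos_right _ (hd0 ψ)
  have hT1 : 1 ≤ T := by
    by_contra! h
    have h0 : ∀ ψ, a ψ = 0 := fun ψ =>
      Nat.eq_zero_of_le_zero ((Finset.single_le_sum (fun ψ _ => Nat.zero_le (a ψ))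
        (Finset.mem_univ ψ)).trans (Nat.le_of_lt_succ h))
    have := hval 1
    simp only [OneMemClass.coe_one, h0, Nat.cast_zero, zero_mul, Finset.sum_const_zero] at this
    rw [hχ1, Nat.cast_eq_zero] at this
    exact (finrank_pos_of_isIrreducible ρ).ne' (by simpa using this)
  -- the sum on the centralizer
  have hsumC : ∑ c ∈ CF, Complex.normSq (χ c) = (Nat.card C : ℝ) * Q := by
    rw [hCF, Finset.sum_subtype (p := fun g => g ∈ C) _ (by simp) (fun g => Complex.normSq (χ g))]
    have h := hself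
    rw [Cfsg.classInner, inv_mul_eq_iff_eq_mul₀ natCard_ne_zero] at h
    have := congrArg Complex.re h
    rw [← Nat.cast_mul, Complex.natCast_re, Nat.cast_mul] at this
    simpa [Complex.re_sum, Complex.mul_conj, -Complex.mul_re] using this
  -- the part inside `N`
  have hcentral : ∀ c : C, c * ⟨u, huC⟩ = ⟨u, huC⟩ * c := fun c =>
    Subtype.ext ((hmemC c).1 c.2).symm
  have hcardC : (Nat.card C : ℝ) = (p : ℝ) * MF.card := by
    have h := sum_shift N C hp hu hup hgen huC (fun _ => (1 : ℝ)) (fun _ _ => rfl)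
    simp only [Finset.sum_const, nsmul_eq_mul, mul_one] at h
    rw [hMF, hCF, ← h, Nat.card_eq_fintype_card, Fintype.card_subtype]
  have hψM : ∀ ψ : Cfsg.IrrCharacter C,
      ∑ c ∈ MF, Complex.normSq (Cfsg.extendByZero C (ψ : C → ℂ) c) = (MF.card : ℝ) := by
    intro ψ
    have hinv : ∀ c ∈ C, Complex.normSq (Cfsg.extendByZero C (ψ : C → ℂ) (c * u)) =
        Complex.normSq (Cfsg.extendByZero C (ψ : C → ℂ) c) := by
      intro c hc
      obtain ⟨w, hw, hmul⟩ := TIBound.central_scalar ψ (z := (⟨u, huC⟩ : C)) hcentral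
      rw [extendByZero_of_mem _ _ (C.mul_mem hc huC), extendByZero_of_mem _ _ hc,
        show (⟨c * u, C.mul_mem hc huC⟩ : C) = ⟨u, huC⟩ * ⟨c, hc⟩ from hcentral ⟨c, hc⟩,
        hmul, map_mul, hw, one_mul]
    have h := sum_shift N C hp hu hup hgen huC
      (fun g => Complex.normSq (Cfsg.extendByZero C (ψ : C → ℂ) g)) hinv
    rw [← hCF, ← hMF] at h
    have h2 : ∑ c ∈ CF, Complex.normSq (Cfsg.extendByZero C (ψ : C → ℂ) c) = (Nat.card C : ℝ) := by
      rw [hCF, Finset.sum_subtype (p := fun g => g ∈ C) _ (by simp)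
        (fun g => Complex.normSq (Cfsg.extendByZero C (ψ : C → ℂ) g))]
      have h3 := classInner_self_irr ψ
      rw [Cfsg.classInner, inv_mul_eq_one₀ natCard_ne_zero, eq_comm] at h3
      have := congrArg Complex.re h3
      simpa [Complex.re_sum, Complex.mul_conj, -Complex.mul_re, extendByZero_coe] using this
    rw [h2, hcardC] at h
    exact (mul_left_cancel₀ (by exact_mod_cast hp.pos.ne') h).symm
  have hM : ∑ c ∈ MF, Complex.normSq (χ c) ≤ (MF.card : ℝ) * ((T : ℝ) * T) := by
    have hpt : ∀ c ∈ MF, Complex.normSq (χ c) ≤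
        (T : ℝ) * ∑ ψ, (a ψ : ℝ) * Complex.normSq (Cfsg.extendByZero C (ψ : C → ℂ) c) := by
      intro c hc
      have hcC' : c ∈ C := by
        simp only [hMF, hCF, Finset.mem_filter, Finset.mem_univ, true_and] at hc
        exact hc.1
      simp only [fun ψ : Cfsg.IrrCharacter C => extendByZero_of_mem C (ψ : C → ℂ) hcC']
      rw [show χ c = _ from hval ⟨c, hcC'⟩, Complex.normSq_eq_norm_sq]
      have h1 : ‖∑ ψ, (a ψ : ℂ) * (ψ : C → ℂ) ⟨c, hcC'⟩‖ ^ 2 ≤
          (∑ ψ, (a ψ : ℝ) * ‖(ψ : C → ℂ) ⟨c, hcC'⟩‖) ^ 2 := by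
        refine pow_le_pow_left₀ (norm_nonneg _) ((norm_sum_le _ _).trans_eq ?_) 2
        exact Finset.sum_congr rfl fun ψ _ => by rw [norm_mul, Complex.norm_natCast]
      refine h1.trans ((Finset.sum_sq_le_sum_mul_sum_of_sq_eq_mul _ (f := fun ψ => (a ψ : ℝ))
        (g := fun ψ => (a ψ : ℝ) * ‖(ψ : C → ℂ) ⟨c, hcC'⟩‖ ^ 2) (fun ψ _ => Nat.cast_nonneg _)
        (fun ψ _ => mul_nonneg (Nat.cast_nonneg _) (sq_nonneg _)) fun ψ _ => ?_).trans_eq ?_)
      · ring
      · rw [hT, Nat.cast_sum]
        simp only [Complex.normSq_eq_norm_sq]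
    refine (Finset.sum_le_sum hpt).trans_eq ?_
    rw [← Finset.mul_sum, Finset.sum_comm]
    simp only [← Finset.mul_sum, hψM, ← Finset.sum_mul]
    rw [show (∑ ψ, (a ψ : ℝ)) = (T : ℝ) by rw [hT, Nat.cast_sum]]
    ring
  -- counting
  have htot : ∑ g : G, Complex.normSq (χ g) = (Nat.card G : ℝ) := by
    have h := classInner_self_irr (irrChar ρ)
    rw [Cfsg.classInner, inv_mul_eq_one₀ natCard_ne_zero, eq_comm] at h
    have := congrArg Complex.re h
    simpa [coe_irrChar, ← hχ, Complex.re_sum, Complex.mul_conj, -Complex.mul_re] using this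
  set NF : Finset G := Finset.univ.filter (· ∈ N) with hNF
  have hcardG : (Nat.card G : ℝ) = (p : ℝ) * NF.card := by
    have h := sum_shift N ⊤ hp hu hup hgen trivial (fun _ => (1 : ℝ)) (fun _ _ => rfl)
    simp only [Finset.sum_const, nsmul_eq_mul, mul_one, Subgroup.mem_top, Finset.filter_true] at h
    rw [hNF, ← h, Nat.card_eq_fintype_card, Finset.card_univ]
  have hsN : (NF.card : ℝ) ≤ ∑ g ∈ NF, Complex.normSq (χ g) := by
    obtain ⟨s, hs⟩ := exists_classInner_nat (isCharacter_comp N.subtype hcχ)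
      (isCharacter_comp N.subtype hcχ)
    rw [Cfsg.classInner, inv_mul_eq_iff_eq_mul₀ natCard_ne_zero] at hs
    have h := congrArg Complex.re hs
    rw [← Nat.cast_mul, Complex.natCast_re, Nat.cast_mul] at h
    simp [Complex.re_sum, Complex.mul_conj, -Complex.mul_re] at h
    rw [hNF, Finset.sum_subtype (p := fun g => g ∈ N) _ (by simp) (fun g => Complex.normSq (χ g)),
      h, ← Fintype.card_subtype, ← Nat.card_eq_fintype_card]
    rcases Nat.eq_zero_or_pos s with hs0 | hs0
    · exfalso
      rw [hs0, Nat.cast_zero, mul_zero] at h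
      have h1 := (Finset.sum_eq_zero_iff_of_nonneg (fun g _ => Complex.normSq_nonneg _)).1 h 1
        (Finset.mem_univ _)
      rw [Complex.normSq_eq_zero, OneMemClass.coe_one, hχ1, Nat.cast_eq_zero] at h1
      exact (finrank_pos_of_isIrreducible ρ).ne' (by simpa using h1)
    · exact le_mul_of_one_le_right (Nat.cast_nonneg _) ((Nat.one_le_cast (α := ℝ)).2 hs0)
  have hcount : (Nat.card G : ℝ) * ∑ c ∈ CF \ MF, Complex.normSq (χ c) =
      (Nat.card C : ℝ) * ∑ g ∈ Finset.univ \ NF, Complex.normSq (χ g) := by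
    have h1 : ∀ x : G, ∑ c ∈ CF \ MF, Complex.normSq (χ c) =
        ∑ g ∈ Finset.univ \ NF, if x⁻¹ * g * x ∈ C then Complex.normSq (χ g) else 0 := by
      intro x
      rw [← Finset.sum_filter]
      refine Finset.sum_bij' (fun c _ => x * c * x⁻¹) (fun g _ => x⁻¹ * g * x) (fun c hc => ?_)
        (fun g hg => ?_) (fun c _ => by group) (fun g _ => by group)
        (fun c _ => congrArg Complex.normSq (Representation.char_conj ρ c x).symm)
      · simp only [hMF, hCF, hNF, Finset.mem_sdiff, Finset.mem_filter, Finset.mem_univ, true_and,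
          not_and] at hc ⊢
        refine ⟨fun h => hc.2 hc.1 ?_, ?_⟩
        · simpa [mul_assoc] using (inferInstance : N.Normal).conj_mem _ h x⁻¹
        · rw [show x⁻¹ * (x * c * x⁻¹) * x = c by group]; exact hc.1
      · simp only [hMF, hCF, hNF, Finset.mem_sdiff, Finset.mem_filter, Finset.mem_univ, true_and,
          not_and] at hg ⊢
        refine ⟨hg.2, fun _ h => hg.1 ?_⟩
        simpa [mul_assoc] using (inferInstance : N.Normal).conj_mem _ h x
    have h2 : (Nat.card G : ℝ) * ∑ c ∈ CF \ MF, Complex.normSq (χ c) =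
        ∑ x : G, ∑ g ∈ Finset.univ \ NF, if x⁻¹ * g * x ∈ C then Complex.normSq (χ g) else 0 := by
      rw [← Finset.sum_congr rfl (fun x _ => h1 x), Finset.sum_const, Finset.card_univ,
        nsmul_eq_mul, Nat.card_eq_fintype_card]
    rw [h2, Finset.sum_comm, Finset.mul_sum]
    refine Finset.sum_congr rfl fun g hg => ?_
    rw [← Finset.sum_filter, Finset.sum_const, nsmul_eq_mul]
    congr 2
    have hgN : g ∉ N := by simpa [hNF] using hg
    have hiff : ∀ x : G, x⁻¹ * g * x ∈ C ↔ Commute g (x * u * x⁻¹) := fun x => by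
      rw [hmemC, commute_iff_eq]
      constructor <;> intro h
      · calc g * (x * u * x⁻¹) = x * (x⁻¹ * g * x * u) * x⁻¹ := by group
          _ = x * u * x⁻¹ * g := by rw [← h]; group
      · calc u * (x⁻¹ * g * x) = x⁻¹ * (x * u * x⁻¹ * g) * x := by group
          _ = x⁻¹ * g * x * u := by rw [← h]; group
    obtain ⟨x0, hx0⟩ := hex g hgN
    rw [Nat.card_eq_fintype_card]
    refine Finset.card_nbij' (fun x => if hx : x0⁻¹ * x ∈ C then (⟨_, hx⟩ : C) else 1)
      (fun c => x0 * (c : G)) (fun x _ => Finset.mem_coe.2 (Finset.mem_univ _)) ?_ ?_ ?_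
    · intro c _
      refine Finset.mem_coe.2 (Finset.mem_filter.2 ⟨Finset.mem_univ _, (hiff _).2 ?_⟩)
      rwa [show x0 * (c : G) * u * (x0 * (c : G))⁻¹ = x0 * u * x0⁻¹ by
        rw [mul_assoc x0, ← (hmemC c).1 c.2]; group]
    · intro x hx
      have h := huniq g hgN x x0 ((hiff x).1 (Finset.mem_filter.1 hx).2) hx0
      have hxC : x0⁻¹ * x ∈ C := (hmemC _).2 <| by
        calc u * (x0⁻¹ * x) = x0⁻¹ * (x0 * u * x0⁻¹) * x := by group
          _ = x0⁻¹ * x * u := by rw [← h]; group
      simp [hxC]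
    · intro c _
      simp
  have hMC : MF ⊆ CF := Finset.filter_subset _ _
  rw [Finset.sum_sdiff_eq_sub hMC, Finset.sum_sdiff_eq_sub (Finset.subset_univ _), htot, hsumC,
    hcardC, hcardG] at hcount
  have hMpos : (0 : ℝ) < MF.card := by
    rw [Nat.cast_pos, Finset.card_pos]
    exact ⟨1, by simp [hMF, hCF]⟩
  have hNpos : (0 : ℝ) < NF.card := by
    rw [Nat.cast_pos, Finset.card_pos]
    exact ⟨1, by simp [hNF]⟩
  have hp0 : (0 : ℝ) < (p : ℝ) := by exact_mod_cast hp.pos
  have hineq : (p : ℝ) * Q - (T : ℝ) * T ≤ (p : ℝ) - 1 := by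
    refine le_of_mul_le_mul_left ?_ (mul_pos (mul_pos hp0 hNpos) hMpos)
    nlinarith [mul_le_mul_of_nonneg_left hsN (mul_pos hp0 hMpos).le,
      mul_le_mul_of_nonneg_left hM (mul_pos hp0 hNpos).le]
  have hTQ : T ≤ Q := Finset.sum_le_sum fun ψ _ => Nat.le_mul_self (a ψ)
  have hTQ' : (T : ℝ) ≤ Q := by exact_mod_cast hTQ
  have hT1' : (1 : ℝ) ≤ T := by exact_mod_cast hT1
  have hTp : (T : ℝ) + 2 ≤ p := by exact_mod_cast (show T + 2 ≤ p by omega)
  have hTeq : (T : ℝ) = 1 := by nlinarith
  have hQeq : (Q : ℝ) = 1 := by rw [hTeq] at hineq hTQ'; nlinarith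
  have hirr : Representation.IsIrreducible (ρ.comp C.subtype) := by
    rw [isIrreducible_iff_classInner_self]
    show Cfsg.classInner (χ ∘ C.subtype) (χ ∘ C.subtype) = 1
    rw [hself, Nat.cast_eq_one]
    exact_mod_cast hQeq
  obtain ⟨c, hc⟩ := central_operator (ρ.comp C.subtype) (z := (⟨u, huC⟩ : C)) hcentral
  change ρ u = c • 1 at hc
  rw [hc, smul_mul_assoc, one_mul, mul_smul_comm, mul_one]

section Main

open Cfsg.Agent.Lib.DegreeBounds

variable {p : ℕ} [Fact p.Prime]

omit [Fintype G] in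
/-- An element of `p`-power order generates a `p`-group. -/
theorem isPGroup_zpowers {y : G} {i : ℕ} (h : y ^ p ^ i = 1) : IsPGroup p (Subgroup.zpowers y) := by
  obtain ⟨j, -, hj⟩ := (Nat.dvd_prime_pow Fact.out).1 (orderOf_dvd_of_pow_eq_one h)
  exact IsPGroup.of_card (n := j) (by rw [Nat.card_zpowers, hj])

/-- The hypothesis of the theorem. -/
def Hyp (G : Type u) [Group G] (n p : ℕ) : Prop :=
  (n + 1) ^ 2 ≤ p ∨ ∀ K : Subgroup G, ¬ p ^ 2 ∣ Nat.card K → ∀ Q : Sylow p K, (Q : Subgroup K).Normal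

omit [Fintype G] in
theorem Hyp.subgroup [Finite G] {n : ℕ} (h : Hyp G n p) (H : Subgroup G) : Hyp H n p := by
  rcases h with h | h
  · exact Or.inl h
  refine Or.inr fun K hK Q => ?_
  let e := K.equivMapOfInjective H.subtype H.subtype_injective
  have h' := h (K.map H.subtype) (by rwa [← Nat.card_congr e.toEquiv])
    (Q.mapSurjective (f := e.toMonoidHom) e.surjective)
  have h'' : ((Q : Subgroup K).map e.toMonoidHom).Normal := h'
  rw [← Subgroup.comap_map_eq_self_of_injective (f := e.toMonoidHom) e.injective (Q : Subgroup K)]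
  exact h''.comap _

theorem main (n : ℕ) (hnp : n + 1 < p) : ∀ (k : ℕ) (G : Type u) [Group G] [Finite G] (χ : G → ℂ),
    Nat.card G ≤ k → Cfsg.IsCharacter G χ → Blichfeldt.Faithful χ → Cfsg.charDegree χ ≤ n →
    Hyp G n p → ∀ P : Sylow p G, (P : Subgroup G).Normal := by
  intro k
  induction k with
  | zero =>
    intro G _ _ χ hk
    exact absurd (Nat.card_pos (α := G)) (by omega)
  | succ k ih =>
  intro G _ _ χ hk hχ hf hdegn hyp P
  by_contra hP
  classical
  haveI : Fintype G := Fintype.ofFinite G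
  have hp : p.Prime := Fact.out
  -- `p`-subgroups are abelian
  have hbig : ∀ R : Subgroup G, IsPGroup p R → ∀ a ∈ R, ∀ b ∈ R, a * b = b * a := by
    intro R hR
    obtain ⟨i, hi⟩ := IsPGroup.iff_card.1 hR
    exact Blichfeldt.comm_of_big_subgroup R (N := n)
      (hi ▸ Blichfeldt.isBig_prime_pow hp hnp) hχ hf hdegn
  -- proper subgroups have one Sylow subgroup
  have hproper : ∀ H : Subgroup G, H ≠ ⊤ → ∀ Q : Sylow p H, (Q : Subgroup H).Normal := by
    intro H hH
    refine ih H (χ ∘ H.subtype) ?_ (isCharacter_comp H.subtype hχ)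
      (Blichfeldt.faithful_restrict hf H) hdegn (hyp.subgroup H)
    have h : Nat.card H < Nat.card G :=
      lt_of_le_of_ne H.card_le_card_group fun he => hH (Subgroup.eq_top_of_card_eq H he)
    omega
  have hinside : ∀ H : Subgroup G, H ≠ ⊤ → ∀ (Q : Sylow p H) (R : Subgroup G), IsPGroup p R →
      R ≤ H → R ≤ (Q : Subgroup H).map H.subtype := by
    intro H hH Q R hR hRH
    haveI := hproper H hH Q
    haveI := Sylow.unique_of_normal Q this
    obtain ⟨Q', hQ'⟩ := (hR.of_equiv (Subgroup.subgroupOfEquivOfLe hRH).symm).exists_le_sylow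
    rw [Subsingleton.elim Q' Q] at hQ'
    calc R = (R.subgroupOf H).map H.subtype := by
          rw [Subgroup.subgroupOf_map_subtype, inf_eq_left.2 hRH]
      _ ≤ _ := Subgroup.map_mono hQ'
  -- no proper normal subgroup contains `P`
  have hnormal : ∀ M : Subgroup G, M.Normal → (P : Subgroup G) ≤ M → M = ⊤ := by
    intro M hM hPM
    by_contra hne
    apply hP
    let Q : Sylow p M := default
    haveI := hM
    haveI := hproper M hne Q
    haveI := Sylow.characteristic_of_normal Q this
    have he : (Q : Subgroup M).map M.subtype = (P : Subgroup G) :=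
      P.3 (Q.2.map _) (hinside M hne Q P P.2 hPM)
    rw [← he]
    infer_instance
  -- a noncentral element of a Sylow subgroup lies in no other
  have huniq : ∀ (S T : Sylow p G) (y : G), y ∈ S → y ∈ T → y ∉ Subgroup.center G → S = T := by
    intro S T y hyS hyT hy
    have hne : Subgroup.centralizer ({y} : Set G) ≠ ⊤ := fun h => hy <| by
      rw [Subgroup.mem_center_iff]
      intro g
      have : g ∈ Subgroup.centralizer ({y} : Set G) := h ▸ Subgroup.mem_top g
      exact (Subgroup.mem_centralizer_iff.1 this y rfl).symm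
    have hle : ∀ R : Sylow p G, y ∈ R → (R : Subgroup G) ≤ Subgroup.centralizer ({y} : Set G) :=
      fun R hR r hr => Subgroup.mem_centralizer_iff.2 fun z hz => by
        rw [Set.mem_singleton_iff.1 hz]; exact hbig R R.2 y hR r hr
    let Q : Sylow p (Subgroup.centralizer ({y} : Set G)) := default
    have h1 := S.3 (Q.2.map _) (hinside _ hne Q S S.2 (hle S hyS))
    have h2 := T.3 (Q.2.map _) (hinside _ hne Q T T.2 (hle T hyT))
    exact Sylow.ext (h1.symm.trans h2)
  -- two Sylow subgroups meeting a centralizer in noncentral elements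
  have htwo : ∀ g : G, g ∉ Subgroup.center G → ∀ (S T : Sylow p G) (y z : G), y ∈ S → z ∈ T →
      Commute g y → Commute g z → y ∉ Subgroup.center G → z ∉ Subgroup.center G → S = T := by
    intro g hg S T y z hy hz hgy hgz hyc hzc
    have hne : Subgroup.centralizer ({g} : Set G) ≠ ⊤ := fun h => hg <| by
      rw [Subgroup.mem_center_iff]
      intro x
      have : x ∈ Subgroup.centralizer ({g} : Set G) := h ▸ Subgroup.mem_top x
      exact (Subgroup.mem_centralizer_iff.1 this g rfl).symm
    let Q : Sylow p (Subgroup.centralizer ({g} : Set G)) := default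
    obtain ⟨R, hR⟩ := (Q.2.map (Subgroup.centralizer ({g} : Set G)).subtype).exists_le_sylow
    have hmem : ∀ (S : Sylow p G), ∀ y ∈ S, Commute g y → y ∈ R := fun S y hy hgy =>
      hR (hinside _ hne Q (Subgroup.zpowers y) (S.2.to_le (Subgroup.zpowers_le.2 hy))
        (Subgroup.zpowers_le.2 (Subgroup.mem_centralizer_iff.2 fun x hx => by
          rw [Set.mem_singleton_iff.1 hx]; exact hgy.eq))
        (Subgroup.mem_zpowers y))
    exact (huniq S R y hy (hmem S y hy hgy) hyc).trans (huniq T R z hz (hmem T z hz hgz) hzc).symm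
  obtain ⟨ms, hms, hsep⟩ := Blichfeldt.exists_constituent hχ
  have hfaith : ∀ g : G, (∀ a ∈ ms, (a : G → ℂ) g = (a : G → ℂ) 1) → g = 1 :=
    fun g h => hf g (hsep g h)
  by_cases hPZ : (P : Subgroup G) ⊓ Subgroup.center G = ⊥
  · -- trivial central intersection: the degree bound
    haveI : Fintype (P : Subgroup G) := Fintype.ofFinite _
    have hcoe : ∀ x : G, (P : Subgroup G).map (MulAut.conj x).toMonoidHom =
        ((x • P : Sylow p G) : Subgroup G) := fun x => rfl
    have hS : TIBound.Setting (P : Subgroup G) := by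
      refine ⟨hbig P P.2, hPZ, fun g hg x y hx hy => ?_⟩
      rw [Ne, Subgroup.eq_bot_iff_forall] at hx hy
      push Not at hx hy
      obtain ⟨y1, ⟨hgy1, a1, ha1, rfl⟩, hy1⟩ := hx
      obtain ⟨y2, ⟨hgy2, a2, ha2, rfl⟩, hy2⟩ := hy
      have hnc : ∀ (x a : G), a ∈ P → MulAut.conj x a ≠ 1 → MulAut.conj x a ∉ Subgroup.center G := by
        intro x a ha hne hz
        apply hne
        have ha' : a ∈ Subgroup.center G := by
          simpa [mul_assoc] using (inferInstance : (Subgroup.center G).Normal).conj_mem _ hz x⁻¹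
        rw [Subgroup.mem_bot.1 (hPZ ▸ Subgroup.mem_inf.2 ⟨ha, ha'⟩ : a ∈ (⊥ : Subgroup G)), map_one]
      rw [hcoe, hcoe]
      have hc1 := Subgroup.mem_centralizer_iff.1 hgy1 g rfl
      have hc2 := Subgroup.mem_centralizer_iff.1 hgy2 g rfl
      exact congrArg (fun S : Sylow p G => (S : Subgroup G)) (htwo g hg (x • P) (y • P) _ _
        (hcoe x ▸ ⟨a1, ha1, rfl⟩ : _ ∈ ((x • P : Sylow p G) : Subgroup G))
        (hcoe y ▸ ⟨a2, ha2, rfl⟩ : _ ∈ ((y • P : Sylow p G) : Subgroup G))
        hc1 hc2 (hnc x a1 ha1 hy1) (hnc y a2 ha2 hy2))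
    obtain ⟨a, ha, ha1⟩ : ∃ a ∈ ms, (a : G → ℂ) 1 ≠ 1 := by
      by_contra! hlin
      have hcomm : ∀ x y : G, x * y = y * x := fun x y => by
        rw [← commutatorElement_eq_one_iff_mul_comm]
        refine hfaith _ fun a ha => ?_
        simp only [commutatorElement_def,
          Characters.Linear.apply_mul_of_degree_one (isCharacter_irr a) (hlin a ha)]
        have h1 := Characters.Linear.apply_mul_of_degree_one (isCharacter_irr a) (hlin a ha) x x⁻¹
        have h2 := Characters.Linear.apply_mul_of_degree_one (isCharacter_irr a) (hlin a ha) y y⁻¹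
        rw [mul_inv_cancel] at h1 h2
        linear_combination (-((a : G → ℂ) y * (a : G → ℂ) y⁻¹)) * h1 - (a : G → ℂ) 1 * h2 +
          (a : G → ℂ) 1 * hlin a ha
      exact hP ⟨fun x hx g => by rwa [hcomm g x, mul_inv_cancel_right]⟩
    have hb := TIBound.bound_two hS a.2 ha1 hnormal
    have hd : ((a : G → ℂ) 1).re ≤ n := by
      rw [DegreeBounds.Basic.charDegree_irr a, Complex.natCast_re]
      exact_mod_cast (hms a ha).trans hdegn
    have hcard : (n + 1) ^ 2 ≤ Nat.card (P : Subgroup G) := by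
      obtain ⟨i, hi⟩ := IsPGroup.iff_card.1 P.2
      have hi0 : i ≠ 0 := fun h0 => hP <| by
        rw [h0, pow_zero, Subgroup.card_eq_one] at hi
        rw [hi]
        infer_instance
      rcases hyp with hA | hB
      · rw [hi]
        exact hA.trans (le_self_pow₀ hp.one_lt.le hi0)
      · by_cases h2 : 2 ≤ i
        · rw [hi]
          exact le_trans (Nat.pow_le_pow_left hnp.le 2) (Nat.pow_le_pow_right hp.pos h2)
        · exfalso
          apply hP
          let e : G ≃* (⊤ : Subgroup G) := Subgroup.topEquiv.symm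
          have h' := hB ⊤ (fun hdvd => ?_) (P.mapSurjective (f := e.toMonoidHom) e.surjective)
          · have h'' : ((P : Subgroup G).map e.toMonoidHom).Normal := h'
            rw [← Subgroup.comap_map_eq_self_of_injective (f := e.toMonoidHom) e.injective (P : Subgroup G)]
            exact h''.comap _
          · rw [Subgroup.card_top] at hdvd
            have := P.pow_dvd_card_of_pow_dvd_card hdvd
            rw [hi, Nat.pow_dvd_pow_iff_le_right hp.one_lt] at this
            exact h2 this
    have h1 : (((n + 1) ^ 2 : ℕ) : ℝ) ≤ (Nat.card (P : Subgroup G) : ℝ) := by exact_mod_cast hcard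
    have h0 : (0 : ℝ) ≤ ((a : G → ℂ) 1).re := by
      rw [DegreeBounds.Basic.charDegree_irr a, Complex.natCast_re]; exact Nat.cast_nonneg _
    push_cast at h1
    nlinarith
  · -- nontrivial central intersection
    set N : Subgroup G := commutator G with hN
    have hdet : ∀ z : G, z ∈ N → z ∈ Subgroup.center G → ∀ i : ℕ, z ^ p ^ i = 1 → z = 1 := by
      intro z hzN hz i hzi
      refine hfaith z fun a ha => ?_
      obtain ⟨m, ρ, hρ, he⟩ := exists_rep a
      obtain ⟨c, hc⟩ := central_operator ρ (fun g => Subgroup.mem_center_iff.1 hz g)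
      have hm : m ≤ n := by
        have h := (hms a ha).trans hdegn
        have h' := DegreeBounds.Basic.charDegree_irr a
        rw [← he, Representation.char_one] at h'
        simp only [Module.finrank_fin_fun, Nat.cast_inj] at h'
        rw [he] at h'
        omega
      have hm0 : 0 < m := by simpa using finrank_pos_of_isIrreducible ρ
      haveI : Nonempty (Fin m) := ⟨⟨0, hm0⟩⟩
      let f : G →* ℂˣ := ((LinearMap.det).comp ρ).toHomUnits
      have h1 : c ^ m = 1 := by
        have h := congrArg Units.val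
          (MonoidHom.mem_ker.1 (Abelianization.commutator_subset_ker f hzN))
        simp only [f, MonoidHom.coe_toHomUnits, MonoidHom.coe_comp, Function.comp_apply, hc,
          LinearMap.det_smul, map_one, mul_one, Module.finrank_fin_fun, Units.val_one] at h
        exact h
      have h2 : c ^ p ^ i = 1 := by
        have h := congrArg ρ hzi
        rw [map_pow, hc, smul_pow, one_pow, map_one] at h
        have h' := congrFun (LinearMap.congr_fun h (fun _ => (1 : ℂ))) ⟨0, hm0⟩
        simpa using h'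
      have hcop : m.Coprime (p ^ i) :=
        Nat.Coprime.pow_right _ (Nat.coprime_of_lt_prime hm0.ne' (by omega) hp).symm
      have h3 := pow_gcd_eq_one.2 ⟨h1, h2⟩
      rw [hcop.gcd_eq_one, pow_one] at h3
      rw [← he, ← Characters.Kernel.rep_eq_one_iff, hc, h3, one_smul]
    obtain ⟨z, hz, hz1⟩ := (Subgroup.ne_bot_iff_exists_ne_one).1 hPZ |>.elim
      fun x hx => (⟨x.1, x.2, fun h => hx (Subtype.ext h)⟩ : ∃ z, z ∈ (P : Subgroup G) ⊓ _ ∧ z ≠ 1)
    have hNtop : N ≠ ⊤ := fun h => hz1 <| by
      obtain ⟨i, hi⟩ := P.2 ⟨z, hz.1⟩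
      exact hdet z (h ▸ Subgroup.mem_top z) hz.2 i (by simpa using congrArg Subtype.val hi)
    haveI hNn : N.Normal := inferInstanceAs (commutator G).Normal
    -- `N` is a `p'`-group
    have hNp : ∀ y ∈ N, ∀ i : ℕ, y ^ p ^ i = 1 → y = 1 := by
      intro y hy i hyi
      let Q : Sylow p N := default
      haveI := hproper N hNtop Q
      haveI := Sylow.characteristic_of_normal Q this
      set R : Subgroup G := (Q : Subgroup N).map N.subtype with hR
      haveI hRn : R.Normal := by rw [hR]; infer_instance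
      have hRP : ∀ S : Sylow p G, R ≤ (S : Subgroup G) := by
        intro S
        obtain ⟨T, hT⟩ := (Q.2.map N.subtype).exists_le_sylow
        obtain ⟨x, rfl⟩ := MulAction.exists_smul_eq G T S
        intro r hr
        refine ⟨x⁻¹ * r * x, hT (show x⁻¹ * r * x ∈ R by simpa using hRn.conj_mem r hr x⁻¹), ?_⟩
        show x * (x⁻¹ * r * x) * x⁻¹ = r
        group
      have hcent : Subgroup.centralizer (R : Set G) = ⊤ := by
        refine hnormal _ inferInstance fun r hr => Subgroup.mem_centralizer_iff.2 fun w hw => ?_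
        exact hbig P P.2 w (hRP P hw) r hr
      have hyR : y ∈ R := by
        refine hinside N hNtop Q (Subgroup.zpowers y) ?_ (Subgroup.zpowers_le.2 hy)
          (Subgroup.mem_zpowers y)
        exact isPGroup_zpowers hyi
      refine hdet y hy ?_ i hyi
      rw [Subgroup.mem_center_iff]
      intro g
      exact (Subgroup.mem_centralizer_iff.1 (hcent ▸ Subgroup.mem_top g :
        g ∈ Subgroup.centralizer (R : Set G)) y hyR).symm
    have hpow : ∀ x ∈ P, ∃ i : ℕ, x ^ p ^ i = 1 := fun x hx =>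
      let ⟨i, hi⟩ := P.2 ⟨x, hx⟩
      ⟨i, by simpa using congrArg Subtype.val hi⟩
    have hNP : ∀ x, x ∈ N → x ∈ P → x = 1 := fun x hxN hxP =>
      let ⟨i, hi⟩ := hpow x hxP
      hNp x hxN i hi
    have hover : ∀ M : Subgroup G, N ≤ M → M.Normal := fun M hM => ⟨fun x hx g => by
      have h : ⁅g, x⁆ ∈ M := hM (Subgroup.commutator_mem_commutator (Subgroup.mem_top g) (Subgroup.mem_top x))
      have := M.mul_mem h hx
      rwa [commutatorElement_def, inv_mul_cancel_right] at this⟩
    have hdecomp : ∀ g : G, ∃ a ∈ N, ∃ b ∈ P, g = a * b := by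
      intro g
      have h : g ∈ N ⊔ (P : Subgroup G) :=
        hnormal _ (hover _ le_sup_left) le_sup_right ▸ Subgroup.mem_top g
      obtain ⟨a, ha, b, hb, he⟩ := Subgroup.mem_sup_of_normal_left.1 h
      exact ⟨a, ha, b, hb, he.symm⟩
    -- elements generating with `N` a proper subgroup are central
    have hcentral : ∀ y ∈ P, N ⊔ Subgroup.zpowers y ≠ ⊤ → y ∈ Subgroup.center G := by
      intro y hy hne
      have hyp' : IsPGroup p (Subgroup.zpowers y) := P.2.to_le (Subgroup.zpowers_le.2 hy)
      set H := N ⊔ Subgroup.zpowers y with hH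
      haveI := hover H le_sup_left
      let Q : Sylow p H := default
      haveI := hproper H hne Q
      haveI := Sylow.characteristic_of_normal Q this
      have hyQ : y ∈ (Q : Subgroup H).map H.subtype :=
        hinside H hne Q _ hyp' le_sup_right (Subgroup.mem_zpowers y)
      haveI hQn : ((Q : Subgroup H).map H.subtype).Normal := inferInstance
      have hcommN : ∀ a ∈ N, a * y = y * a := by
        intro a ha
        rw [← commutatorElement_eq_one_iff_mul_comm]
        have hq : ⁅a, y⁆ ∈ (Q : Subgroup H).map H.subtype := by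
          rw [commutatorElement_def]
          exact mul_mem (hQn.conj_mem y hyQ a) (inv_mem hyQ)
        obtain ⟨i, hi⟩ := Q.2.map H.subtype ⟨_, hq⟩
        exact hNp _ (Subgroup.commutator_mem_commutator (Subgroup.mem_top a) (Subgroup.mem_top y)) i
          (by simpa using congrArg Subtype.val hi)
      rw [Subgroup.mem_center_iff]
      intro g
      obtain ⟨a, ha, b, hb, rfl⟩ := hdecomp g
      rw [mul_assoc, hbig P P.2 b hb y hy, ← mul_assoc, hcommN a ha, mul_assoc]
    obtain ⟨u, hu, huc⟩ : ∃ u ∈ P, u ∉ Subgroup.center G := by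
      by_contra! hall
      exact hP ⟨fun x hx g => by rwa [Subgroup.mem_center_iff.1 (hall x hx) g, mul_inv_cancel_right]⟩
    have htop : N ⊔ Subgroup.zpowers u = ⊤ := not_not.1 fun h => huc (hcentral u hu h)
    obtain ⟨kk, hkk⟩ := hpow u hu
    have hPu : ∀ x ∈ P, ∃ t : ℕ, x = u ^ t := by
      intro x hx
      obtain ⟨a, ha, b, hb, he⟩ := Subgroup.mem_sup_of_normal_left.1 (htop ▸ Subgroup.mem_top x :
        x ∈ N ⊔ Subgroup.zpowers u)
      obtain ⟨t, rfl⟩ := (mem_powers_iff_mem_zpowers (G := G)).2 hb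
      refine ⟨t, ?_⟩
      have : a = 1 := hNP a ha <| by
        rw [eq_mul_inv_of_mul_eq he]
        exact mul_mem hx (inv_mem (pow_mem hu t))
      rw [← he, this, one_mul]
    have hgenN : ∀ g : G, ∃ t : ℕ, ∃ a ∈ N, g = a * u ^ t := fun g =>
      let ⟨a, ha, b, hb, he⟩ := hdecomp g
      let ⟨t, ht⟩ := hPu b hb
      ⟨t, a, ha, ht ▸ he⟩
    -- `N ⟨u ^ p⟩`
    set N1 : Subgroup G := N ⊔ Subgroup.zpowers (u ^ p) with hN1
    haveI := hover N1 le_sup_left
    have huN1 : u ∉ N1 := by
      intro h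
      obtain ⟨a, ha, b, hb, he⟩ := Subgroup.mem_sup_of_normal_left.1 h
      obtain ⟨t, rfl⟩ := (mem_powers_iff_mem_zpowers (G := G)).2 hb
      have ha1 : a = 1 := hNP a ha <| by
        rw [eq_mul_inv_of_mul_eq he]
        exact mul_mem hu (inv_mem (pow_mem (pow_mem hu p) t))
      rw [ha1, one_mul] at he
      apply huc
      -- `u = u ^ (p t)` with `u` a `p`-element
      have key : ∀ j : ℕ, u = u ^ ((p * t) ^ j) := by
        intro j
        induction j with
        | zero => simp
        | succ j ihj =>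
          have he' : u ^ (p * t) = u := by rw [pow_mul]; exact he
          rw [pow_succ', pow_mul, he', ← ihj]
      rw [key kk, mul_pow, pow_mul, hkk, one_pow]
      exact one_mem _
    have hupN1 : u ^ p ∈ N1 := Subgroup.mem_sup_right (Subgroup.mem_zpowers _)
    have hup : u ^ p ∈ Subgroup.center G :=
      hcentral _ (pow_mem hu p) fun h => huN1 (hN1 ▸ h.symm ▸ Subgroup.mem_top u)
    have hgen1 : ∀ g : G, ∃ i : ℕ, g * u ^ i ∈ N1 := by
      intro g
      obtain ⟨t, a, ha, rfl⟩ := hgenN g
      refine ⟨(p - 1) * t, ?_⟩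
      rw [mul_assoc, ← pow_add, show t + (p - 1) * t = p * t by
        rw [Nat.sub_mul, one_mul]
        have : t ≤ p * t := Nat.le_mul_of_pos_left _ hp.pos
        omega, pow_mul]
      exact mul_mem (Subgroup.mem_sup_left ha) (pow_mem hupN1 t)
    -- congruent elements of conjugate cyclic groups
    have hsame : ∀ x ∈ P, ∀ y ∈ P, x⁻¹ * y ∈ N → x = y := fun x hx y hy h =>
      inv_mul_eq_one.1 (hNP _ h (mul_mem (inv_mem hx) hy))
    have hconjN : ∀ x g : G, g⁻¹ * (x * g * x⁻¹) ∈ N := fun x g => by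
      have h := Subgroup.commutator_mem_commutator (Subgroup.mem_top g⁻¹) (Subgroup.mem_top x)
      have e : g⁻¹ * (x * g * x⁻¹) = ⁅g⁻¹, x⁆ := by rw [commutatorElement_def]; group
      rw [e]
      exact h
    -- exponents prime to `p`
    have hprimeGen : ∀ t : ℕ, u ^ t ∉ N1 → ∃ s : ℕ, (u ^ t) ^ s = u := by
      intro t ht
      have hnd : ¬ p ∣ t := fun ⟨s, hs⟩ => ht (by rw [hs, pow_mul]; exact pow_mem hupN1 s)
      obtain ⟨s, hs⟩ := Nat.exists_mul_mod_eq_one_of_coprime
        (k := p ^ (kk + 1)) (n := t) (Nat.Coprime.pow_right _ (hp.coprime_iff_not_dvd.2 hnd).symm)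
        (Nat.one_lt_pow (by omega) hp.one_lt)
      refine ⟨s, ?_⟩
      rw [← pow_mul, ← pow_mod_orderOf]
      have hdvd : orderOf u ∣ p ^ (kk + 1) :=
        (orderOf_dvd_of_pow_eq_one hkk).trans (pow_dvd_pow p (Nat.le_succ kk))
      rw [← Nat.mod_mod_of_dvd _ hdvd, hs.2, pow_mod_orderOf, pow_one]
    have hcopN : (p ^ kk).Coprime (Nat.card N) := by
      refine Nat.Coprime.pow_left _ (hp.coprime_iff_not_dvd.2 fun hdvd => ?_)
      obtain ⟨y, hy⟩ := exists_prime_orderOf_dvd_card' p hdvd
      have h1 : (y : G) = 1 := hNp y y.2 1 (by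
        rw [pow_one, ← hy, ← SubmonoidClass.coe_pow, pow_orderOf_eq_one, OneMemClass.coe_one])
      rw [show y = 1 from Subtype.ext h1, orderOf_one] at hy
      exact hp.one_lt.ne hy
    have hex : ∀ g ∉ N1, ∃ x : G, Commute g (x * u * x⁻¹) := by
      intro g hg
      obtain ⟨e, he1, he2⟩ := Nat.chineseRemainder hcopN 1 0
      obtain ⟨t, a, ha, hga⟩ := hgenN g
      -- `g ^ e` is the `p`-part
      have hq : g ^ p ^ kk ∈ N := by
        have h : (QuotientGroup.mk' N g) ^ p ^ kk = 1 := by
          rw [hga, map_mul, (QuotientGroup.eq_one_iff _).2 ha |> fun h => (h : QuotientGroup.mk' N a = 1),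
            one_mul, ← map_pow, ← pow_mul, mul_comm, pow_mul, hkk, one_pow, map_one]
        rw [← map_pow] at h
        exact (QuotientGroup.eq_one_iff _).1 h
      have hord : (g ^ e) ^ p ^ kk = 1 := by
        obtain ⟨r, hr⟩ := (Nat.modEq_zero_iff_dvd.1 he2)
        rw [← pow_mul, mul_comm, pow_mul, hr, pow_mul]
        have := congrArg Subtype.val (pow_card_eq_one' (x := (⟨_, hq⟩ : N)))
        rw [SubmonoidClass.coe_pow, OneMemClass.coe_one] at this
        rw [this, one_pow]
      obtain ⟨S, hS⟩ := (isPGroup_zpowers (p := p) hord).exists_le_sylow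
      obtain ⟨x, rfl⟩ := MulAction.exists_smul_eq G P S
      obtain ⟨w, hw, hwe⟩ := hS (Subgroup.mem_zpowers (g ^ e))
      change x * w * x⁻¹ = g ^ e at hwe
      obtain ⟨t', rfl⟩ := hPu w hw
      have hwt : u ^ t' = u ^ t := by
        refine hsame _ (pow_mem hu _) _ (pow_mem hu _) ((QuotientGroup.eq).1 ?_)
        have h1 : ((g ^ e : G) : G ⧸ N) = ((u ^ t' : G) : G ⧸ N) := by
          rw [← hwe]
          exact (QuotientGroup.eq.2 (hconjN x _)).symm
        rw [← h1, QuotientGroup.mk_pow, hga, QuotientGroup.mk_mul, (QuotientGroup.eq_one_iff a).2 ha,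
          one_mul, ← QuotientGroup.mk_pow, ← pow_mul]
        congr 1
        rw [← pow_mod_orderOf, Nat.ModEq.of_dvd (orderOf_dvd_of_pow_eq_one hkk) (he1.mul_left t),
          mul_one, pow_mod_orderOf]
      obtain ⟨s, hs⟩ := hprimeGen t fun h => hg (hga ▸ mul_mem (Subgroup.mem_sup_left ha) h)
      refine ⟨x, ?_⟩
      have h1 : Commute g (x * u ^ t * x⁻¹) := by
        rw [← hwt, hwe]; exact Commute.self_pow g e
      have h2 := h1.pow_right s
      rwa [conj_pow, hs] at h2
    have hgz : ∀ g ∉ N1, g ∉ Subgroup.center G := by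
      intro g hg hgc
      apply huc
      obtain ⟨t, a, ha, hga⟩ := hgenN g
      obtain ⟨s, hs⟩ := hprimeGen t fun h => hg (hga ▸ mul_mem (Subgroup.mem_sup_left ha) h)
      -- `a` commutes with `u`, hence has order prime to that of `u ^ t`
      have hau : Commute a (u ^ t) := by
        have h := (Subgroup.mem_center_iff.1 hgc (u ^ t))
        rw [hga] at h
        have h' : u ^ t * a * u ^ t = a * u ^ t * u ^ t := by rw [mul_assoc]; exact h
        exact (mul_right_cancel h').symm
      have hr : g ^ Nat.card N ∈ Subgroup.center G := pow_mem hgc _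
      have hra : a ^ Nat.card N = 1 := by
        have := congrArg Subtype.val (pow_card_eq_one' (x := (⟨a, ha⟩ : N)))
        rw [SubmonoidClass.coe_pow, OneMemClass.coe_one] at this
        exact this
      rw [hga, hau.mul_pow, hra, one_mul] at hr
      obtain ⟨d, hd, -⟩ := Nat.chineseRemainder hcopN 1 0
      obtain ⟨e, he1, he2⟩ := Nat.chineseRemainder hcopN 1 0
      obtain ⟨r, hr'⟩ := Nat.modEq_zero_iff_dvd.1 he2
      have hu' : u ^ t = ((u ^ t) ^ Nat.card N) ^ r := by
        rw [← pow_mul _ (Nat.card N), ← hr', ← pow_mul, ← pow_mod_orderOf u (t * e),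
          Nat.ModEq.of_dvd (orderOf_dvd_of_pow_eq_one hkk) (he1.mul_left t), mul_one, pow_mod_orderOf]
      rw [← hs, hu']
      exact pow_mem (pow_mem hr r) s
    have huniq1 : ∀ g ∉ N1, ∀ x y : G, Commute g (x * u * x⁻¹) → Commute g (y * u * y⁻¹) →
        x * u * x⁻¹ = y * u * y⁻¹ := by
      intro g hg x y hx hy
      have hnc : ∀ x : G, x * u * x⁻¹ ∉ Subgroup.center G := fun x h => huc <| by
        simpa [mul_assoc] using (inferInstance : (Subgroup.center G).Normal).conj_mem _ h x⁻¹
      have hST := htwo g (hgz g hg) (x • P) (y • P) _ _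
        (⟨u, hu, rfl⟩ : x * u * x⁻¹ ∈ ((x • P : Sylow p G) : Subgroup G))
        (⟨u, hu, rfl⟩ : y * u * y⁻¹ ∈ ((y • P : Sylow p G) : Subgroup G))
        hx hy (hnc x) (hnc y)
      have hmem : y * u * y⁻¹ ∈ ((x • P : Sylow p G) : Subgroup G) := by
        rw [hST]; exact ⟨u, hu, rfl⟩
      obtain ⟨w, hw, hwe⟩ := hmem
      change x * w * x⁻¹ = y * u * y⁻¹ at hwe
      have hwu : w = u := by
        refine hsame _ hw _ hu ((QuotientGroup.eq (s := N)).1 ?_)
        rw [QuotientGroup.eq.2 (hconjN x w), hwe, ← QuotientGroup.eq.2 (hconjN y u)]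
      rw [← hwe, hwu]
    apply huc
    rw [Subgroup.mem_center_iff]
    intro g
    rw [← commutatorElement_eq_one_iff_mul_comm]
    refine hfaith _ fun a ha => ?_
    obtain ⟨m, ρ, hρ, he⟩ := exists_rep a
    have hm : m + 1 < p := by
      have h := (hms a ha).trans hdegn
      have h' := DegreeBounds.Basic.charDegree_irr a
      rw [← he, Representation.char_one] at h'
      simp only [Module.finrank_fin_fun, Nat.cast_inj] at h'
      rw [he] at h'
      omega
    have hcomm := commute_of_count N1 hp huN1 hupN1 hgen1 hex huniq1 ρ hm g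
    rw [← he, ← Characters.Kernel.rep_eq_one_iff, commutatorElement_def, map_mul, map_mul, map_mul,
      ← hcomm, mul_assoc (ρ u), ← map_mul, mul_inv_cancel, map_one, mul_one, ← map_mul,
      mul_inv_cancel, map_one]

end Main

end Cfsg.Agent.Lib.Brauer.SmallDegree
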