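import Mathlib.LinearAlgebra.CliffordAlgebra.Conjugation
import Mathlib.LinearAlgebra.CliffordAlgebra.Contraction
import Mathlib.GroupTheory.SpecificGroups.Alternating
import Mathlib.GroupTheory.QuotientGroup.Basic

/-!
The double cover of an alternating group inside the even Clifford algebra of the standard form.
-/

set_option autoImplicit false

namespace Cfsg.Agent.Lib.Brauer.SpinCover

open Equiv
open scoped commutatorElement

variable (n : ℕ)

/-- The standard form. -/
noncomputable def Qn : QuadraticForm ℚ (Fin n → ℚ) :=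
  QuadraticMap.weightedSumSquares ℚ (fun _ : Fin n => (1 : ℚ))

/-- The algebra. -/
abbrev Alg := CliffordAlgebra (Qn n)

variable {n}

theorem nontrivial_alg : Nontrivial (Alg n) := by
  haveI : Invertible (2 : ℚ) := invertibleOfNonzero two_ne_zero
  infer_instance

theorem smul_one_inj {r s : ℚ} (h : r • (1 : Alg n) = s • 1) : r = s := by
  haveI := nontrivial_alg (n := n)
  rw [← Algebra.algebraMap_eq_smul_one, ← Algebra.algebraMap_eq_smul_one] at h
  exact (algebraMap ℚ (Alg n)).injective h

/-- The basis vectors. -/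
noncomputable def e (i : Fin n) : Alg n := CliffordAlgebra.ι (Qn n) (Pi.single i 1)

theorem e_sq (i : Fin n) : e i * e i = (1 : Alg n) := by
  rw [e, CliffordAlgebra.ι_sq_scalar]
  unfold Qn
  rw [QuadraticMap.weightedSumSquares_apply,
    Finset.sum_eq_single i (fun j _ hj => by simp [hj]) (fun h => absurd (Finset.mem_univ i) h)]
  simp
  rfl

theorem e_anti {i j : Fin n} (h : i ≠ j) : e i * e j = -(e j * e i : Alg n) := by
  refine CliffordAlgebra.ι_mul_ι_comm_of_isOrtho ?_
  rw [QuadraticMap.isOrtho_def]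
  unfold Qn
  rw [QuadraticMap.weightedSumSquares_apply,
    QuadraticMap.weightedSumSquares_apply, QuadraticMap.weightedSumSquares_apply,
    ← Finset.sum_add_distrib]
  refine Finset.sum_congr rfl fun k _ => ?_
  rcases eq_or_ne k i with rfl | hk
  · simp [h]
  · simp [hk]

theorem e_injective : Function.Injective (e (n := n)) := by
  intro i j h
  by_contra hne
  have h1 := e_anti hne
  rw [h, e_sq] at h1
  have h2 : (1 : ℚ) • (1 : Alg n) = (-1 : ℚ) • 1 := by rw [one_smul, neg_one_smul]; exact h1
  have := smul_one_inj h2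
  norm_num at this

/-- The word of a list of indices. -/
noncomputable def word (l : List (Fin n)) : Alg n := (l.map e).prod

/-- The sign of commuting `e i` past a word. -/
def eps (i : Fin n) (l : List (Fin n)) : ℚ := (-1) ^ (l.length + l.count i)

theorem e_mul_word (i : Fin n) : ∀ l : List (Fin n), e i * word l = eps i l • (word l * e i)
  | [] => by simp [word, eps]
  | j :: l => by
    have ih := e_mul_word i l
    have hw : word (j :: l) = e j * word l := by simp [word]
    rw [hw]
    rcases eq_or_ne j i with rfl | h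
    · rw [mul_assoc (e j) (word l), ← mul_smul_comm,
        show eps j (j :: l) = eps j l by
          simp only [eps, List.length_cons, List.count_cons_self]
          rw [show l.length + 1 + (l.count j + 1) = l.length + l.count j + 2 by ring, pow_add]
          norm_num, ← ih]
    · rw [← mul_assoc (e i), e_anti h.symm, neg_mul, mul_assoc, ih, mul_smul_comm, mul_assoc (e j),
        ← neg_smul]
      congr 1
      simp only [eps, List.length_cons, List.count_cons_of_ne h]
      rw [add_right_comm, pow_succ]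
      ring

/-- The span of the even words in which the indices of `S` occur evenly. -/
noncomputable def W (S : Finset (Fin n)) : Submodule ℚ (Alg n) :=
  Submodule.span ℚ {x | ∃ l : List (Fin n), Even l.length ∧ (∀ i ∈ S, Even (l.count i)) ∧ x = word l}

theorem word_scalar : ∀ (k : ℕ) (l : List (Fin n)), l.length = k → (∀ i, Even (l.count i)) →
    ∃ r : ℚ, word l = r • (1 : Alg n) := by
  intro k
  induction k using Nat.strong_induction_on with
  | _ k ih => ?_
  rintro (_ | ⟨i, t⟩) hk hev
  · exact ⟨1, by simp [word]⟩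
  · have hit : i ∈ t := by
      by_contra h
      have := hev i
      rw [List.count_cons_self, List.count_eq_zero.2 h] at this
      exact Nat.not_even_one this
    obtain ⟨l1, l2, rfl⟩ := List.append_of_mem hit
    have hev' : ∀ j, Even ((l1 ++ l2).count j) := by
      intro j
      have := hev j
      simp only [List.count_cons, List.count_append] at this ⊢
      rcases eq_or_ne i j with rfl | h
      · simp only [beq_self_eq_true, if_true] at this
        rw [show List.count i l1 + (List.count i l2 + 1) + 1 = List.count i l1 + List.count i l2 + 2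
          by ring] at this
        exact (Nat.even_add.1 this).2 even_two
      · simpa [beq_eq_false_iff_ne.2 h] using this
    obtain ⟨r, hr⟩ := ih (l1 ++ l2).length (by rw [← hk]; simp) (l1 ++ l2) rfl hev'
    refine ⟨eps i l1 * r, ?_⟩
    have hw : word (i :: (l1 ++ i :: l2)) = e i * word l1 * (e i * word l2) := by
      simp [word, mul_assoc]
    rw [hw, e_mul_word, smul_mul_assoc, mul_assoc, ← mul_assoc (e i), e_sq, one_mul,
      show word l1 * word l2 = word (l1 ++ l2) by simp [word], hr, smul_smul]

/-- Central elements of the even part are scalars. -/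
theorem scalar_of_central {u : Alg n} (hu : u ∈ W (∅ : Finset (Fin n)))
    (hc : ∀ i, u * e i = e i * u) : ∃ r : ℚ, u = r • (1 : Alg n) := by
  classical
  have hW : ∀ S : Finset (Fin n), u ∈ W S := by
    intro S
    induction S using Finset.induction_on with
    | empty => exact hu
    | insert i S hi ih =>
      let P : Alg n →ₗ[ℚ] Alg n :=
        (2 : ℚ)⁻¹ • (LinearMap.id + (LinearMap.mulRight ℚ (e i)).comp (LinearMap.mulLeft ℚ (e i)))
      have hP : ∀ x, P x = (2 : ℚ)⁻¹ • (x + e i * x * e i) := fun x => rfl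
      have hPu : P u = u := by
        rw [hP, ← hc, mul_assoc, e_sq, mul_one, ← two_smul ℚ u, smul_smul, inv_mul_cancel₀ two_ne_zero,
          one_smul]
      rw [← hPu]
      have hle : W S ≤ (W (insert i S)).comap P := by
        refine Submodule.span_le.2 ?_
        rintro _ ⟨l, hl, hlS, rfl⟩
        show P (word l) ∈ W (insert i S)
        rw [hP, e_mul_word, smul_mul_assoc, mul_assoc, e_sq, mul_one]
        by_cases hli : Even (l.count i)
        · refine Submodule.smul_mem _ _ ?_
          have hmem : word l ∈ W (insert i S) := Submodule.subset_span ⟨l, hl,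
            fun j hj => by
              rcases Finset.mem_insert.1 hj with rfl | hj
              · exact hli
              · exact hlS j hj, rfl⟩
          exact Submodule.add_mem _ hmem (Submodule.smul_mem _ _ hmem)
        · have he : eps i l = -1 := Odd.neg_one_pow (Even.add_odd hl (Nat.not_even_iff_odd.1 hli))
          rw [he, neg_one_smul, add_neg_cancel, smul_zero]
          exact Submodule.zero_mem _
      exact hle ih
  have h := hW Finset.univ
  suffices hle : W (Finset.univ : Finset (Fin n)) ≤ Submodule.span ℚ {(1 : Alg n)} by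
    obtain ⟨r, hr⟩ := Submodule.mem_span_singleton.1 (hle h)
    exact ⟨r, hr.symm⟩
  refine Submodule.span_le.2 ?_
  rintro _ ⟨l, -, hl, rfl⟩
  obtain ⟨r, hr⟩ := word_scalar _ l rfl fun i => hl i (Finset.mem_univ i)
  exact Submodule.mem_span_singleton.2 ⟨r, hr.symm⟩

theorem W_mul {x y : Alg n} (hx : x ∈ W (∅ : Finset (Fin n))) (hy : y ∈ W (∅ : Finset (Fin n))) :
    x * y ∈ W (∅ : Finset (Fin n)) := by
  induction hx, hy using Submodule.span_induction₂ with
  | mem_mem a b ha hb =>
    obtain ⟨l, hl, -, rfl⟩ := ha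
    obtain ⟨l', hl', -, rfl⟩ := hb
    refine Submodule.subset_span ⟨l ++ l', by rw [List.length_append]; exact hl.add hl', by simp, ?_⟩
    simp [word]
  | zero_left b _ => simp
  | zero_right a _ => simp
  | add_left a b c _ _ _ h1 h2 => rw [add_mul]; exact Submodule.add_mem _ h1 h2
  | add_right a b c _ _ _ h1 h2 => rw [mul_add]; exact Submodule.add_mem _ h1 h2
  | smul_left r a b _ _ h => rw [smul_mul_assoc]; exact Submodule.smul_mem _ _ h
  | smul_right r a b _ _ h => rw [mul_smul_comm]; exact Submodule.smul_mem _ _ h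

theorem one_mem_W : (1 : Alg n) ∈ W (∅ : Finset (Fin n)) :=
  Submodule.subset_span ⟨[], by simp, by simp, by simp [word]⟩

theorem reverse_mem_W {x : Alg n} (hx : x ∈ W (∅ : Finset (Fin n))) :
    CliffordAlgebra.reverse x ∈ W (∅ : Finset (Fin n)) := by
  induction hx using Submodule.span_induction with
  | mem a ha =>
    obtain ⟨l, hl, -, rfl⟩ := ha
    refine Submodule.subset_span ⟨l.reverse, by rwa [List.length_reverse], by simp, ?_⟩
    have h := CliffordAlgebra.reverse_prod_map_ι (Q := Qn n)
      (l.map fun i => (Pi.single i 1 : Fin n → ℚ))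
    simp only [List.map_map] at h
    simp only [word, List.map_reverse]
    exact h
  | zero => simp
  | add a b _ _ ha hb => rw [map_add]; exact Submodule.add_mem _ ha hb
  | smul r a _ ha => rw [map_smul]; exact Submodule.smul_mem _ _ ha

/-- `u` induces `σ` on the basis vectors. -/
def Act (u : Alg n) (σ : Perm (Fin n)) : Prop := ∀ a, u * e a = e (σ a) * u

theorem Act.mul {u v : Alg n} {σ τ : Perm (Fin n)} (h : Act u σ) (h' : Act v τ) :
    Act (u * v) (σ * τ) := fun a => by
  rw [mul_assoc, h', ← mul_assoc, h, mul_assoc, Perm.mul_apply]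

/-- The cover. -/
def cover (n : ℕ) : Subgroup (Alg n)ˣ where
  carrier := {u | (u : Alg n) ∈ W (∅ : Finset (Fin n)) ∧
    CliffordAlgebra.reverse (u : Alg n) = ((u⁻¹ : (Alg n)ˣ) : Alg n) ∧
    ∃ σ : alternatingGroup (Fin n), Act (u : Alg n) σ}
  one_mem' := ⟨one_mem_W, by simp, 1, fun a => by simp⟩
  mul_mem' := by
    rintro u v ⟨hu, hu', σ, hσ⟩ ⟨hv, hv', τ, hτ⟩
    refine ⟨W_mul hu hv, ?_, σ * τ, hσ.mul hτ⟩
    rw [Units.val_mul, CliffordAlgebra.reverse.map_mul, hu', hv', mul_inv_rev, Units.val_mul]
  inv_mem' := by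
    rintro u ⟨hu, hu', σ, hσ⟩
    refine ⟨hu' ▸ reverse_mem_W hu, by rw [← hu', CliffordAlgebra.reverse_reverse, inv_inv],
      σ⁻¹, fun a => ?_⟩
    have h := hσ ((σ : Perm (Fin n))⁻¹ a)
    rw [show (σ : Perm (Fin n)) ((σ : Perm (Fin n))⁻¹ a) = a from Equiv.apply_symm_apply _ a] at h
    rw [Units.inv_mul_eq_iff_eq_mul, ← mul_assoc, InvMemClass.coe_inv, h, mul_assoc, Units.mul_inv,
      mul_one]

theorem act_unique {u : (Alg n)ˣ} {σ τ : Perm (Fin n)} (h : Act (u : Alg n) σ)
    (h' : Act (u : Alg n) τ) : σ = τ :=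
  Equiv.ext fun a => e_injective ((Units.mul_left_inj u).1 ((h a).symm.trans (h' a)))

/-- The map to the alternating group. -/
noncomputable def proj (n : ℕ) : cover n →* alternatingGroup (Fin n) :=
  MonoidHom.mk' (fun u => u.2.2.2.choose) fun u v => Subtype.ext (by
    refine act_unique (u := (u * v : cover n).1) (u * v).2.2.2.choose_spec ?_
    rw [Subgroup.coe_mul, Units.val_mul, Subgroup.coe_mul]
    exact u.2.2.2.choose_spec.mul v.2.2.2.choose_spec)

theorem proj_spec (u : cover n) : Act ((u : (Alg n)ˣ) : Alg n) (proj n u) := u.2.2.2.choose_spec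

theorem proj_eq {u : cover n} {σ : alternatingGroup (Fin n)}
    (h : Act ((u : (Alg n)ˣ) : Alg n) σ) : proj n u = σ :=
  Subtype.ext (act_unique (proj_spec u) h)

theorem diff_mul_e {a b : Fin n} (h : a ≠ b) (k : Fin n) :
    (e a - e b) * e k = -(e (swap a b k) * (e a - e b) : Alg n) := by
  rcases eq_or_ne k a with rfl | hka
  · rw [swap_apply_left, sub_mul, mul_sub, e_sq, e_sq]
    abel
  rcases eq_or_ne k b with rfl | hkb
  · rw [swap_apply_right, sub_mul, mul_sub, e_sq, e_sq]
    abel
  · rw [swap_apply_of_ne_of_ne hka hkb, sub_mul, mul_sub, e_anti hka.symm, e_anti hkb.symm]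
    abel

theorem diff_sq {a b : Fin n} (h : a ≠ b) : (e a - e b) * (e a - e b) = (2 : ℚ) • (1 : Alg n) := by
  rw [sub_mul, mul_sub, mul_sub, e_sq, e_sq, e_anti h, two_smul]
  abel

/-- A lift of a product of two transpositions. -/
noncomputable def gen (a b c d : Fin n) : Alg n := (2 : ℚ)⁻¹ • ((e a - e b) * (e c - e d))

theorem gen_mul_gen {a b c d : Fin n} (h : a ≠ b) (h' : c ≠ d) :
    gen a b c d * gen c d a b = (1 : Alg n) := by
  rw [gen, gen, smul_mul_smul_comm, mul_assoc (e a - e b), ← mul_assoc (e c - e d), diff_sq h',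
    smul_mul_assoc, one_mul, mul_smul_comm, diff_sq h, smul_smul, smul_smul]
  norm_num

theorem gen_mem_W (a b c d : Fin n) : gen a b c d ∈ W (∅ : Finset (Fin n)) := by
  have hw : ∀ i j : Fin n, e i * e j ∈ W (∅ : Finset (Fin n)) := fun i j =>
    Submodule.subset_span ⟨[i, j], by simp, by simp, by simp [word]⟩
  rw [gen, sub_mul, mul_sub, mul_sub]
  exact Submodule.smul_mem _ _ (Submodule.sub_mem _ (Submodule.sub_mem _ (hw _ _) (hw _ _))
    (Submodule.sub_mem _ (hw _ _) (hw _ _)))

theorem gen_act {a b c d : Fin n} (h : a ≠ b) (h' : c ≠ d) :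
    Act (gen a b c d) (swap a b * swap c d) := fun k => by
  rw [gen, smul_mul_assoc, mul_smul_comm]
  congr 1
  rw [mul_assoc, diff_mul_e h', mul_neg, ← mul_assoc, diff_mul_e h, neg_mul, neg_neg, mul_assoc,
    Perm.mul_apply]

theorem reverse_gen (a b c d : Fin n) : CliffordAlgebra.reverse (gen a b c d) = gen c d a b := by
  rw [gen, gen, map_smul, CliffordAlgebra.reverse.map_mul, map_sub, map_sub]
  simp only [e, CliffordAlgebra.reverse_ι]

theorem sign_two_swaps {a b c d : Fin n} (h : a ≠ b) (h' : c ≠ d) :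
    swap a b * swap c d ∈ alternatingGroup (Fin n) := by
  rw [Perm.mem_alternatingGroup, map_mul, Perm.sign_swap h, Perm.sign_swap h']
  norm_num

theorem exists_gen {a b c d : Fin n} (h : a ≠ b) (h' : c ≠ d) :
    ∃ u : cover n, ((u : (Alg n)ˣ) : Alg n) = gen a b c d ∧
      ((proj n u : alternatingGroup (Fin n)) : Perm (Fin n)) = swap a b * swap c d :=
  let u : cover n := ⟨⟨gen a b c d, gen c d a b, gen_mul_gen h h', gen_mul_gen h' h⟩, gen_mem_W a b c d,
    reverse_gen a b c d, ⟨_, sign_two_swaps h h'⟩, gen_act h h'⟩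
  ⟨u, rfl, congrArg Subtype.val
    (proj_eq (u := u) (σ := ⟨_, sign_two_swaps h h'⟩) (gen_act h h'))⟩

theorem proj_surjective : Function.Surjective (proj n) := by
  set I : Subgroup (Perm (Fin n)) :=
    ((alternatingGroup (Fin n)).subtype.comp (proj n)).range with hI
  have hswap : ∀ a b c d : Fin n, a ≠ b → c ≠ d → swap a b * swap c d ∈ I := fun a b c d h h' => by
    obtain ⟨u, -, hu⟩ := exists_gen h h'
    exact ⟨u, hu⟩
  have key : ∀ σ : Perm (Fin n), (Perm.sign σ = 1 → σ ∈ I) ∧
      (Perm.sign σ = -1 → ∀ a b, a ≠ b → swap a b * σ ∈ I) := by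
    intro σ
    induction σ using Perm.swap_induction_on with
    | one => exact ⟨fun _ => I.one_mem, fun h => absurd h (by simp)⟩
    | swap_mul σ x y hxy ih =>
      have hs : Perm.sign (swap x y * σ) = - Perm.sign σ := by
        rw [map_mul, Perm.sign_swap hxy, neg_one_mul]
      refine ⟨fun h => ih.2 ?_ x y hxy, fun h a b hab => ?_⟩
      · rw [hs] at h
        exact neg_eq_iff_eq_neg.1 h
      · rw [hs, neg_inj] at h
        rw [← mul_assoc]
        exact I.mul_mem (hswap a b x y hab hxy) (ih.1 h)
  intro σ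
  obtain ⟨u, hu⟩ := (key σ).1 σ.2
  exact ⟨u, Subtype.ext hu⟩

theorem eq_of_proj_eq_one {u : cover n} (hu : proj n u = 1) :
    ((u : (Alg n)ˣ) : Alg n) = 1 ∨ ((u : (Alg n)ˣ) : Alg n) = -1 := by
  obtain ⟨r, hr⟩ := scalar_of_central u.2.1 (fun i => by
    have := proj_spec u i
    rwa [hu] at this)
  have h1 : ((u : (Alg n)ˣ) : Alg n) * CliffordAlgebra.reverse ((u : (Alg n)ˣ) : Alg n) = 1 := by
    rw [u.2.2.1, Units.mul_inv]
  rw [hr, map_smul, CliffordAlgebra.reverse.map_one, smul_mul_smul_comm, mul_one] at h1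
  have h2 : r * r = 1 := smul_one_inj (h1.trans (one_smul ℚ (1 : Alg n)).symm)
  rcases mul_self_eq_one_iff.1 h2 with h | h
  · exact Or.inl (by rw [hr, h, one_smul])
  · exact Or.inr (by rw [hr, h, neg_one_smul])

/-- The central involution. -/
noncomputable def zc (n : ℕ) : cover n :=
  ⟨-1, by
    rw [Units.val_neg, Units.val_one]
    exact Submodule.neg_mem _ one_mem_W, by simp, 1, fun a => by simp⟩

theorem zc_val : (((zc n : cover n) : (Alg n)ˣ) : Alg n) = -1 := rfl

theorem zc_mem_center : zc n ∈ Subgroup.center (cover n) := by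
  rw [Subgroup.mem_center_iff]
  intro g
  apply Subtype.ext
  apply Units.ext
  simp [zc_val]

theorem orderOf_zc : orderOf (zc n) = 2 := by
  apply orderOf_eq_prime
  · apply Subtype.ext
    apply Units.ext
    simp [zc_val, pow_two]
  · intro h
    have h1 : (-1 : ℚ) • (1 : Alg n) = (1 : ℚ) • 1 := by
      rw [neg_one_smul, one_smul]
      exact congrArg (fun u : cover n => ((u : (Alg n)ˣ) : Alg n)) h
    have := smul_one_inj h1
    norm_num at this

theorem zc_mem_commutator (hn : 4 ≤ n) : zc n ∈ commutator (cover n) := by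
  obtain ⟨a, b, c, d, hab, hac, had, hbc, hbd, hcd⟩ : ∃ a b c d : Fin n,
      a ≠ b ∧ a ≠ c ∧ a ≠ d ∧ b ≠ c ∧ b ≠ d ∧ c ≠ d :=
    ⟨⟨0, by omega⟩, ⟨1, by omega⟩, ⟨2, by omega⟩, ⟨3, by omega⟩, by simp, by simp, by simp, by simp,
      by simp, by simp⟩
  obtain ⟨g, hg, hgσ⟩ := exists_gen hab hcd
  obtain ⟨h, hh, -⟩ := exists_gen hac hbd
  have hact : Act (gen a b c d) (swap a b * swap c d) := gen_act hab hcd
  have h1 : gen a b c d * (e a - e c) = (e b - e d) * gen a b c d := by
    rw [mul_sub, hact, hact, sub_mul]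
    simp [Perm.mul_apply, swap_apply_of_ne_of_ne, hac, had, hac.symm, hbc.symm, had.symm, hbd.symm]
  have h2 : gen a b c d * (e b - e d) = (e a - e c) * gen a b c d := by
    rw [mul_sub, hact, hact, sub_mul]
    simp [Perm.mul_apply, swap_apply_of_ne_of_ne, hbc, hbd, had.symm, hbd.symm, hac.symm, hbc.symm]
  have h3 : (e b - e d) * (e a - e c) = -((e a - e c) * (e b - e d) : Alg n) := by
    rw [sub_mul, sub_mul, mul_sub, mul_sub, mul_sub, mul_sub, e_anti hab.symm, e_anti hbc,
      e_anti had.symm, e_anti hcd.symm]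
    abel
  have h4 : gen a b c d * gen a c b d = -(gen a c b d * gen a b c d) := by
    rw [show gen a c b d = (2 : ℚ)⁻¹ • ((e a - e c) * (e b - e d)) from rfl, mul_smul_comm,
      ← mul_assoc, h1, mul_assoc, h2, ← mul_assoc, h3, neg_mul, smul_neg, smul_mul_assoc]
  have h5 : ⁅g, h⁆ = zc n := by
    apply Subtype.ext
    apply Units.ext
    rw [zc_val, commutatorElement_def, Subgroup.coe_mul, Subgroup.coe_mul, Subgroup.coe_mul,
      Units.val_mul, Units.val_mul, Units.val_mul, hg, hh, h4, ← hg, ← hh]
    simp [mul_assoc]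
  exact h5 ▸ Subgroup.commutator_mem_commutator (Subgroup.mem_top _) (Subgroup.mem_top _)

theorem mem_zpowers_iff_ker (u : cover n) :
    u ∈ Subgroup.zpowers (zc n) ↔ u ∈ (proj n).ker := by
  constructor
  · intro hu
    obtain ⟨k, rfl⟩ := Subgroup.mem_zpowers_iff.1 hu
    refine Subgroup.zpow_mem _ ?_ k
    refine proj_eq (σ := 1) fun a => ?_
    simp [zc_val]
  · intro hu
    rcases eq_of_proj_eq_one hu with h | h
    · rw [show u = 1 from Subtype.ext (Units.ext h)]
      exact one_mem _
    · rw [show u = zc n from Subtype.ext (Units.ext h)]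
      exact Subgroup.mem_zpowers _

theorem finite_cover : Finite (cover n) := by
  haveI : Finite (Subgroup.zpowers (zc n)) := by
    refine Nat.finite_of_card_ne_zero ?_
    rw [Nat.card_zpowers, orderOf_zc]
    norm_num
  haveI : Finite (proj n).ker :=
    Finite.of_injective (fun u => (⟨u.1, (mem_zpowers_iff_ker u.1).2 u.2⟩ : Subgroup.zpowers (zc n)))
      fun u v h => Subtype.ext (congrArg (fun w : Subgroup.zpowers (zc n) => (w : cover n)) h)
  haveI : Finite (cover n ⧸ (proj n).ker) :=
    Finite.of_injective _ (QuotientGroup.kerLift_injective (proj n))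
  refine Nat.finite_of_card_ne_zero ?_
  rw [Subgroup.card_eq_card_quotient_mul_card_subgroup (proj n).ker]
  exact mul_ne_zero Nat.card_pos.ne' Nat.card_pos.ne'

/-- Existence of the double cover. -/
theorem exists_doubleCover (n : ℕ) (hn : 4 ≤ n) :
    ∃ (Γ : Type) (_ : Group Γ) (_ : Finite Γ) (z : Γ) (_ : z ∈ Subgroup.center Γ),
      orderOf z = 2 ∧ z ∈ commutator Γ ∧
        ∃ _ : (Subgroup.zpowers z).Normal,
          Nonempty (Γ ⧸ Subgroup.zpowers z ≃* alternatingGroup (Fin n)) := by
  have hk : Subgroup.zpowers (zc n) = (proj n).ker := Subgroup.ext mem_zpowers_iff_ker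
  haveI : (Subgroup.zpowers (zc n)).Normal := hk ▸ inferInstance
  exact ⟨cover n, inferInstance, finite_cover, zc n, zc_mem_center, orderOf_zc, zc_mem_commutator hn,
    inferInstance, ⟨(QuotientGroup.quotientMulEquivOfEq hk).trans
      (QuotientGroup.quotientKerEquivOfSurjective (proj n) proj_surjective)⟩⟩

end Cfsg.Agent.Lib.Brauer.SpinCover
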