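import Cfsg.Agent.Lib.Characters.Kernel
import Cfsg.Agent.Lib.Characters.Linear
import Cfsg.Agent.Lib.Induced.Basic

/-!
Degree bounds of Feit and Thompson from an abelian trivial intersection subgroup.
-/

set_option autoImplicit false
set_option linter.unusedSectionVars false

namespace Cfsg.Agent.Lib.Brauer.TIBound

open scoped ComplexConjugate
open Cfsg.Agent.Lib.Characters.Basic Cfsg.Agent.Lib.Induced.Basic

universe u

variable {G : Type u} [Group G] [Fintype G]

/-- The translates of an irreducible character by a normal subgroup sum to a multiple of it. -/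
theorem sum_translate (H : Subgroup G) [hH : H.Normal] [Fintype H] (χ : Cfsg.IrrCharacter G) :
    ∃ c : ℂ, ∀ g : G, ∑ h : H, (χ : G → ℂ) (g * (h : G)⁻¹) = c * (χ : G → ℂ) g := by
  classical
  obtain ⟨n, ρ, hρ, h⟩ := exists_rep χ
  let θ : G → ℂ := fun g => if g ∈ H then 1 else 0
  have hθ : Cfsg.IsClassFunction G θ := fun g k => by
    by_cases hg : g ∈ H
    · simp [θ, hg, hH.conj_mem g hg k]
    · have : k * g * k⁻¹ ∉ H := fun h' => hg (by simpa [mul_assoc] using hH.conj_mem _ h' k⁻¹)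
      simp [θ, hg, this]
  obtain ⟨c, hc, -⟩ := Characters.Complete.avg_eq_scalar hθ ρ
  refine ⟨c, fun g => ?_⟩
  have h1 : LinearMap.trace ℂ _ (ρ g * Characters.Complete.avg θ ρ) = c * ρ.character g := by
    rw [hc, mul_smul_comm, mul_one, map_smul, smul_eq_mul]
    rfl
  rw [← h, ← h1, Characters.Complete.avg, Finset.mul_sum, map_sum]
  simp only [mul_smul_comm, ← map_mul, map_smul, smul_eq_mul, θ, ite_mul, one_mul, zero_mul]
  rw [← Finset.sum_filter]
  exact (Finset.sum_subtype (Finset.univ.filter (· ∈ H)) (by simp)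
    (fun x => ρ.character (g * x⁻¹))).symm

/-- A central element multiplies an irreducible character by a scalar of norm one. -/
theorem central_scalar (χ : Cfsg.IrrCharacter G) {z : G} (hz : ∀ g : G, g * z = z * g) :
    ∃ c : ℂ, Complex.normSq c = 1 ∧ ∀ g : G, (χ : G → ℂ) (z * g) = c * (χ : G → ℂ) g := by
  classical
  obtain ⟨n, ρ, hρ, h⟩ := exists_rep χ
  let θ : G → ℂ := fun g => if g = z⁻¹ then 1 else 0
  have hθ : Cfsg.IsClassFunction G θ := fun g k => by
    have hz' : k * z⁻¹ * k⁻¹ = z⁻¹ := by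
      rw [mul_inv_eq_iff_eq_mul, ← inv_inj]
      simp only [mul_inv_rev, inv_inv]
      exact (hz k⁻¹).symm
    by_cases hg : g = z⁻¹
    · simp [θ, hg, hz']
    · have : k * g * k⁻¹ ≠ z⁻¹ := fun h' =>
        hg (mul_left_cancel (mul_right_cancel (h'.trans hz'.symm)))
      simp [θ, hg, this]
  obtain ⟨c, hc, -⟩ := Characters.Complete.avg_eq_scalar hθ ρ
  have hρz : ρ z = c • 1 := by
    rw [← hc, Characters.Complete.avg, Finset.sum_eq_single z⁻¹ (fun b _ hb => by simp [θ, hb])
      (fun hb => absurd (Finset.mem_univ _) hb)]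
    simp [θ]
  have hmul : ∀ g : G, (χ : G → ℂ) (z * g) = c * (χ : G → ℂ) g := fun g => by
    rw [← h]
    show LinearMap.trace ℂ _ (ρ (z * g)) = c * LinearMap.trace ℂ _ (ρ g)
    rw [map_mul, hρz, smul_mul_assoc, one_mul, map_smul, smul_eq_mul]
  refine ⟨c, ?_, hmul⟩
  have h1 := hmul z⁻¹
  have h2 : (χ : G → ℂ) z = c * (χ : G → ℂ) 1 := by simpa using hmul 1
  rw [mul_inv_cancel, apply_inv (isCharacter_irr χ), h2, map_mul,
    conj_apply_one (isCharacter_irr χ), ← mul_assoc, Complex.mul_conj] at h1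
  have h3 : (Complex.normSq c : ℂ) = 1 :=
    mul_right_cancel₀ (apply_one_ne_zero χ) (by rw [one_mul]; exact h1.symm)
  exact_mod_cast h3

/-- The average over translates by `H`. -/
noncomputable def coAvg (H : Subgroup G) [Fintype H] (χ : G → ℂ) (g : G) : ℂ :=
  (Nat.card H : ℂ)⁻¹ * ∑ h : H, χ (g * h)

theorem coAvg_mul_right (H : Subgroup G) [Fintype H] (χ : G → ℂ) (g : G) {k : G} (hk : k ∈ H) :
    coAvg H χ (g * k) = coAvg H χ g := by
  rw [coAvg, coAvg]
  congr 1
  exact Fintype.sum_equiv (Equiv.mulLeft ⟨k, hk⟩) _ _ fun h => by simp [mul_assoc]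

/-- A character nontrivial on a normal subgroup exceeds its average by norm at least one. -/
theorem normSq_sum_ge (H : Subgroup G) [H.Normal] [Fintype H] {χ : G → ℂ}
    (hχ : Cfsg.IsCharacter G χ) (hker : ∃ h ∈ H, χ h ≠ χ 1) :
    (Nat.card G : ℝ) + ∑ g : G, Complex.normSq (coAvg H χ g) ≤ ∑ g : G, Complex.normSq (χ g) := by
  classical
  have := Fintype.ofFinite (Cfsg.IrrCharacter G)
  -- a constituent which is nontrivial on `H`
  obtain ⟨ψ, k, hk, hk0, h0, hh0, hψ⟩ : ∃ (ψ : Cfsg.IrrCharacter G) (k : ℕ),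
      Cfsg.classInner χ (ψ : G → ℂ) = k ∧ k ≠ 0 ∧
      ∃ h ∈ H, (ψ : G → ℂ) h ≠ (ψ : G → ℂ) 1 := by
    by_contra! hcon
    obtain ⟨h, hh, hne⟩ := hker
    apply hne
    have he := Characters.Complete.classFunction_eq_sum (isClassFunction_of_isCharacter hχ)
    rw [congrFun he h, congrFun he 1]
    simp only [Finset.sum_apply, Pi.smul_apply, smul_eq_mul]
    refine Finset.sum_congr rfl fun ψ _ => ?_
    obtain ⟨k, hk⟩ := exists_classInner_nat hχ (isCharacter_irr ψ)
    by_cases hk0 : k = 0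
    · rw [hk, hk0, Nat.cast_zero, zero_mul, zero_mul]
    · rw [hcon ψ k hk hk0 h hh]
  obtain ⟨c, hc⟩ := sum_translate H ψ
  have hc0 : c = 0 := by
    by_contra hc0
    apply hψ
    refine mul_left_cancel₀ hc0 ?_
    rw [← hc, ← hc]
    exact Fintype.sum_equiv (Equiv.mulRight (⟨h0, hh0⟩⁻¹ : H)) _ _ fun h => by simp [mul_assoc]
  set α : G → ℂ := coAvg H χ with hα
  -- orthogonality of the average
  have hψsum : ∀ g : G, ∑ h : H, (ψ : G → ℂ) (g * (h : G)⁻¹) = 0 := fun g => by rw [hc, hc0, zero_mul]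
  have horth : ∑ g : G, α g * conj ((ψ : G → ℂ) g) = 0 := by
    simp only [hα, coAvg, mul_assoc, ← Finset.mul_sum, Finset.sum_mul]
    rw [Finset.sum_comm]
    have : ∀ h : H, ∑ g : G, χ (g * (h : G)) * conj ((ψ : G → ℂ) g) =
        ∑ g : G, χ g * conj ((ψ : G → ℂ) (g * (h : G)⁻¹)) := fun h =>
      Fintype.sum_equiv (Equiv.mulRight (h : G)) _ _ fun g => by simp
    simp only [this]
    rw [Finset.sum_comm]
    simp only [← Finset.mul_sum, ← map_sum, hψsum, map_zero, mul_zero, Finset.sum_const_zero]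
  set β : G → ℂ := fun g => χ g - α g with hβ
  have hβψ : ∑ g : G, β g * conj ((ψ : G → ℂ) g) = (Nat.card G : ℂ) * k := by
    simp only [hβ, sub_mul, Finset.sum_sub_distrib, horth, sub_zero]
    rw [← hk, Cfsg.classInner, mul_inv_cancel_left₀ natCard_ne_zero]
  have hψψ : ∑ g : G, (ψ : G → ℂ) g * conj ((ψ : G → ℂ) g) = (Nat.card G : ℂ) := by
    have h := classInner_self_irr ψ
    rwa [Cfsg.classInner, inv_mul_eq_one₀ natCard_ne_zero, eq_comm] at h
  have hβα : ∑ g : G, β g * conj (α g) = 0 := by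
    have hshift : ∀ h : H, ∑ g : G, χ (g * (h : G)) * conj (α g) = ∑ g : G, χ g * conj (α g) :=
      fun h => Fintype.sum_equiv (Equiv.mulRight (h : G)) _ _ fun g => by
        simp [hα, coAvg_mul_right H χ g h.2]
    have h1 : ∑ g : G, α g * conj (α g) = ∑ g : G, χ g * conj (α g) := by
      have h2 : ∀ g, α g * conj (α g) =
          (Nat.card H : ℂ)⁻¹ * ∑ h : H, χ (g * (h : G)) * conj (α g) := fun g => by
        rw [← Finset.sum_mul, ← mul_assoc]
        rfl
      simp only [h2, ← Finset.mul_sum]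
      rw [Finset.sum_comm]
      simp only [hshift, Finset.sum_const, Finset.card_univ, nsmul_eq_mul,
        ← Nat.card_eq_fintype_card]
      rw [inv_mul_cancel_left₀ (subgroup_card_ne_zero H)]
    simp only [hβ, sub_mul, Finset.sum_sub_distrib, h1, sub_self]
  -- real parts
  have hβψ' : ∑ g : G, (β g * conj ((ψ : G → ℂ) g)).re = (Nat.card G : ℝ) * k := by
    rw [← Complex.re_sum, hβψ]; simp
  have hψψ' : ∑ g : G, Complex.normSq ((ψ : G → ℂ) g) = (Nat.card G : ℝ) := by
    have := congrArg Complex.re hψψ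
    simpa [Complex.re_sum, Complex.mul_conj, -Complex.mul_re] using this
  have hge : (Nat.card G : ℝ) ≤ ∑ g : G, Complex.normSq (β g) := by
    have h1 : (0 : ℝ) ≤ ∑ g : G, Complex.normSq (β g - (ψ : G → ℂ) g) :=
      Finset.sum_nonneg fun g _ => Complex.normSq_nonneg _
    simp only [Complex.normSq_sub, Finset.sum_sub_distrib, Finset.sum_add_distrib,
      ← Finset.mul_sum, hβψ', hψψ'] at h1
    have h2 : (1 : ℝ) ≤ k := by exact_mod_cast Nat.one_le_iff_ne_zero.2 hk0
    have h3 : (0 : ℝ) ≤ (Nat.card G : ℝ) := Nat.cast_nonneg _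
    nlinarith
  have hsplit : ∑ g : G, Complex.normSq (χ g) =
      ∑ g : G, Complex.normSq (β g) + ∑ g : G, Complex.normSq (α g) := by
    have h0' := congrArg Complex.re hβα
    rw [Complex.re_sum, Complex.zero_re] at h0'
    rw [show χ = fun g => β g + α g from funext fun g => (sub_add_cancel _ _).symm]
    simp only [Complex.normSq_add, Finset.sum_add_distrib, ← Finset.mul_sum, h0', mul_zero,
      add_zero]
  rw [hsplit]
  exact add_le_add hge le_rfl

/-- An abelian subgroup each of whose conjugates has its own set of centralizing elements. -/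
structure Setting (H : Subgroup G) : Prop where
  comm : ∀ a ∈ H, ∀ b ∈ H, a * b = b * a
  center : H ⊓ Subgroup.center G = ⊥
  unique : ∀ g : G, g ∉ Subgroup.center G → ∀ a b : G,
    Subgroup.centralizer ({g} : Set G) ⊓ H.map (MulAut.conj a).toMonoidHom ≠ ⊥ →
    Subgroup.centralizer ({g} : Set G) ⊓ H.map (MulAut.conj b).toMonoidHom ≠ ⊥ →
    H.map (MulAut.conj a).toMonoidHom = H.map (MulAut.conj b).toMonoidHom

theorem meets {H : Subgroup G} {g a h : G} (hh : h ∈ H) (h1 : h ≠ 1)
    (hc : g * (a * h * a⁻¹) = a * h * a⁻¹ * g) :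
    Subgroup.centralizer ({g} : Set G) ⊓ H.map (MulAut.conj a).toMonoidHom ≠ ⊥ := fun he => by
  have hmem : a * h * a⁻¹ ∈ Subgroup.centralizer ({g} : Set G) ⊓ H.map (MulAut.conj a).toMonoidHom :=
    ⟨Subgroup.mem_centralizer_iff.2 fun x hx => by rw [Set.mem_singleton_iff.1 hx]; exact hc,
      h, hh, rfl⟩
  rw [he, Subgroup.mem_bot] at hmem
  exact h1 (conj_eq_one_iff.1 hmem)

theorem mem_normalizer_of_map_eq {H : Subgroup G} {a b : G}
    (h : H.map (MulAut.conj a).toMonoidHom = H.map (MulAut.conj b).toMonoidHom) :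
    b⁻¹ * a ∈ Subgroup.normalizer (H : Set G) := by
  refine Subgroup.mem_normalizer_iff.2 fun x => ⟨fun hx => ?_, fun hx => ?_⟩
  · have h1 : a * x * a⁻¹ ∈ H.map (MulAut.conj b).toMonoidHom := h ▸ ⟨x, hx, rfl⟩
    obtain ⟨y, hy, he⟩ := h1
    have : b⁻¹ * a * x * (b⁻¹ * a)⁻¹ = y := by
      have h2 : a * x * a⁻¹ = b * y * b⁻¹ := he.symm
      calc b⁻¹ * a * x * (b⁻¹ * a)⁻¹ = b⁻¹ * (a * x * a⁻¹) * b := by group
        _ = y := by rw [h2]; group
    rwa [this]
  · have h1 : b * (b⁻¹ * a * x * (b⁻¹ * a)⁻¹) * b⁻¹ ∈ H.map (MulAut.conj a).toMonoidHom :=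
      h ▸ ⟨_, hx, rfl⟩
    obtain ⟨y, hy, he⟩ := h1
    have : x = y := by
      have h2 : a * y * a⁻¹ = b * (b⁻¹ * a * x * (b⁻¹ * a)⁻¹) * b⁻¹ := he
      calc x = a⁻¹ * (b * (b⁻¹ * a * x * (b⁻¹ * a)⁻¹) * b⁻¹) * a := by group
        _ = y := by rw [← h2]; group
    rwa [this]

/-- The first bound. -/
theorem bound {H : Subgroup G} [Fintype H] (hS : Setting H) {χ : G → ℂ}
    (hχ : Cfsg.IsIrrCharacter G χ) (hker : ∃ h ∈ H, χ h ≠ χ 1) :
    (Nat.card H : ℝ) * (Cfsg.classInner (fun h : H => χ h) (fun _ => 1)).re ^ 2 < (χ 1).re ^ 2 := by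
  classical
  set N : Subgroup G := Subgroup.normalizer (H : Set G) with hNdef
  have hHN : H ≤ N := Subgroup.le_normalizer
  haveI hnormal : (H.subgroupOf N).Normal :=
    (Subgroup.normal_subgroupOf_iff_le_normalizer hHN).2 le_rfl
  haveI : Fintype N := Fintype.ofFinite _
  haveI : Fintype (H.subgroupOf N) := Fintype.ofFinite _
  obtain ⟨k0, hk0, hne⟩ := hker
  have hk1 : k0 ≠ 1 := fun h => hne (by rw [h])
  set α : G → ℂ := coAvg H χ with hα
  set C : Finset G := Finset.univ.filter (fun g => ∃ h ∈ H, h ≠ 1 ∧ g * h = h * g) with hC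
  have hmemC : ∀ g, g ∈ C ↔ ∃ h ∈ H, h ≠ 1 ∧ g * h = h * g := fun g => by simp [hC]
  set NF : Finset G := Finset.univ.filter (· ∈ N) with hNF
  have hzc : ∀ h ∈ H, h ≠ 1 → h ∉ Subgroup.center G := fun h hh h1 hz =>
    h1 (Subgroup.mem_bot.1 (hS.center ▸ Subgroup.mem_inf.2 ⟨hh, hz⟩))
  have hCN : C ⊆ NF := by
    intro g hg
    obtain ⟨h, hh, h1, hc⟩ := (hmemC g).1 hg
    have he := hS.unique h (hzc h hh h1) g 1 (meets hh h1 (by rw [hc]; group))
      (meets hh h1 (by group))
    simpa [hNF] using mem_normalizer_of_map_eq he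
  have hoff : ∀ g ∈ NF \ C, α g = χ g := by
    intro g hg
    rw [Finset.mem_sdiff, hmemC] at hg
    have hgN : g ∈ N := by simpa [hNF] using hg.1
    let f : H → H := fun k => ⟨g⁻¹ * (k : G) * g * (k : G)⁻¹,
      H.mul_mem ((Subgroup.mem_normalizer_iff''.1 hgN _).1 k.2) (H.inv_mem k.2)⟩
    have hf : Function.Injective f := by
      intro k k' hkk
      have h := congrArg Subtype.val hkk
      simp only [f] at h
      by_contra hne'
      refine hg.2 ⟨(k' : G)⁻¹ * k, H.mul_mem (H.inv_mem k'.2) k.2,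
        fun h' => hne' (Subtype.ext (inv_mul_eq_one.1 h').symm), ?_⟩
      have h2 : (k : G) * g * (k : G)⁻¹ = (k' : G) * g * (k' : G)⁻¹ := by
        have := congrArg (g * ·) h
        simpa [mul_assoc] using this
      calc g * ((k' : G)⁻¹ * k) = (k' : G)⁻¹ * ((k' : G) * g * (k' : G)⁻¹) * k := by group
        _ = (k' : G)⁻¹ * k * g := by rw [← h2]; group
    rw [hα, coAvg, ← Fintype.sum_equiv (Equiv.ofBijective f hf.bijective_of_finite)
      (fun _ => χ g) (fun h : H => χ (g * h)) (fun k => ?_), Finset.sum_const, Finset.card_univ,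
      nsmul_eq_mul, ← Nat.card_eq_fintype_card, inv_mul_cancel_left₀ (subgroup_card_ne_zero H)]
    rw [Equiv.ofBijective_apply]
    show χ g = χ (g * (g⁻¹ * (k : G) * g * (k : G)⁻¹))
    rw [show g * (g⁻¹ * (k : G) * g * (k : G)⁻¹) = (k : G) * g * (k : G)⁻¹ by group]
    exact (isClassFunction_irr ⟨χ, hχ⟩ g k).symm
  -- the norm inequality on the normalizer
  have hav : ∀ g : N, coAvg (H.subgroupOf N) (χ ∘ N.subtype) g = α g := fun g => by
    rw [hα, coAvg, coAvg, Nat.card_congr (Subgroup.subgroupOfEquivOfLe hHN).toEquiv]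
    congr 1
    exact Fintype.sum_equiv (Subgroup.subgroupOfEquivOfLe hHN).toEquiv _ _ fun h => by simp
  have hge := normSq_sum_ge (H.subgroupOf N)
    (isCharacter_comp N.subtype (IsCharacter_of_isIrrCharacter hχ))
    ⟨⟨k0, hHN hk0⟩, Subgroup.mem_subgroupOf.2 hk0, by simpa using hne⟩
  simp only [hav, Function.comp_apply] at hge
  simp only [Subgroup.coe_subtype] at hge
  rw [← Finset.sum_subtype NF (by simp [hNF]) (fun g => Complex.normSq (α g)),
    ← Finset.sum_subtype NF (by simp [hNF]) (fun g => Complex.normSq (χ g)),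
    ← Finset.sum_sdiff hCN, ← Finset.sum_sdiff hCN,
    Finset.sum_congr rfl (fun g hg => by rw [hoff g hg] :
      ∀ g ∈ NF \ C, Complex.normSq (α g) = Complex.normSq (χ g))] at hge
  -- the averaged character on `H × Z`
  set Z : Subgroup G := Subgroup.center G with hZdef
  obtain ⟨c, hc⟩ := exists_classInner_nat
    (isCharacter_comp H.subtype (IsCharacter_of_isIrrCharacter hχ)) (isCharacter_one (G := H))
  have hc' : Cfsg.classInner (fun h : H => χ h) (fun _ => 1) = c := hc
  have hα1 : α 1 = c := by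
    rw [← hc', hα, coAvg, Cfsg.classInner]
    simp
  haveI : Fintype Z := Fintype.ofFinite _
  have hαC : ((Nat.card H : ℝ) * Nat.card Z) * (c : ℝ) ^ 2 ≤ ∑ g ∈ C, Complex.normSq (α g) := by
    have hinj : Function.Injective fun p : H × Z => (p.2 : G) * (p.1 : G) := by
      rintro ⟨h, z⟩ ⟨h', z'⟩ he
      have he' : (z : G) * h = z' * h' := he
      have h1 : (h' : G) * (h : G)⁻¹ ∈ H ⊓ Z := Subgroup.mem_inf.2
        ⟨H.mul_mem h'.2 (H.inv_mem h.2), by
          rw [show (h' : G) * (h : G)⁻¹ = (z' : G)⁻¹ * z by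
            rw [eq_inv_mul_iff_mul_eq, ← mul_assoc, ← he']; group]
          exact Z.mul_mem (Z.inv_mem z'.2) z.2⟩
      rw [hS.center, Subgroup.mem_bot, mul_inv_eq_one] at h1
      rw [h1] at he'
      exact Prod.ext (Subtype.ext h1.symm) (Subtype.ext (mul_right_cancel he'))
    have hsub : Finset.univ.image (fun p : H × Z => (p.2 : G) * (p.1 : G)) ⊆ C := by
      intro g hg
      obtain ⟨⟨h, z⟩, -, rfl⟩ := Finset.mem_image.1 hg
      refine (hmemC _).2 ⟨k0, hk0, hk1, ?_⟩
      rw [mul_assoc, hS.comm _ h.2 _ hk0, ← mul_assoc, ← mul_assoc,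
        Subgroup.mem_center_iff.1 z.2 k0]
    refine le_trans (le_of_eq ?_)
      (Finset.sum_le_sum_of_subset_of_nonneg hsub fun g _ _ => Complex.normSq_nonneg _)
    rw [Finset.sum_image hinj.injOn, Finset.sum_congr rfl (g := fun _ => (c : ℝ) ^ 2) fun p _ => ?_,
      Finset.sum_const, Finset.card_univ, Fintype.card_prod, nsmul_eq_mul,
      Nat.card_eq_fintype_card, Nat.card_eq_fintype_card, Nat.cast_mul]
    obtain ⟨w, hw, hmul⟩ := central_scalar ⟨χ, hχ⟩
      (z := (p.2 : G)) (fun g => Subgroup.mem_center_iff.1 p.2.2 g)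
    have h1 : α ((p.2 : G) * (p.1 : G)) = w * α 1 := by
      rw [hα, coAvg_mul_right H χ _ p.1.2, coAvg, coAvg, mul_left_comm w]
      congr 1
      rw [Finset.mul_sum]
      exact Finset.sum_congr rfl fun h _ => by rw [one_mul]; exact hmul h
    rw [h1, hα1, map_mul, hw, one_mul, Complex.normSq_natCast, sq]
  -- counting in `G`
  obtain ⟨n, hn, hn1⟩ := exists_degree_pos (⟨χ, hχ⟩ : Cfsg.IrrCharacter G)
  have hn1' : χ 1 = n := hn1
  set ZF : Finset G := Finset.univ.filter (· ∈ Z) with hZF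
  have hZFC : ZF ⊆ C := fun z hz => (hmemC z).2
    ⟨k0, hk0, hk1, (Subgroup.mem_center_iff.1 (by simpa [hZF] using hz) k0).symm⟩
  have hZsum : ∑ g ∈ ZF, Complex.normSq (χ g) = (Nat.card Z : ℝ) * (n : ℝ) ^ 2 := by
    rw [Finset.sum_congr rfl (g := fun _ => (n : ℝ) ^ 2) fun z hz => ?_, Finset.sum_const,
      nsmul_eq_mul, hZF, ← Fintype.card_subtype, ← Nat.card_eq_fintype_card]
    obtain ⟨w, hw, hmul⟩ := central_scalar ⟨χ, hχ⟩
      (z := z) (fun g => Subgroup.mem_center_iff.1 (by simpa [hZF] using hz) g)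
    have := hmul 1
    rw [mul_one] at this
    rw [show χ z = w * χ 1 from this, hn1', map_mul, hw, one_mul, Complex.normSq_natCast, sq]
  have htot : ∑ g : G, Complex.normSq (χ g) = (Nat.card G : ℝ) := by
    have h := classInner_self_irr (⟨χ, hχ⟩ : Cfsg.IrrCharacter G)
    rw [Cfsg.classInner, inv_mul_eq_one₀ natCard_ne_zero, eq_comm] at h
    have := congrArg Complex.re h
    simpa [Complex.re_sum, Complex.mul_conj, -Complex.mul_re] using this
  have hcount : (Nat.card G : ℝ) * ∑ g ∈ C \ ZF, Complex.normSq (χ g) ≤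
      (Nat.card N : ℝ) * ∑ g ∈ Finset.univ \ ZF, Complex.normSq (χ g) := by
    have h1 : ∀ x : G, ∑ g ∈ C \ ZF, Complex.normSq (χ g) =
        ∑ g ∈ Finset.univ \ ZF, if x⁻¹ * g * x ∈ C \ ZF then Complex.normSq (χ g) else 0 := by
      intro x
      rw [← Finset.sum_filter]
      refine Finset.sum_bij' (fun g _ => x * g * x⁻¹) (fun g _ => x⁻¹ * g * x) (fun g hg => ?_)
        (fun g hg => (Finset.mem_filter.1 hg).2) (fun g _ => by group) (fun g _ => by group)
        (fun g _ => congrArg Complex.normSq (isClassFunction_irr ⟨χ, hχ⟩ g x).symm)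
      have hg' : x⁻¹ * (x * g * x⁻¹) * x = g := by group
      refine Finset.mem_filter.2 ⟨Finset.mem_sdiff.2 ⟨Finset.mem_univ _, fun hz => ?_⟩, by rwa [hg']⟩
      apply (Finset.mem_sdiff.1 hg).2
      simp only [hZF, Finset.mem_filter, Finset.mem_univ, true_and] at hz ⊢
      rw [← hg']
      simpa using (inferInstance : Z.Normal).conj_mem _ hz x⁻¹
    have h2 : (Nat.card G : ℝ) * ∑ g ∈ C \ ZF, Complex.normSq (χ g) =
        ∑ x : G, ∑ g ∈ Finset.univ \ ZF,
          if x⁻¹ * g * x ∈ C \ ZF then Complex.normSq (χ g) else 0 := by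
      rw [← Finset.sum_congr rfl (fun x _ => h1 x), Finset.sum_const, Finset.card_univ,
        nsmul_eq_mul, Nat.card_eq_fintype_card]
    rw [h2, Finset.sum_comm, Finset.mul_sum]
    refine Finset.sum_le_sum fun g hg => ?_
    rw [← Finset.sum_filter, Finset.sum_const, nsmul_eq_mul]
    refine mul_le_mul_of_nonneg_right ?_ (Complex.normSq_nonneg _)
    rcases (Finset.univ.filter fun x => x⁻¹ * g * x ∈ C \ ZF).eq_empty_or_nonempty with he | ⟨x0, hx0⟩
    · rw [he]; simp
    · norm_cast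
      rw [Nat.card_eq_fintype_card, ← Finset.card_univ]
      refine Finset.card_le_card_of_injOn (fun x => if hx : x0⁻¹ * x ∈ N then ⟨_, hx⟩ else 1)
        (fun _ _ => Finset.mem_coe.2 (Finset.mem_univ _)) fun x hx y hy hxy => ?_
      have hmem : ∀ x ∈ Finset.univ.filter (fun x => x⁻¹ * g * x ∈ C \ ZF), x0⁻¹ * x ∈ N := by
        intro x hx
        have hgz : g ∉ Subgroup.center G := by simpa [hZF, hZdef] using (Finset.mem_sdiff.1 hg).2
        obtain ⟨h, hh, hh1, hc1⟩ := (hmemC _).1 (Finset.mem_sdiff.1 (Finset.mem_filter.1 hx).2).1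
        obtain ⟨h', hh', hh1', hc2⟩ := (hmemC _).1 (Finset.mem_sdiff.1 (Finset.mem_filter.1 hx0).2).1
        refine mem_normalizer_of_map_eq (hS.unique g hgz x x0 (meets hh hh1 ?_) (meets hh' hh1' ?_))
        · calc g * (x * h * x⁻¹) = x * (x⁻¹ * g * x * h) * x⁻¹ := by group
            _ = x * h * x⁻¹ * g := by rw [hc1]; group
        · calc g * (x0 * h' * x0⁻¹) = x0 * (x0⁻¹ * g * x0 * h') * x0⁻¹ := by group
            _ = x0 * h' * x0⁻¹ * g := by rw [hc2]; group
      simp only [dif_pos (hmem x hx), dif_pos (hmem y hy), Subtype.mk.injEq] at hxy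
      exact mul_left_cancel hxy
  rw [Finset.sum_sdiff_eq_sub hZFC, Finset.sum_sdiff_eq_sub (Finset.subset_univ _), htot, hZsum]
    at hcount
  have hkey : (Nat.card N : ℝ) + (Nat.card H : ℝ) * Nat.card Z * (c : ℝ) ^ 2 ≤
      ∑ g ∈ C, Complex.normSq (χ g) := by linarith
  have hN0 : (0 : ℝ) < Nat.card N := by exact_mod_cast Nat.card_pos
  have hG0 : (0 : ℝ) < Nat.card G := by exact_mod_cast Nat.card_pos
  have hZ0 : (0 : ℝ) < Nat.card Z := by exact_mod_cast Nat.card_pos
  have hn0 : (0 : ℝ) < (n : ℝ) ^ 2 := by positivity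
  have hmain : (Nat.card G : ℝ) * (Nat.card Z : ℝ) * ((Nat.card H : ℝ) * (c : ℝ) ^ 2) <
      (Nat.card G : ℝ) * (Nat.card Z : ℝ) * (n : ℝ) ^ 2 := by
    nlinarith [mul_le_mul_of_nonneg_left hkey hG0.le, mul_pos (mul_pos hN0 hZ0) hn0]
  rw [hc', hn1', Complex.natCast_re, Complex.natCast_re]
  exact lt_of_mul_lt_mul_left hmain (mul_nonneg hG0.le hZ0.le)

/-- For an abelian group the norm of a character is at least its degree. -/
theorem degree_le_classInner_self {A : Type u} [Group A] [Fintype A]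
    (hcomm : ∀ a b : A, a * b = b * a) {φ : A → ℂ} (hφ : Cfsg.IsCharacter A φ) {d : ℕ}
    (hd : φ 1 = d) : (d : ℝ) ≤ (Cfsg.classInner φ φ).re := by
  classical
  have := Fintype.ofFinite (Cfsg.IrrCharacter A)
  choose k hk using fun ψ : Cfsg.IrrCharacter A => exists_classInner_nat hφ (isCharacter_irr ψ)
  have he := Characters.Complete.classFunction_eq_sum (isClassFunction_of_isCharacter hφ)
  have h1 : Cfsg.classInner φ φ = ∑ ψ, ((k ψ * k ψ : ℕ) : ℂ) := by
    conv_lhs => rw [he, classInner_sum_left]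
    refine Finset.sum_congr rfl fun ψ _ => ?_
    rw [classInner_smul_left, ← he, ← classInner_conj_symm φ, hk, map_natCast, Nat.cast_mul]
  have h2 : d = ∑ ψ, k ψ := by
    have := congrFun he 1
    simp only [Finset.sum_apply, Pi.smul_apply, smul_eq_mul, hd, hk,
      Characters.Linear.degree_eq_one_of_comm hcomm, mul_one] at this
    exact_mod_cast this
  rw [h1, h2, ← Nat.cast_sum, Complex.natCast_re]
  exact_mod_cast Finset.sum_le_sum fun ψ _ => Nat.le_mul_self (k ψ)

/-- The second bound. -/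
theorem bound_two {H : Subgroup G} [Fintype H] (hS : Setting H) {χ : G → ℂ}
    (hχ : Cfsg.IsIrrCharacter G χ) (hne1 : χ 1 ≠ 1)
    (hM : ∀ M : Subgroup G, M.Normal → H ≤ M → M = ⊤) :
    (Nat.card H : ℝ) < (1 + (χ 1).re) ^ 2 := by
  classical
  have := Fintype.ofFinite (Cfsg.IrrCharacter G)
  obtain ⟨n, hn, hn1⟩ := exists_degree_pos (⟨χ, hχ⟩ : Cfsg.IrrCharacter G)
  have hn1' : χ 1 = n := hn1
  have hn2 : 2 ≤ n := by
    rcases Nat.lt_or_ge n 2 with h | h
    · exact absurd (by rw [hn1', show n = 1 by omega, Nat.cast_one]) hne1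
    · exact h
  have hcχ := IsCharacter_of_isIrrCharacter hχ
  set φ : G → ℂ := χ * fun g => conj (χ g) with hφdef
  have hφ : Cfsg.IsCharacter G φ := isCharacter_mul hcχ (isCharacter_conj hcχ)
  choose k hk using fun ψ : Cfsg.IrrCharacter G => exists_classInner_nat hφ (isCharacter_irr ψ)
  choose dg hdg0 hdg using fun ψ : Cfsg.IrrCharacter G => exists_degree_pos ψ
  choose e he using fun ψ : Cfsg.IrrCharacter G =>
    exists_classInner_nat (isCharacter_comp H.subtype (isCharacter_irr ψ)) (isCharacter_one (G := H))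
  have hk1 : k (oneChar G) = 1 := by
    have h1 : Cfsg.classInner φ (oneChar G : G → ℂ) = 1 := by
      rw [← classInner_self_irr (⟨χ, hχ⟩ : Cfsg.IrrCharacter G), Cfsg.classInner, Cfsg.classInner]
      simp [hφdef, oneChar_apply]
    rw [hk] at h1
    exact_mod_cast h1
  have hdg1 : dg (oneChar G) = 1 := by
    have := hdg (oneChar G)
    rw [oneChar_apply] at this
    exact_mod_cast this.symm
  have he1 : e (oneChar G) = 1 := by
    have h := (he (oneChar G)).symm
    have h' : Cfsg.classInner ((oneChar G : G → ℂ) ∘ H.subtype) 1 = 1 := by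
      simp [Cfsg.classInner, oneChar_apply, Nat.card_eq_fintype_card]
    rw [h'] at h
    exact_mod_cast h
  have hexp := Characters.Complete.classFunction_eq_sum (isClassFunction_of_isCharacter hφ)
  have hdeg : n * n = ∑ ψ, k ψ * dg ψ := by
    have := congrFun hexp 1
    simp only [Finset.sum_apply, Pi.smul_apply, smul_eq_mul, hk, hdg] at this
    rw [hφdef, Pi.mul_apply, hn1', map_natCast] at this
    exact_mod_cast this
  have hres : Cfsg.classInner (fun h : H => χ h) (fun h : H => χ h) =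
      ((∑ ψ, k ψ * e ψ : ℕ) : ℂ) := by
    have hL : Cfsg.classInner (fun h : H => χ h) (fun h : H => χ h) =
        Cfsg.classInner (fun h : H => φ h) 1 := by
      simp [Cfsg.classInner, hφdef]
    have hexp' : (fun h : H => φ h) = ∑ ψ, (k ψ : ℂ) • ((ψ : G → ℂ) ∘ H.subtype) := by
      funext h
      conv_lhs => rw [congrFun hexp h]
      simp [Finset.sum_apply, hk]
    rw [hL, hexp', classInner_sum_left]
    simp only [classInner_smul_left, he]
    push_cast
    rfl
  have hlow : (n : ℝ) ≤ ((∑ ψ, k ψ * e ψ : ℕ) : ℝ) := by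
    have h := degree_le_classInner_self (φ := fun h : H => χ h)
      (fun a b => Subtype.ext (hS.comm a a.2 b b.2)) (isCharacter_comp H.subtype hcχ)
      (show χ ((1 : H) : G) = n by rw [OneMemClass.coe_one, hn1'])
    rwa [hres, Complex.natCast_re] at h
  set r : ℝ := Real.sqrt (Nat.card H) with hr
  have hr0 : 0 ≤ r := Real.sqrt_nonneg _
  have hr2 : r ^ 2 = (Nat.card H : ℝ) := Real.sq_sqrt (Nat.cast_nonneg _)
  have hlt : ∀ ψ : Cfsg.IrrCharacter G, ψ ≠ oneChar G → r * (e ψ : ℝ) < dg ψ := by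
    intro ψ hψ
    have hker : ∃ h ∈ H, (ψ : G → ℂ) h ≠ (ψ : G → ℂ) 1 := by
      by_contra! hcon
      have htop := hM _ (Characters.Kernel.charKer_normal (isCharacter_irr ψ)) fun h hh => hcon h hh
      have hconst : (ψ : G → ℂ) = fun _ => (ψ : G → ℂ) 1 := funext fun g =>
        (Characters.Kernel.mem_charKer (isCharacter_irr ψ) g).1 (htop ▸ Subgroup.mem_top g)
      apply hψ
      have h1 := classInner_self_irr ψ
      rw [hconst, Cfsg.classInner, hdg, map_natCast, Finset.sum_const, Finset.card_univ,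
        nsmul_eq_mul, ← Nat.card_eq_fintype_card, inv_mul_cancel_left₀ natCard_ne_zero] at h1
      have h2 : dg ψ = 1 := Nat.eq_one_of_mul_eq_one_right (by exact_mod_cast h1)
      refine Subtype.ext ?_
      rw [hconst, hdg, h2, Nat.cast_one]
      rfl
    have hb := bound hS ψ.2 hker
    rw [show Cfsg.classInner (fun h : H => (ψ : G → ℂ) h) (fun _ => 1) = (e ψ : ℂ) from he ψ,
      hdg, Complex.natCast_re, Complex.natCast_re, ← hr2, ← mul_pow] at hb
    exact lt_of_pow_lt_pow_left₀ 2 (Nat.cast_nonneg _) hb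
  have hsum : r * (((∑ ψ, k ψ * e ψ : ℕ) : ℝ) - 1) < ((n * n : ℕ) : ℝ) - 1 := by
    rw [hdeg]
    push_cast
    rw [← Finset.add_sum_erase Finset.univ (fun ψ => (k ψ : ℝ) * e ψ) (Finset.mem_univ (oneChar G)),
      ← Finset.add_sum_erase Finset.univ (fun ψ => (k ψ : ℝ) * dg ψ) (Finset.mem_univ (oneChar G)),
      hk1, he1, hdg1, Nat.cast_one, one_mul, add_sub_cancel_left, add_sub_cancel_left,
      Finset.mul_sum]
    refine Finset.sum_lt_sum (fun ψ hψ => ?_) ?_
    · rw [mul_left_comm]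
      exact mul_le_mul_of_nonneg_left (hlt ψ (Finset.mem_erase.1 hψ).1).le (Nat.cast_nonneg _)
    · by_contra! hcon
      have hzero : ∀ ψ ∈ Finset.univ.erase (oneChar G), k ψ * dg ψ = 0 := by
        intro ψ hψ
        rw [Nat.mul_eq_zero]
        left
        by_contra hk0
        have := hcon ψ hψ
        rw [mul_left_comm] at this
        have hpos : (0 : ℝ) < k ψ := by exact_mod_cast Nat.pos_of_ne_zero hk0
        exact absurd (le_of_mul_le_mul_left this hpos) (not_le.2 (hlt ψ (Finset.mem_erase.1 hψ).1))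
      have : n * n = 1 := by
        rw [hdeg, ← Finset.add_sum_erase _ _ (Finset.mem_univ (oneChar G)),
          Finset.sum_eq_zero hzero, hk1, hdg1, one_mul, add_zero]
      nlinarith
  rw [hn1', Complex.natCast_re, ← hr2]
  have hn2' : (2 : ℝ) ≤ n := by exact_mod_cast hn2
  push_cast at hsum hlow
  have : r < 1 + n := by
    by_contra! hcon
    nlinarith [mul_le_mul hcon (sub_le_sub_right hlow 1) (by linarith) hr0]
  nlinarith

end Cfsg.Agent.Lib.Brauer.TIBound
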