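import Cfsg.Agent.Lib.Zassenhaus.Basic
import Cfsg.Agent.Lib.Brauer.PermChar
import Cfsg.Agent.Lib.Characters.Linear
import Cfsg.Agent.Lib.Clifford.Linear
import Cfsg.Agent.Lib.Induced.Character

/-!
Linear characters of a point stabilizer in a simple Zassenhaus group with odd two-point stabilizer.
-/

set_option autoImplicit false
set_option linter.unusedSectionVars false

namespace Cfsg.Agent.Lib.Brauer.ZassenhausChar

open MulAction
open scoped ComplexConjugate
open Cfsg.Agent.Lib

universe u v

variable {G : Type u} {Ω : Type v} [Group G] [MulAction G Ω] [Finite G] [Fintype Ω]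

/-- The kernel of the stabilizer is regular on the other points. -/
theorem exists_translate {a : Ω} {H : Subgroup G} (hHa : H ≤ stabilizer G a)
    (hHcard : Nat.card H + 1 = Fintype.card Ω)
    (hHfix : ∀ u ∈ H, u ≠ 1 → ∀ c : Ω, u • c = c → c = a) {c d : Ω} (hc : c ≠ a) (hd : d ≠ a) :
    ∃ h ∈ H, h • c = d := by
  classical
  haveI : Fintype H := Fintype.ofFinite _
  let f : H → {x : Ω // x ≠ a} := fun h => ⟨(h : G) • c, fun e =>
    hc (MulAction.injective (h : G) (e.trans (mem_stabilizer_iff.1 (hHa h.2)).symm))⟩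
  have hf : Function.Injective f := by
    intro h k e
    by_contra hne
    refine hc (hHfix ((k : G)⁻¹ * h) (H.mul_mem (H.inv_mem k.2) h.2)
      (fun h' => hne (Subtype.ext (inv_mul_eq_one.1 h').symm)) c ?_)
    rw [mul_smul, show (h : G) • c = (k : G) • c from congrArg Subtype.val e, inv_smul_smul]
  have hcard : Fintype.card H = Fintype.card {x : Ω // x ≠ a} := by
    rw [Fintype.card_subtype_compl, Fintype.card_subtype_eq, ← Nat.card_eq_fintype_card (α := H)]
    omega
  obtain ⟨h, hh⟩ := ((Fintype.bijective_iff_injective_and_card f).2 ⟨hf, hcard⟩).2 ⟨d, hd⟩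
  exact ⟨h, h.2, congrArg Subtype.val hh⟩

/-- The transfer homomorphism of a point stabilizer, written with a section. -/
theorem exists_transfer (a : Ω) (s : Ω → G) (hs : ∀ c, s c • a = c) {A : Type*} [CommGroup A]
    (μ : stabilizer G a →* A) :
    ∃ V : G →* A, ∀ g : G, V g = ∏ c : Ω, μ ⟨(s (g • c))⁻¹ * g * s c, by
      rw [mem_stabilizer_iff, mul_smul, mul_smul, hs, inv_smul_eq_iff, hs]⟩ := by
  classical
  refine ⟨MonoidHom.mk' (fun g => ∏ c : Ω, μ ⟨(s (g • c))⁻¹ * g * s c, by
      rw [mem_stabilizer_iff, mul_smul, mul_smul, hs, inv_smul_eq_iff, hs]⟩) fun g h => ?_,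
    fun g => rfl⟩
  rw [← Equiv.prod_comp (MulAction.toPerm h)
    (fun c => μ ⟨(s (g • c))⁻¹ * g * s c, by
      rw [mem_stabilizer_iff, mul_smul, mul_smul, hs, inv_smul_eq_iff, hs]⟩), ← Finset.prod_mul_distrib]
  refine Finset.prod_congr rfl fun c _ => ?_
  rw [← map_mul]
  congr 1
  apply Subtype.ext
  show (s ((g * h) • c))⁻¹ * (g * h) * s c =
    (s (g • h • c))⁻¹ * g * s (h • c) * ((s (h • c))⁻¹ * h * s c)
  rw [mul_smul]
  group

/-- In a simple Zassenhaus group a linear character of a point stabilizer, transferred, gives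
`μ(e) μ(t⁻¹ e t) = 1`. -/
theorem mul_conj_eq_one [IsSimpleGroup G] (hZ : Cfsg.IsZassenhausGroup G Ω) {a b : Ω} (hab : a ≠ b)
    (μ : stabilizer G a →* ℂˣ) {t : G} (ht : t • a = b) {e : G} (hea : e • a = a) (heb : e • b = b) :
    μ ⟨e, hea⟩ * μ ⟨t⁻¹ * e * t, by
      rw [mem_stabilizer_iff, mul_smul, mul_smul, ht, heb, inv_smul_eq_iff, ht]⟩ = 1 := by
  classical
  haveI := Zassenhaus.pretransitive hZ
  set E := stabilizer G a ⊓ stabilizer G b with hE
  have hfixE : ∀ k : E, (k : G) • a = a ∧ (k : G) • b = b := fun k => Zassenhaus.mem_pair_stabilizer.1 k.2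
  have hsemi : ∀ (k k' : E) (c : Ω), c ≠ a → c ≠ b → (k : G) • c = (k' : G) • c → k = k' := by
    intro k k' c hca hcb h
    apply Subtype.ext
    refine (inv_mul_eq_one.1 (Zassenhaus.eq_one_of_three hZ (g := (k' : G)⁻¹ * k) hab hcb.symm hca.symm
      ?_ ?_ ?_)).symm
    · rw [mul_smul, (hfixE k).1, inv_smul_eq_iff, (hfixE k').1]
    · rw [mul_smul, (hfixE k).2, inv_smul_eq_iff, (hfixE k').2]
    · rw [mul_smul, h, inv_smul_smul]
  choose s0 hs0 using fun c : Ω => exists_smul_eq G a c
  let r : Ω → Ω := fun c => (Quotient.mk (orbitRel E Ω) c).out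
  have hr : ∀ c, ∃ k : E, (k : G) • r c = c := by
    intro c
    have h : orbitRel E Ω (r c) c := Quotient.exact (Quotient.out_eq _)
    obtain ⟨k, hk⟩ := (orbitRel_apply.1 h : r c ∈ orbit E c)
    refine ⟨k⁻¹, ?_⟩
    rw [← hk]
    exact inv_smul_smul k c
  choose κ hκ using hr
  let s : Ω → G := fun c => if c = a then 1 else if c = b then t else (κ c : G) * s0 (r c)
  have hs : ∀ c, s c • a = c := by
    intro c
    show (if c = a then 1 else if c = b then t else (κ c : G) * s0 (r c)) • a = c
    split_ifs with h1 h2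
    · rw [one_smul, h1]
    · rw [ht, h2]
    · rw [mul_smul, hs0, hκ]
  obtain ⟨V, hV⟩ := exists_transfer a s hs μ
  have hV1 : V e = 1 := by
    rcases V.normal_ker.eq_bot_or_eq_top with h | h
    · exfalso
      have hcomm : ∀ x y : G, x * y = y * x := fun x y => by
        apply (MonoidHom.ker_eq_bot_iff V).1 h
        rw [map_mul, map_mul, mul_comm]
      haveI := Zassenhaus.faithful hZ
      obtain ⟨g, hg, hga, -⟩ := Zassenhaus.exists_fix_pair hZ hab
      refine hg (eq_of_smul_eq_smul fun c : Ω => ?_)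
      obtain ⟨x, rfl⟩ := exists_smul_eq G a c
      rw [← mul_smul, hcomm, mul_smul, hga, one_smul]
    · exact MonoidHom.mem_ker.1 (h ▸ Subgroup.mem_top e)
  rw [hV, ← Finset.mul_prod_erase Finset.univ _ (Finset.mem_univ a),
    ← Finset.mul_prod_erase (Finset.univ.erase a) _
      (Finset.mem_erase.2 ⟨hab.symm, Finset.mem_univ b⟩),
    Finset.prod_eq_one (s := (Finset.univ.erase a).erase b) (fun c hc => ?_), mul_one] at hV1
  · refine Eq.trans ?_ hV1
    congr 1
    · congr 1
      apply Subtype.ext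
      show e = (s (e • a))⁻¹ * e * s a
      simp [s, hea]
    · congr 1
      apply Subtype.ext
      show t⁻¹ * e * t = (s (e • b))⁻¹ * e * s b
      simp [s, heb, hab.symm]
  · have hcb : c ≠ b := (Finset.mem_erase.1 hc).1
    have hca : c ≠ a := (Finset.mem_erase.1 (Finset.mem_erase.1 hc).2).1
    have heca : e • c ≠ a := fun h => hca (MulAction.injective e (h.trans hea.symm))
    have hecb : e • c ≠ b := fun h => hcb (MulAction.injective e (h.trans heb.symm))
    have heE : e ∈ E := Zassenhaus.mem_pair_stabilizer.2 ⟨hea, heb⟩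
    have hrr : r (e • c) = r c := by
      show (Quotient.mk (orbitRel E Ω) (e • c)).out = (Quotient.mk (orbitRel E Ω) c).out
      congr 1
      exact Quotient.sound (orbitRel_apply.2 ⟨⟨e, heE⟩, rfl⟩)
    have hrne : r c ≠ a ∧ r c ≠ b := by
      constructor <;> intro h
      · exact hca (by rw [← hκ c, h]; exact (hfixE _).1)
      · exact hcb (by rw [← hκ c, h]; exact (hfixE _).2)
    have hk : κ (e • c) = ⟨e, heE⟩ * κ c := by
      refine hsemi _ _ (r c) hrne.1 hrne.2 ?_
      have h1 : (κ (e • c) : G) • r c = e • c := by rw [← hrr]; exact hκ _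
      rw [h1, Subgroup.coe_mul, mul_smul, hκ]
    refine (congrArg μ (Subtype.ext ?_)).trans (map_one μ)
    show (s (e • c))⁻¹ * e * s c = 1
    simp only [s, if_neg heca, if_neg hecb, if_neg hca, if_neg hcb, hk, hrr, Subgroup.coe_mul]
    group

variable [Fintype G]

/-- The induced character is irreducible and takes the value `1` on the kernel. -/
theorem isIrr_indFun [IsSimpleGroup G] (hZ : Cfsg.IsZassenhausGroup G Ω) {a b : Ω} (hab : a ≠ b)
    (hodd : Odd (Nat.card ↥(stabilizer G a ⊓ stabilizer G b : Subgroup G)))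
    (H : Subgroup G) (hHa : H ≤ stabilizer G a) (hHcard : Nat.card H + 1 = Fintype.card Ω)
    (hHfix : ∀ u ∈ H, u ≠ 1 → ∀ c : Ω, u • c = c → c = a) {μ : stabilizer G a → ℂ}
    (hμ : Cfsg.IsCharacter (stabilizer G a) μ ∧ μ 1 = 1)
    (hμH : ∀ u : stabilizer G a, (u : G) ∈ H → μ u = 1) (hμne : μ ≠ fun _ => 1) :
    Cfsg.IsIrrCharacter G (Cfsg.indFun (stabilizer G a) μ) ∧
      ∀ u ∈ H, u ≠ 1 → Cfsg.indFun (stabilizer G a) μ u = 1 := by
  classical
  haveI : Fintype (stabilizer G a) := Fintype.ofFinite _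
  obtain ⟨l, hl⟩ := Clifford.Linear.exists_hom hμ
  have hμl : ∀ x, μ x = (l x : ℂ) := fun x => (congrFun hl x).symm
  have hcl := Characters.Basic.isClassFunction_of_isCharacter hμ.1
  have hext : ∀ (g : G) (x : G) (hg : g ∈ (stabilizer G a)), x ∈ (stabilizer G a) →
      Cfsg.extendByZero (stabilizer G a) μ (x⁻¹ * g * x) = μ ⟨g, hg⟩ := by
    intro g x hg hx
    have h := PermChar.ext0_conj μ hcl ((stabilizer G a).inv_mem hx) g
    rw [inv_inv] at h
    rw [h, PermChar.ext0_mem μ hg]
  refine ⟨?_, fun u hu hu1 => ?_⟩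
  · refine Characters.Basic.isIrrCharacter_of_classInner_self
      (Induced.Character.isCharacter_indFun (stabilizer G a) hμ.1) ?_
    rw [Induced.Basic.frobenius_reciprocity' (stabilizer G a) μ
      (Induced.Basic.isClassFunction_indFun (stabilizer G a) μ), Cfsg.classInner,
      inv_mul_eq_one₀ (Nat.cast_ne_zero.2 Nat.card_pos.ne')]
    -- nontrivial on the two-point stabilizer after twisting
    have hzero : ∀ x : G, x ∉ (stabilizer G a) →
        ∑ g : (stabilizer G a), Cfsg.extendByZero (stabilizer G a) μ (x⁻¹ * (g : G) * x) * conj (μ g) = 0 := by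
      intro x hx
      set c := x • a with hcdef
      have hca : c ≠ a := fun h => hx (mem_stabilizer_iff.2 h)
      set K : Subgroup (stabilizer G a) := (stabilizer G c).subgroupOf (stabilizer G a) with hK
      have hmem : ∀ g : G, x⁻¹ * g * x ∈ (stabilizer G a) ↔ g ∈ stabilizer G c := by
        intro g
        rw [mem_stabilizer_iff, mem_stabilizer_iff, mul_smul, mul_smul, inv_smul_eq_iff]
      let ν : K →* ℂˣ :=
        { toFun := fun g => l ⟨x⁻¹ * ((g : (stabilizer G a)) : G) * x, (hmem _).2 g.2⟩ * (l g.1)⁻¹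
          map_one' := by
            rw [show (⟨x⁻¹ * (((1 : K) : (stabilizer G a)) : G) * x, (hmem _).2 (1 : K).2⟩ : (stabilizer G a)) = 1 from
              Subtype.ext (by simp), OneMemClass.coe_one, map_one, inv_one, mul_one]
          map_mul' := fun g g' => by
            rw [show (⟨x⁻¹ * (((g * g' : K) : (stabilizer G a)) : G) * x, (hmem _).2 (g * g').2⟩ : (stabilizer G a)) =
              ⟨x⁻¹ * ((g : (stabilizer G a)) : G) * x, (hmem _).2 g.2⟩ * ⟨x⁻¹ * ((g' : (stabilizer G a)) : G) * x, (hmem _).2 g'.2⟩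
              from Subtype.ext (by simp [mul_assoc]), map_mul, Subgroup.coe_mul, map_mul, mul_inv,
              mul_mul_mul_comm] }
      have hν : ν ≠ 1 := by
        intro h1
        apply hμne
        obtain ⟨y, hya, hyb⟩ := Zassenhaus.exists_smul_pair hZ hab hca.symm
        set t := y⁻¹ * x with htdef
        have ht : t • a = b := by
          rw [htdef, mul_smul, inv_smul_eq_iff, hyb]
        funext g
        rw [hμl]
        have hgb : (g : G) • b ≠ a := fun h => hab.symm
          (MulAction.injective (g : G) (h.trans (mem_stabilizer_iff.1 g.2).symm))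
        obtain ⟨h, hh, hhb⟩ := exists_translate hHa hHcard hHfix hab.symm hgb
        set e := h⁻¹ * (g : G) with hedef
        have hea : e • a = a := by
          rw [hedef, mul_smul, mem_stabilizer_iff.1 g.2, inv_smul_eq_iff, mem_stabilizer_iff.1 (hHa hh)]
        have heb : e • b = b := by rw [hedef, mul_smul, ← hhb, inv_smul_smul]
        have hg' : g = ⟨h, hHa hh⟩ * ⟨e, hea⟩ := Subtype.ext (mul_inv_cancel_left h (g : G)).symm
        have hlh : l ⟨h, hHa hh⟩ = 1 := Units.ext (by rw [← hμl, hμH _ hh]; rfl)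
        suffices hle : l ⟨e, hea⟩ = 1 by rw [hg', map_mul, hlh, hle, one_mul, Units.val_one]
        -- `μ` agrees with its twist
        have hye : y * e * y⁻¹ ∈ (stabilizer G a) := (stabilizer G a).mul_mem ((stabilizer G a).mul_mem hya hea) ((stabilizer G a).inv_mem hya)
        have hyec : (⟨y * e * y⁻¹, hye⟩ : (stabilizer G a)) ∈ K := by
          show y * e * y⁻¹ ∈ stabilizer G c
          rw [mem_stabilizer_iff, ← hyb, mul_smul, inv_smul_smul, mul_smul, heb]
        have h2 := DFunLike.congr_fun h1 ⟨_, hyec⟩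
        simp only [ν, MonoidHom.coe_mk, OneHom.coe_mk, MonoidHom.one_apply, mul_inv_eq_one] at h2
        have h3 : l ⟨y * e * y⁻¹, hye⟩ = l ⟨e, hea⟩ := by
          rw [show (⟨y * e * y⁻¹, hye⟩ : (stabilizer G a)) = ⟨y, hya⟩ * ⟨e, hea⟩ * (⟨y, hya⟩ : (stabilizer G a))⁻¹ from rfl, map_mul,
            map_mul, map_inv, mul_comm (l ⟨y, hya⟩), mul_inv_cancel_right]
        have hmem2 : t⁻¹ * e * t ∈ (stabilizer G a) := by
          rw [mem_stabilizer_iff, mul_smul, mul_smul, ht, heb, inv_smul_eq_iff, ht]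
        have h4 : l ⟨x⁻¹ * (y * e * y⁻¹) * x, (hmem _).2 hyec⟩ = l ⟨t⁻¹ * e * t, hmem2⟩ := by
          congr 1
          apply Subtype.ext
          show x⁻¹ * (y * e * y⁻¹) * x = t⁻¹ * e * t
          rw [htdef]
          group
        rw [h4, h3] at h2
        have h5 := mul_conj_eq_one hZ hab l ht hea heb
        rw [h2] at h5
        obtain ⟨k, hk⟩ := hodd
        have h6 : (⟨e, hea⟩ : (stabilizer G a)) ^ (2 * k + 1) = 1 := by
          apply Subtype.ext
          rw [SubmonoidClass.coe_pow, OneMemClass.coe_one, ← hk]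
          exact congrArg Subtype.val (pow_card_eq_one'
            (x := (⟨e, Zassenhaus.mem_pair_stabilizer.2 ⟨hea, heb⟩⟩ :
              ↥(stabilizer G a ⊓ stabilizer G b))))
        have h7 := congrArg l h6
        rw [map_one, map_pow, pow_succ, pow_mul, pow_two, h5, one_pow, one_mul] at h7
        exact h7
      obtain ⟨g0, hg0⟩ : ∃ g0 : K, ν g0 ≠ 1 := by
        by_contra h
        push Not at h
        exact hν (MonoidHom.ext h)
      haveI : Fintype K := Fintype.ofFinite _
      have hsum : ∑ g : K, (ν g : ℂ) = 0 := by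
        have h1 : (ν g0 : ℂ) * ∑ g : K, (ν g : ℂ) = 1 * ∑ g : K, (ν g : ℂ) := by
          rw [Finset.mul_sum, one_mul]
          exact Fintype.sum_equiv (Equiv.mulLeft g0) _ _ fun g => by simp
        by_contra h
        exact hg0 (Units.ext (mul_right_cancel₀ h h1))
      have hconj : ∀ g : (stabilizer G a), conj (μ g) = ((l g)⁻¹ : ℂˣ) := fun g => by
        rw [← Characters.Basic.apply_inv hμ.1, hμl, map_inv]
      rw [← hsum]
      symm
      refine Finset.sum_of_injOn (fun g : K => (g : (stabilizer G a))) Subtype.val_injective.injOn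
        (fun _ _ => Finset.mem_univ _) (fun g _ hg => ?_) (fun g _ => ?_)
      · rw [PermChar.ext0_notMem μ (fun h => hg ⟨⟨g, (hmem (g : G)).1 h⟩, Finset.mem_univ _, rfl⟩), zero_mul]
      · rw [PermChar.ext0_mem μ ((hmem ((g : stabilizer G a) : G)).2 g.2), hconj, hμl, ← Units.val_mul]
        rfl
    have hone : ∀ x : G, x ∈ (stabilizer G a) →
        ∑ g : (stabilizer G a), Cfsg.extendByZero (stabilizer G a) μ (x⁻¹ * (g : G) * x) * conj (μ g) = (Nat.card (stabilizer G a) : ℂ) := by
      intro x hx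
      have h := Characters.Basic.classInner_self_irr
        (⟨μ, Characters.Basic.isIrrCharacter_of_degree_one hμ.1 hμ.2⟩ : Cfsg.IrrCharacter (stabilizer G a))
      rw [Cfsg.classInner, inv_mul_eq_one₀ (Nat.cast_ne_zero.2 Nat.card_pos.ne')] at h
      rw [h]
      exact Finset.sum_congr rfl fun g _ => by rw [hext (g : G) x g.2 hx]
    simp only [Cfsg.indFun, mul_assoc, ← Finset.mul_sum]
    have hswap : ∑ g : (stabilizer G a), (∑ x : G, Cfsg.extendByZero (stabilizer G a) μ (x⁻¹ * (g : G) * x)) * conj (μ g) =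
        (Nat.card (stabilizer G a) : ℂ) * Nat.card (stabilizer G a) := by
      simp only [Finset.sum_mul]
      rw [Finset.sum_comm, ← Finset.sum_filter_add_sum_filter_not Finset.univ (· ∈ (stabilizer G a)),
        Finset.sum_eq_zero (s := Finset.univ.filter fun x => x ∉ (stabilizer G a))
          (fun x hx => hzero x (Finset.mem_filter.1 hx).2), add_zero,
        Finset.sum_congr rfl (fun x hx => hone x (Finset.mem_filter.1 hx).2), Finset.sum_const,
        nsmul_eq_mul, ← Fintype.card_subtype, ← Nat.card_eq_fintype_card]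
    simp only [mul_assoc] at hswap
    rw [hswap, ← mul_assoc, inv_mul_cancel₀ (Nat.cast_ne_zero.2 Nat.card_pos.ne'), one_mul]
  · rw [Cfsg.indFun, ← Finset.sum_filter_add_sum_filter_not Finset.univ (· ∈ (stabilizer G a)),
      Finset.sum_eq_zero (s := Finset.univ.filter fun x => x ∉ (stabilizer G a)) (fun x hx => ?_), add_zero,
      Finset.sum_congr rfl (fun x hx => (hext u x (hHa hu) (Finset.mem_filter.1 hx).2).trans
        (hμH _ hu)), Finset.sum_const, nsmul_eq_mul, mul_one, ← Fintype.card_subtype,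
      ← Nat.card_eq_fintype_card, inv_mul_cancel₀ (Nat.cast_ne_zero.2 Nat.card_pos.ne')]
    refine PermChar.ext0_notMem μ fun h => (Finset.mem_filter.1 hx).2 ?_
    rw [mem_stabilizer_iff, mul_smul, mul_smul, inv_smul_eq_iff] at h
    exact mem_stabilizer_iff.2 (hHfix u hu hu1 _ h)

end Cfsg.Agent.Lib.Brauer.ZassenhausChar
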